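import Cfsg.Agent.S8ThreeLocal.Embed
import Cfsg.Agent.A8ThreeLocal.Final
import Cfsg.Agent.TwoTransfer.Basic

/-!
The case of the symmetric group of degree eight.
-/

set_option autoImplicit false
set_option maxRecDepth 20000
set_option synthInstance.maxSize 2000
set_option synthInstance.maxHeartbeats 400000

namespace Cfsg.Agent.S8ThreeLocal

open Equiv Equiv.Perm Subgroup
open Cfsg.Agent.ShortPres Cfsg.Agent.AltMult
open Cfsg.Agent.A8ThreeLocal (A5 c5 t5 v5 s5 a1 a2 a3 b1 r3 s3 tau InV1 InV2 tauHom A8 iF iG xg iG_xg iF_xg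
  tA iA zA zB KK mk' mem_KK centralizer_card_conj invol_class)

/-- The transposition of the last two points. -/
def sw : Perm (Fin 8) := swap 6 7

/-- Conjugation by `sw`. -/
def kap : A8 →* A8 where
  toFun m := ⟨sw * m.1 * sw, mem_alternatingGroup.2 (by
    rw [map_mul, map_mul, mem_alternatingGroup.1 m.2, mul_one, ← map_mul, show sw * sw = 1 by decide +kernel, map_one])⟩
  map_one' := Subtype.ext (by show sw * 1 * sw = 1; decide +kernel)
  map_mul' a b := Subtype.ext (by
    show sw * (a.1 * b.1) * sw = sw * a.1 * sw * (sw * b.1 * sw)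
    rw [show sw * a.1 * sw * (sw * b.1 * sw) = sw * a.1 * (sw * sw) * b.1 * sw by group, show sw * sw = 1 by decide +kernel]
    group)

theorem sw_facts : sw * sw = 1 ∧ sign sw = -1 ∧ extendDomainHom A8ThreeLocal.eF tau = sw ∧
    extendDomainHom A8ThreeLocal.eG tau = sw := by decide +kernel

theorem kap_iF (p : A5) : kap (iF p) = iF (tauHom p) := Subtype.ext (by
  show sw * extendDomainHom A8ThreeLocal.eF p.1 * sw = extendDomainHom A8ThreeLocal.eF (tau * p.1 * tau)
  rw [map_mul, map_mul, sw_facts.2.2.1])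

theorem kap_iG (p : A5) : kap (iG p) = iG (tauHom p) := Subtype.ext (by
  show sw * extendDomainHom A8ThreeLocal.eG p.1 * sw = extendDomainHom A8ThreeLocal.eG (tau * p.1 * tau)
  rw [map_mul, map_mul, sw_facts.2.2.2])

theorem A8_gen (L : Subgroup A8) (hF : ∀ p, iF p ∈ L) (hG : ∀ p, iG p ∈ L) : L = ⊤ := by
  refine closure_cycA_eq_top (u := (6 : Fin 8)) (v := 7) (by decide) L fun i hiu hiv => ?_
  have h6 : i.val ≠ 6 := fun e => hiu (Fin.ext e)
  have h7 : i.val ≠ 7 := fun e => hiv (Fin.ext e)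
  by_cases h3 : i.val < 3
  · convert hG (xg ⟨i.val, h3⟩) using 1
    exact Subtype.ext (iG_xg ⟨i.val, h3⟩).symm
  · convert hF (xg ⟨i.val - 3, by omega⟩) using 1
    refine Subtype.ext ((iF_xg _).trans ?_).symm
    show cyc 6 7 _ = cyc 6 7 i
    congr 1
    exact Fin.ext (by simp; omega)

/-- Parity decomposition. -/
theorem parity (m : Perm (Fin 8)) : ∃ a : A8, m = a ∨ m = a * sw := by
  rcases Int.units_eq_one_or (sign m) with e | e
  · exact ⟨⟨m, mem_alternatingGroup.2 e⟩, Or.inl rfl⟩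
  · refine ⟨⟨m * sw, mem_alternatingGroup.2 (by rw [map_mul, e, sw_facts.2.1]; decide)⟩, Or.inr ?_⟩
    show m = m * sw * sw
    rw [mul_assoc, sw_facts.1, mul_one]

theorem transp_reps : cycleType (sw : Perm (Fin 8)) = {2} ∧ cycleType ((tA : A8) : Perm (Fin 8)) = {2, 2} ∧
    cycleType (swap (0 : Fin 8) 3 * swap 1 4 * swap 2 5) = {2, 2, 2} ∧
    cycleType ((iA : A8) : Perm (Fin 8)) = {2, 2, 2, 2} ∧
    swap (0 : Fin 8) 3 * swap 1 4 * swap 2 5 ≠ sw ∧ ((iA : A8) : Perm (Fin 8)) ≠ sw ∧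
    (swap (0 : Fin 8) 3 * swap 1 4 * swap 2 5) * ((zA * zB : A8) : Perm (Fin 8)) =
      ((zA * zB : A8) : Perm (Fin 8)) * (swap (0 : Fin 8) 3 * swap 1 4 * swap 2 5) ∧
    ((iA : A8) : Perm (Fin 8)) * ((zA * zB : A8) : Perm (Fin 8)) = ((zA * zB : A8) : Perm (Fin 8)) * iA ∧
    iA * zA * iA = zB ∧ iA * iF t5 * iA = iG t5 ∧ iA * iA = 1 ∧ iA ≠ 1 ∧ zA ≠ zB ∧ tA * tA = 1 ∧ tA ≠ 1 := by
  decide +kernel

theorem invol_eight (m : Perm (Fin 8)) (h2 : m * m = 1) (h1 : m ≠ 1) :
    IsConj sw m ∨ IsConj ((tA : A8) : Perm (Fin 8)) m ∨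
      IsConj (swap (0 : Fin 8) 3 * swap 1 4 * swap 2 5) m ∨ IsConj ((iA : A8) : Perm (Fin 8)) m := by
  have : Fact (Nat.Prime 2) := ⟨Nat.prime_two⟩
  have ho : orderOf m = 2 := orderOf_eq_prime (by rw [pow_two]; exact h2) h1
  obtain ⟨n, hn⟩ := cycleType_prime_order (ho ▸ Nat.prime_two : (orderOf m).Prime)
  rw [ho] at hn
  have hsum : m.support.card = 2 * (n + 1) := by
    rw [← sum_cycleType, hn, Multiset.sum_replicate]; simp [mul_comm]
  have hle : m.support.card ≤ 8 := (Finset.card_le_univ _).trans (by simp)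
  obtain ⟨r1, r2, r3, r4, -⟩ := transp_reps
  rcases (show n = 0 ∨ n = 1 ∨ n = 2 ∨ n = 3 by omega) with rfl | rfl | rfl | rfl
  · exact Or.inl (isConj_iff_cycleType_eq.2 (by rw [hn, r1]; rfl))
  · exact Or.inr (Or.inl (isConj_iff_cycleType_eq.2 (by rw [hn, r2]; rfl)))
  · exact Or.inr (Or.inr (Or.inl (isConj_iff_cycleType_eq.2 (by rw [hn, r3]; rfl))))
  · exact Or.inr (Or.inr (Or.inr (isConj_iff_cycleType_eq.2 (by rw [hn, r4]; rfl))))

theorem card_inf_index_two {G : Type*} [Group G] [Finite G] (N H : Subgroup G) [N.Normal] (hN : N.index = 2)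
    {x : G} (hx : x ∈ H) (hxN : x ∉ N) : Nat.card (N.subgroupOf H) * 2 = Nat.card H := by
  have hd : (N.subgroupOf H).index ∣ 2 := hN ▸ N.relIndex_dvd_index_of_normal H
  rcases (Nat.dvd_prime Nat.prime_two).1 hd with e | e
  · exact absurd (show (⟨x, hx⟩ : H) ∈ N.subgroupOf H from (index_eq_one.1 e) ▸ mem_top _) hxN
  · rw [← e]; exact card_mul_index _

theorem mem_or_mul {G : Type*} [Group G] {N : Subgroup G} (hN : N.index = 2) {x : G} (hxN : x ∉ N) (g : G) :
    g ∈ N ∨ x * g ∈ N := by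
  by_cases hg : g ∈ N
  · exact Or.inl hg
  · exact Or.inr ((mul_mem_iff_of_index_two hN).2 (iff_of_false hxN hg))

/-- An index-two restriction of a group of shape `Sym(3) × Sym(5)`. -/
theorem KK_gen (k : KK) : ∃ a : Fin 3, ∃ p : A5,
    (k : P35) = zP ^ (a : ℕ) * inA p ∨ (k : P35) = sP * eP * (zP ^ (a : ℕ) * inA p) := by
  have key : ∀ σ : Perm (Fin 3), sign σ = 1 → ∃ a : Fin 3, σ = r3 ^ (a : ℕ) := by decide +kernel
  rcases Int.units_eq_one_or (sign k.1.1) with e | e
  · obtain ⟨a, ha⟩ := key _ e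
    exact ⟨a, ⟨k.1.2, mem_alternatingGroup.2 (by rw [← mem_KK.1 k.2, e])⟩,
      Or.inl (Prod.ext (ha.trans (mul_one _).symm) (by simp [zP, inA, inR]))⟩
  · obtain ⟨a, ha⟩ := key (s3 * k.1.1) (by rw [map_mul, e, show sign s3 = -1 by decide +kernel]; decide)
    refine ⟨a, ⟨tau * k.1.2, mem_alternatingGroup.2 (by
      rw [map_mul, ← mem_KK.1 k.2, e, show sign tau = -1 by decide +kernel]; decide)⟩, Or.inr (Prod.ext ?_ ?_)⟩
    · show k.1.1 = s3 * 1 * (r3 ^ (a : ℕ) * 1)
      rw [← ha, mul_one, mul_one, ← mul_assoc, A8ThreeLocal.s3_sq, one_mul]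
    · show k.1.2 = 1 * tau * ((1 : Perm (Fin 5)) ^ (a : ℕ) * (tau * k.1.2))
      rw [one_mul, one_pow, one_mul, ← mul_assoc, A8ThreeLocal.tau_sq, one_mul]

variable {G : Type*} [Group G] [Finite G] {h : Hyp G}

namespace Hyp.Split

variable (S : Hyp.Split h)

theorem exists_sym : ∃ Ψ : Perm (Fin 8) →* G, Function.Injective Ψ ∧ Ψ sw = h.e ∧
    (∀ p, Ψ (iF p : A8) = h.f p) ∧ ∀ p, Ψ (iG p : A8) = S.g p := by
  obtain ⟨Φ, hinj, hF, hG⟩ := S.exists_embedding
  have hcomm : ∀ a : A8, h.e * Φ a = Φ (kap a) * h.e := by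
    intro a
    have key : ((MulAut.conj h.e).toMonoidHom.comp Φ) a = (Φ.comp kap) a := by
      have hE : ∀ w, MulAut.conj h.e w = h.e * w * h.e := fun w => by rw [MulAut.conj_apply, h.e_inv]
      have htop := A8_gen (((MulAut.conj h.e).toMonoidHom.comp Φ).eqLocus (Φ.comp kap))
        (fun p => show MulAut.conj h.e (Φ (iF p)) = Φ (kap (iF p)) by rw [hE, hF, kap_iF, hF, h.e_f])
        (fun p => show MulAut.conj h.e (Φ (iG p)) = Φ (kap (iG p)) by rw [hE, hG, kap_iG, hG, S.e_g])
      exact (htop ▸ mem_top a : a ∈ ((MulAut.conj h.e).toMonoidHom.comp Φ).eqLocus (Φ.comp kap))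
    have e' : h.e * Φ a * h.e = Φ (kap a) := by
      rw [MonoidHom.comp_apply, MonoidHom.comp_apply, MulEquiv.coe_toMonoidHom, MulAut.conj_apply, h.e_inv] at key
      exact key
    rw [← e', mul_assoc (h.e * Φ a), h.e_sq, mul_one]
  let F : Perm (Fin 8) → G := fun m =>
    if hm : sign m = 1 then Φ ⟨m, mem_alternatingGroup.2 hm⟩
    else Φ ⟨m * sw, mem_alternatingGroup.2 (by
      rw [map_mul, (Int.units_eq_one_or (sign m)).resolve_left hm, sw_facts.2.1]; decide)⟩ * h.e
  have hFe : ∀ a : A8, F a = Φ a := fun a => by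
    simp only [F]; rw [dif_pos (mem_alternatingGroup.1 a.2)]
  have hFo : ∀ a : A8, F (a * sw) = Φ a * h.e := fun a => by
    simp only [F]
    rw [dif_neg (by rw [map_mul, mem_alternatingGroup.1 a.2, sw_facts.2.1]; decide)]
    congr 2
    exact Subtype.ext (show (a : Perm (Fin 8)) * sw * sw = a by rw [mul_assoc, sw_facts.1, mul_one])
  have hk : ∀ b : A8, sw * (b : Perm (Fin 8)) = (kap b : Perm (Fin 8)) * sw := fun b => by
    show sw * (b : Perm (Fin 8)) = sw * b * sw * sw
    rw [mul_assoc _ sw sw, sw_facts.1, mul_one]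
  have hmul : ∀ m n, F (m * n) = F m * F n := by
    intro m n
    obtain ⟨a, rfl | rfl⟩ := parity m <;> obtain ⟨b, rfl | rfl⟩ := parity n
    · rw [← Subgroup.coe_mul, hFe, hFe, hFe, map_mul]
    · rw [← mul_assoc, ← Subgroup.coe_mul, hFo, hFo, hFe, map_mul, mul_assoc]
    · rw [mul_assoc, hk, ← mul_assoc, ← Subgroup.coe_mul, hFo, hFo, hFe, map_mul, mul_assoc _ h.e, hcomm, mul_assoc]
    · rw [show (a : Perm (Fin 8)) * sw * ((b : Perm (Fin 8)) * sw) = (a : Perm (Fin 8)) * (sw * b) * sw by group, hk,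
        show (a : Perm (Fin 8)) * ((kap b : Perm (Fin 8)) * sw) * sw = (a : Perm (Fin 8)) * kap b * (sw * sw) by group,
        sw_facts.1, mul_one, ← Subgroup.coe_mul, hFe, hFo, hFo, map_mul, mul_assoc (Φ a) h.e, ← mul_assoc h.e, hcomm,
        mul_assoc (Φ (kap b)), h.e_sq, mul_one]
  let Ψ : Perm (Fin 8) →* G := MonoidHom.mk' F hmul
  have hnot : ∀ a : A8, Φ a ≠ h.e := by
    intro a ha
    have h2 : a * a = 1 := hinj (by rw [map_mul, ha, h.e_sq, map_one])
    have h1 : a ≠ 1 := fun e => h.e_ne (by rw [← ha, e, map_one])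
    rcases invol_class a h2 h1 with hc | hc
    · refine h.e_not_conj_t ?_
      rw [← ha]
      refine (Φ.map_isConj hc).symm.trans ?_
      rw [show Φ tA = h.f a1 from hF a1]
      exact isConj_iff.2 ⟨h.f s5, by rw [← map_inv, ← map_mul, ← map_mul, s5_facts.1]; rfl⟩
    · have hcon : IsConj h.e (Φ iA) := ha ▸ (Φ.map_isConj hc).symm
      have hzA : Φ zA = h.z := (hG c5).trans S.g_c5
      have hzB : Φ zB = h.z' := hF c5
      have e := h.conj_e_cent_y hcon (by
        rw [← hzA, ← hzB, ← map_mul, ← map_mul, ← map_mul]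
        exact congrArg Φ (Subtype.ext transp_reps.2.2.2.2.2.2.2.1))
      have e2 : h.e * h.z * h.e = h.z' := by
        rw [← e, ← hzA, ← hzB, ← map_mul, ← map_mul, transp_reps.2.2.2.2.2.2.2.2.1]
      rw [h.e_z, mul_assoc, h.e_sq, mul_one, ← hzA, ← hzB] at e2
      exact transp_reps.2.2.2.2.2.2.2.2.2.2.2.2.1 (hinj e2)
  refine ⟨Ψ, (injective_iff_map_eq_one Ψ).2 fun m hm => ?_, ?_, fun p => (hFe _).trans (hF p), fun p => (hFe _).trans (hG p)⟩
  · obtain ⟨a, rfl | rfl⟩ := parity m
    · have ha : Φ a = 1 := (hFe a).symm.trans hm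
      rw [show a = 1 from hinj (ha.trans (map_one Φ).symm), OneMemClass.coe_one]
    · have ha : Φ a * h.e = 1 := (hFo a).symm.trans hm
      exact absurd ((mul_eq_one_iff_eq_inv.1 ha).trans h.e_inv) (hnot a)
  · have := hFo 1
    rw [OneMemClass.coe_one, one_mul, map_one, one_mul] at this
    exact this

include S in
theorem nonempty_iso (hse : h.i * h.t * h.i = h.s * h.e) : Nonempty (G ≃* Perm (Fin 8)) := by
  classical
  have : Fact (Nat.Prime 2) := ⟨Nat.prime_two⟩
  obtain ⟨Ψ, hinj, hsw, hF, hG⟩ := S.exists_sym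
  obtain ⟨r1, r2, r3, r4, n3, n4, y3, y4, iz, it, ii, i1, -, -, -⟩ := transp_reps
  have hzA : Ψ (zA : A8) = h.z := (hG c5).trans S.g_c5
  have hzB : Ψ (zB : A8) = h.z' := hF c5
  -- involutions conjugate to `e`
  have hE : ∀ m, IsConj h.e (Ψ m) → IsConj sw m := by
    intro m hm
    have h1 : m ≠ 1 := by
      rintro rfl
      rw [map_one] at hm
      exact h.e_ne (isConj_one_left.1 hm)
    have h2 : m * m = 1 := hinj (by
      obtain ⟨g, hg⟩ := isConj_iff.1 hm
      rw [map_mul, ← hg, map_one]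
      calc g * h.e * g⁻¹ * (g * h.e * g⁻¹) = g * (h.e * h.e) * g⁻¹ := by group
        _ = 1 := by rw [h.e_sq]; group)
    have hy : ∀ r : Perm (Fin 8), r * ((zA * zB : A8) : Perm (Fin 8)) = ((zA * zB : A8) : Perm (Fin 8)) * r →
        r ≠ sw → IsConj r m → False := by
      intro r hr hne hc
      have hr2 := congrArg Ψ hr
      rw [map_mul, map_mul, Subgroup.coe_mul, map_mul, hzA, hzB] at hr2
      have e := h.conj_e_cent_y (hm.trans (Ψ.map_isConj hc).symm) hr2
      exact hne (hinj (e.trans hsw.symm))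
    rcases invol_eight m h2 h1 with c | c | c | c
    · exact c
    · exfalso
      refine h.e_not_conj_t (hm.trans ((Ψ.map_isConj c).symm.trans ?_))
      rw [show Ψ ((tA : A8) : Perm (Fin 8)) = h.f a1 from hF a1]
      exact isConj_iff.2 ⟨h.f s5, by rw [← map_inv, ← map_mul, ← map_mul, s5_facts.1]; rfl⟩
    · exact (hy _ y3 n3 c).elim
    · exact (hy _ y4 n4 c).elim
  -- the centraliser of `e`
  obtain ⟨φ, hφs, hφk⟩ := h.se_six hse
  have hC : h.C ≤ Ψ.range := by
    let ι : Perm (Fin 6) × Perm (Fin 2) →* Perm (Fin 8) :=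
      (finSumFinEquiv (m := 6) (n := 2)).permCongrHom.toMonoidHom.comp (sumCongrHom (Fin 6) (Fin 2))
    have hιinj : Function.Injective ι :=
      (finSumFinEquiv (m := 6) (n := 2)).permCongrHom.injective.comp sumCongrHom_injective
    have hιsw : ι (1, swap 0 1) = sw := by decide +kernel
    have h2c : ∀ b : Perm (Fin 2), b * swap 0 1 = swap 0 1 * b := by decide +kernel
    have hle : (Ψ.comp ι).range ≤ h.C := by
      rintro _ ⟨⟨a, b⟩, rfl⟩
      rw [h.mem_C, MonoidHom.comp_apply, ← hsw, ← hιsw, ← map_mul, ← map_mul, ← map_mul, ← map_mul]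
      congr 2
      exact Prod.ext (by simp) (h2c b)
    have heq := eq_of_le_of_card_ge hle (by
      rw [h.card_C_of_six φ hφs hφk, ← Nat.card_congr (MonoidHom.ofInjective (show Function.Injective (Ψ.comp ι) from hinj.comp hιinj)).toEquiv,
        Nat.card_prod, Nat.card_perm, Nat.card_perm, Nat.card_fin, Nat.card_fin]
      rfl)
    rw [← heq]
    rintro _ ⟨x, rfl⟩
    exact ⟨ι x, rfl⟩
  -- a Sylow 2-subgroup
  have hswp : IsPGroup 2 (zpowers sw) := IsPGroup.of_card (n := 1) (by
    rw [Nat.card_zpowers, pow_one]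
    exact orderOf_eq_prime (by rw [pow_two]; exact sw_facts.1) (fun e => by
      have := sw_facts.2.1
      rw [e, map_one] at this
      exact absurd this (by decide)))
  obtain ⟨P0, hP0⟩ := hswp.exists_le_sylow
  have hswP : sw ∈ P0 := hP0 (mem_zpowers _)
  obtain ⟨P, hP⟩ := (P0.2.map Ψ).exists_le_sylow
  have hPeq : (P : Subgroup G) = (P0 : Subgroup (Perm (Fin 8))).map Ψ := by
    set Q := (P0 : Subgroup (Perm (Fin 8))).map Ψ with hQ
    by_contra hne
    have hlt : Q.subgroupOf P < ⊤ := lt_top_iff_ne_top.2 fun e => hne (le_antisymm (subgroupOf_eq_top.1 e) hP)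
    have : Group.IsNilpotent (P : Subgroup G) := P.2.isNilpotent
    obtain ⟨q, hqN, hqQ⟩ := SetLike.exists_of_lt (normalizerCondition_of_isNilpotent _ hlt)
    have hq : ∀ x ∈ Q, (q : G) * x * (q : G)⁻¹ ∈ Q := fun x hx =>
      (Subgroup.mem_normalizer_iff.1 hqN ⟨x, hP hx⟩).1 hx
    obtain ⟨m, -, hm⟩ := hq h.e ⟨sw, hswP, hsw⟩
    obtain ⟨c, hc⟩ := isConj_iff.1 (hE m (isConj_iff.2 ⟨q, hm.symm⟩))
    obtain ⟨m', hm'⟩ := hC (h.mem_C.2 (show (Ψ c)⁻¹ * q * h.e = h.e * ((Ψ c)⁻¹ * q) by
      have e1 : (q : G) * h.e = Ψ m * q := by rw [hm, inv_mul_cancel_right]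
      rw [mul_assoc, e1, ← hc, map_mul, map_mul, map_inv, hsw]
      group))
    set q' := c * m'
    have hq' : Ψ q' = q := by rw [map_mul, hm', mul_inv_cancel_left]
    have hnorm : q' ∈ normalizer ((P0 : Subgroup (Perm (Fin 8))) : Set (Perm (Fin 8))) := by
      have hle : (P0 : Subgroup (Perm (Fin 8))).map (MulAut.conj q').toMonoidHom ≤ P0 := by
        rintro _ ⟨x, hx, rfl⟩
        obtain ⟨x', hx', e⟩ := hq (Ψ x) ⟨x, hx, rfl⟩
        rw [MulEquiv.coe_toMonoidHom, MulAut.conj_apply]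
        rw [← hq', ← map_inv, ← map_mul, ← map_mul] at e
        exact hinj e ▸ hx'
      have heq := eq_of_le_of_card_ge hle (card_map_of_injective (MulAut.conj q').injective).ge
      rw [Subgroup.mem_normalizer_iff]
      intro x
      refine ⟨fun hx => hle ⟨x, hx, rfl⟩, fun hx => ?_⟩
      obtain ⟨w, hw, e⟩ : q' * x * q'⁻¹ ∈ (P0 : Subgroup (Perm (Fin 8))).map (MulAut.conj q').toMonoidHom := heq.symm ▸ hx
      exact (MulAut.conj q').injective e ▸ hw
    have hqp : IsPGroup 2 (zpowers q') := by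
      obtain ⟨n, hn⟩ := IsPGroup.iff_orderOf.1 P.2 q
      refine IsPGroup.of_card (n := n) ?_
      rw [Nat.card_zpowers, ← orderOf_injective Ψ hinj, hq', orderOf_coe, hn]
    have hsup : IsPGroup 2 (zpowers q' ⊔ (P0 : Subgroup (Perm (Fin 8))) : Subgroup (Perm (Fin 8))) :=
      IsPGroup.to_sup_of_normal_right' hqp P0.2 (zpowers_le.2 hnorm)
    have := P0.3 hsup le_sup_right
    exact hqQ ⟨q', this ▸ mem_sup_left (mem_zpowers _), hq'⟩
  -- transfer
  let M : Subgroup G := ((alternatingGroup (Fin 8)) ⊓ (P0 : Subgroup (Perm (Fin 8)))).map Ψ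
  have hM : M.relIndex P = 2 := by
    rw [hPeq, relIndex_map_map_of_injective _ _ hinj, inf_relIndex_right]
    have hd : (alternatingGroup (Fin 8)).relIndex (P0 : Subgroup (Perm (Fin 8))) ∣ 2 := by
      have := (alternatingGroup (Fin 8)).relIndex_dvd_index_of_normal (P0 : Subgroup (Perm (Fin 8)))
      rwa [alternatingGroup.index_eq_two] at this
    rcases (Nat.dvd_prime Nat.prime_two).1 hd with e | e
    · exfalso
      have := mem_alternatingGroup.1 ((relIndex_eq_one.1 e) hswP)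
      rw [sw_facts.2.1] at this
      exact absurd this (by decide)
    · exact e
  have hsgn : ∀ m, IsConj sw m → m ∉ alternatingGroup (Fin 8) := fun m hm hA => by
    obtain ⟨c, rfl⟩ := isConj_iff.1 hm
    have := mem_alternatingGroup.1 hA
    rw [map_mul, map_mul, map_inv, mul_comm (sign c), mul_inv_cancel_right, sw_facts.2.1] at this
    exact absurd this (by decide)
  obtain ⟨N, hNn, hN2, heN⟩ := TwoTransfer.exists_index_two P M hM h.e (by
      show h.e ∈ (P : Subgroup G)
      rw [hPeq]; exact ⟨sw, hswP, hsw⟩)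
    (fun k g hk _ => by
      rw [show h.e ^ (2 ^ k) = 1 by
        obtain ⟨j, rfl⟩ := Nat.exists_eq_add_of_le hk
        rw [pow_add, pow_mul, pow_one, pow_two, h.e_sq, one_pow]]
      rw [mul_one, inv_mul_cancel]
      exact one_mem _)
    (fun g hg hgM => by
      obtain ⟨m, hm, e⟩ := hgM
      exact hsgn m (hE m (isConj_iff.2 ⟨g⁻¹, by rw [inv_inv]; exact e.symm⟩)) (mem_inf.1 hm).1)
  -- the alternating group lies in `N`
  have hA8 : ∀ a : A8, Ψ (a : Perm (Fin 8)) ∈ N := by
    let Λ : A8 →* G ⧸ N := (QuotientGroup.mk' N).comp (Ψ.comp (alternatingGroup (Fin 8)).subtype)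
    have : IsSimpleGroup A8 := alternatingGroup.isSimpleGroup (by simp)
    rcases (MonoidHom.normal_ker Λ).eq_bot_or_eq_top with hk | hk
    · have := Nat.card_le_card_of_injective Λ ((MonoidHom.ker_eq_bot_iff Λ).1 hk)
      rw [← index_eq_card, hN2, nat_card_alternatingGroup, Nat.card_fin] at this
      norm_num [Nat.factorial] at this
    · intro a
      exact (QuotientGroup.eq_one_iff _).1 (MonoidHom.mem_ker.1 (hk ▸ mem_top a : a ∈ Λ.ker))
  have hzN : h.z ∈ N := hzA ▸ hA8 _
  have hfN : ∀ p, h.f p ∈ N := fun p => hF p ▸ hA8 _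
  have huN : h.psi (sP * eP) ∈ N := by
    rw [map_mul]
    show h.s * h.e ∈ N
    rw [← hse]
    nth_rw 2 [← h.i_inv]
    exact hNn.conj_mem _ (hfN t5) _
  have hKN : ∀ k : KK, h.psi (k : P35) ∈ N := by
    intro k
    have key : ∀ (a : Fin 3) (p : A5), h.psi (zP ^ (a : ℕ) * inA p) ∈ N := fun a p => by
      rw [map_mul, map_pow]; exact mul_mem (pow_mem hzN _) (hfN p)
    obtain ⟨a, p, e | e⟩ := KK_gen k <;> rw [e]
    · exact key a p
    · rw [map_mul h.psi (sP * eP)]; exact mul_mem huN (key a p)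
  have heN' : ∀ g : G, g ∈ N → g * h.e ∉ N := fun g hg hge => heN ((N.mul_mem_cancel_left hg).1 hge)
  have hDN : h.D ≤ N := fun d hd => by
    obtain ⟨a, b, rfl⟩ := h.mem_D hd
    rw [h.dd_eq]
    exact mul_mem (pow_mem hzN _) (pow_mem (hfN c5) _)
  have heD : h.e ∈ normalizer (h.D : Set G) :=
    h.mem_norm_of_map fun d hd => by rw [h.e_D hd, mul_inv_cancel_right]; exact hd
  have hCN : ∀ H : Subgroup G, h.e ∈ H → Nat.card (N.subgroupOf H) * 2 = Nat.card H :=
    fun H hH => card_inf_index_two N H hN2 hH heN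
  have hcard_sub : ∀ H : Subgroup G, Nat.card (H.subgroupOf N) = Nat.card (N.subgroupOf H) := fun H => by
    rw [← card_map_of_injective (f := N.subtype) Subtype.val_injective,
      ← card_map_of_injective (f := H.subtype) Subtype.val_injective, subgroupOf_map_subtype,
      subgroupOf_map_subtype, inf_comm]
  have hcent : ∀ x : N, centralizer ({x} : Set N) = (centralizer ({(x : G)} : Set G)).subgroupOf N := fun x => by
    ext g
    rw [mem_subgroupOf, mem_centralizer_singleton_iff, mem_centralizer_singleton_iff, Subtype.ext_iff]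
    rfl
  have hnorm : normalizer ((h.D.subgroupOf N) : Set N) = (normalizer (h.D : Set G)).subgroupOf N := by
    ext g
    rw [mem_subgroupOf]
    constructor
    · intro hg
      exact h.mem_norm_of_map fun d hd => (Subgroup.mem_normalizer_iff.1 hg ⟨d, hDN hd⟩).1 hd
    · intro hg
      exact Subgroup.mem_normalizer_iff.2 fun x => Subgroup.mem_normalizer_iff.1 hg (x : G)
  let ψ : KK →* N := (h.psi.comp KK.subtype).codRestrict N fun k => hKN k
  have hH : A8ThreeLocal.Hyp N :=
    { psi := ψ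
      psi_inj := fun a b e => Subtype.ext (h.psi_inj (congrArg Subtype.val e))
      norm_z := fun g hg => by
        obtain ⟨k, hk⟩ := h.norm_z (g : G) (hg.imp (fun e => congrArg Subtype.val e) (fun e => congrArg Subtype.val e))
        by_cases hkK : k ∈ KK
        · exact ⟨⟨k, hkK⟩, Subtype.ext hk⟩
        · exfalso
          have hk' : k * eP ∈ KK := by
            rw [mem_KK] at hkK ⊢
            show sign (k.1 * 1) = sign (k.2 * tau)
            rw [mul_one, map_mul, show sign tau = -1 by decide +kernel]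
            rcases Int.units_eq_one_or (sign k.1) with e | e <;> rcases Int.units_eq_one_or (sign k.2) with e' | e' <;>
              simp_all
          have := hKN ⟨_, hk'⟩
          rw [map_mul, hk] at this
          exact heN' g g.2 this
      i := ⟨Ψ (iA : A8), hA8 iA⟩
      i_sq := Subtype.ext (by
        show Ψ _ * Ψ _ = 1
        rw [← map_mul, ← Subgroup.coe_mul, ii, OneMemClass.coe_one, map_one])
      i_ne := fun e => i1 (Subtype.ext (hinj ((congrArg Subtype.val e).trans (map_one Ψ).symm)))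
      i_z := Subtype.ext (by
        show Ψ (iA : A8) * h.z * Ψ (iA : A8) = h.z'
        rw [← hzA, ← hzB, ← map_mul, ← map_mul, ← Subgroup.coe_mul, ← Subgroup.coe_mul, iz])
      i_t := Subtype.ext (by
        show Ψ (iA : A8) * h.t * Ψ (iA : A8) = h.psi (sP * eP)
        rw [t, ← hF, ← map_mul, ← map_mul, ← Subgroup.coe_mul, ← Subgroup.coe_mul, it, hG, S.g_t5, hse, map_mul]
        rfl)
      D := h.D.subgroupOf N
      z_mem := h.z_mem
      z'_mem := h.z'_mem
      card_D := by rw [Nat.card_congr (subgroupOfEquivOfLe hDN).toEquiv, h.card_D]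
      D_comm := fun a ha b hb => Subtype.ext (h.D_comm _ ha _ hb)
      cent_D := fun g h1 h2 => (h.cent_D (g : G) (congrArg Subtype.val h1) (congrArg Subtype.val h2)).resolve_right
        fun hge => heN' g g.2 (hDN hge)
      conj_D := fun Q hQ => by
        obtain ⟨k, hk⟩ := h.conj_D (Q.map N.subtype) (by rw [card_map_of_injective Subtype.val_injective, hQ])
        rcases mem_or_mul hN2 heN k with hkN | hkN
        · exact ⟨⟨k, hkN⟩, fun a ha => hk a ⟨a, ha, rfl⟩⟩
        · refine ⟨⟨h.e * k, hkN⟩, fun a ha => ?_⟩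
          have := hk (a : G) ⟨a, ha, rfl⟩
          show h.e * k * (a : G) * (h.e * k)⁻¹ ∈ h.D
          rw [show h.e * k * (a : G) * (h.e * k)⁻¹ = h.e * (k * a * k⁻¹) * h.e⁻¹ by group, h.e_D this,
            mul_inv_cancel_right]
          exact this
      not_27 := fun h27 => h.not_27 (h27.trans (card_subgroup_dvd_card N))
      norm_D := by
        rw [hnorm, hcard_sub]
        have := hCN _ heD
        rw [h.norm_D] at this
        omega
      cent_y := by
        rw [hcent, hcard_sub]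
        have := hCN (centralizer ({h.z * h.z'} : Set G)) (mem_centralizer_singleton_iff.2
          ((show Commute h.e h.z from h.e_z).mul_right h.e_z').eq)
        rw [show centralizer ({h.z * h.z'} : Set G) = centralizer ({h.psi zP * h.psi (inA c5)} : Set G) from rfl,
          h.cent_y] at this
        exact Nat.eq_of_mul_eq_mul_right (by norm_num : 0 < 2) (this.trans (by norm_num))
      cent_y_le := by
        intro g hg
        rw [hcent, mem_subgroupOf] at hg
        rw [hnorm, mem_subgroupOf]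
        exact h.cent_y_le hg
      card_cz := by
        rw [hcent, hcard_sub]
        have := hCN (centralizer ({h.z} : Set G)) (mem_centralizer_singleton_iff.2 h.e_z)
        rw [show centralizer ({h.z} : Set G) = centralizer ({h.psi zP} : Set G) from rfl, h.card_cz] at this
        exact Nat.eq_of_mul_eq_mul_right (by norm_num : 0 < 2) (this.trans (by norm_num)) }
  obtain ⟨eA⟩ := hH.nonempty_iso
  have hcard : Nat.card G = Nat.card (Perm (Fin 8)) := by
    rw [← N.index_mul_card, hN2, Nat.card_congr eA.toEquiv, nat_card_alternatingGroup, Nat.card_perm, Nat.card_fin]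
    rfl
  exact ⟨(MulEquiv.ofBijective Ψ (Nat.bijective_iff_injective_and_card Ψ |>.2 ⟨hinj, hcard.symm⟩)).symm⟩

end Hyp.Split

end Cfsg.Agent.S8ThreeLocal
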