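import Cfsg.Agent.S8ThreeLocal.ExcCent
import Cfsg.Agent.S0223
import Cfsg.Agent.Invol.SEPairs
import Cfsg.Agent.Layer.Components
import Cfsg.Prelude.Def_Local

/-!
The conclusion in the exceptional configuration.
-/

set_option autoImplicit false
set_option maxRecDepth 20000
set_option synthInstance.maxSize 2000
set_option synthInstance.maxHeartbeats 400000

namespace Cfsg.Agent.S8ThreeLocal

open Equiv Equiv.Perm Subgroup
open scoped commutatorElement
open Cfsg.Agent.A8ThreeLocal (A5 c5 t5 v5 s5 a1 a2 a3 b1 r3 s3 tau InV1 InV2 tauHom cases_pow_three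
  centralizer_card_conj tauHom_sq)

theorem t5_c5 : t5 * c5 ≠ c5 * t5 ∧ tauHom a1 ≠ a1 ∧ zP ≠ inA c5 := by decide +kernel

theorem quasisimple_A5 : IsQuasisimple A5 := by
  have : IsSimpleGroup A5 := alternatingGroup.isSimpleGroup (by simp)
  refine Layer.isQuasisimple_of_normal_cases ⟨?_⟩ fun N hN => ?_
  · rcases (inferInstance : (commutator A5).Normal).eq_bot_or_eq_top with e | e
    · exfalso
      have hm : ⁅t5, c5⁆ ∈ commutator A5 := commutator_mem_commutator (mem_top _) (mem_top _)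
      rw [e, mem_bot] at hm
      exact t5_c5.1 (commutatorElement_eq_one_iff_mul_comm.1 hm)
    · exact e
  · rcases hN.eq_bot_or_eq_top with e | e
    · exact Or.inr (e ▸ bot_le)
    · exact Or.inl e

variable {G : Type*} [Group G] [Finite G]

namespace Exc

variable {h : Hyp G} (X : Exc h)

theorem N1_card : Nat.card X.N1 = 3600 := by
  rw [N1, ← Nat.card_congr (MonoidHom.ofInjective X.Th_inj).toEquiv, Nat.card_prod, SelfCentThree.card_alt_five]

end Exc

namespace Sub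

variable {h : Hyp G} (S : Sub h)

theorem not_t_s {n : G} (hn : n ∈ S.N0) : n * h.t * n⁻¹ ≠ h.s := by
  intro e
  have : Fact (Nat.Prime 2) := ⟨Nat.prime_two⟩
  obtain ⟨h2, -, -, -, -, -, hst⟩ := S.ex.sg_facts S.sg_K4
  have hxG : S.sg * n ∈ S.G0 := mul_mem S.sg_G0 (S.N0_le hn)
  have hxt : S.sg * n * h.t = h.t * (S.sg * n) := by
    calc S.sg * n * h.t = S.sg * (n * h.t * n⁻¹) * S.sg * (S.sg * n) := by
          rw [show S.sg * (n * h.t * n⁻¹) * S.sg * (S.sg * n) = S.sg * (n * h.t * n⁻¹) * (S.sg * S.sg) * n by group, h2]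
          group
      _ = _ := by rw [e, hst]
  have hxN : S.sg * n ∉ S.N0 := fun hm => S.sg_not ((S.N0.mul_mem_cancel_right hn).1 hm)
  set H : Subgroup S.G0 := (centralizer ({h.t} : Set G)).subgroupOf S.G0 with hH
  have mH : ∀ {y : S.G0}, y ∈ H ↔ (y : G) * h.t = h.t * y := fun {y} => mem_centralizer_singleton_iff
  have hN0n : (S.N0.subgroupOf S.G0).Normal := ⟨fun x hx g => S.N0_conj g g.2 x hx⟩
  have hN0i : (S.N0.subgroupOf S.G0).index = 2 := by
    have h1 := (S.N0.subgroupOf S.G0).card_mul_index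
    rw [Nat.card_congr (subgroupOfEquivOfLe S.N0_le).toEquiv, ← S.N0_card_G0] at h1
    exact Nat.eq_of_mul_eq_mul_left Nat.card_pos h1
  have hH2 := card_inf_index_two (S.N0.subgroupOf S.G0) H hN0i (x := ⟨_, hxG⟩) (mH.2 hxt) hxN
  have hS0G : S.ex.S0 ≤ S.G0 := S.S0_le.trans S.N0_le
  have hS0H : S.ex.S0.subgroupOf S.G0 ≤ H := fun y hy => mH.2 (S.mem_K.1 (S.S0_le_K hy)).2
  have hS0c : Nat.card ((S.ex.S0.subgroupOf S.G0).subgroupOf H) = 2 ^ 4 := by
    rw [Nat.card_congr (subgroupOfEquivOfLe hS0H).toEquiv, Nat.card_congr (subgroupOfEquivOfLe hS0G).toEquiv,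
      S.ex.S0_card]
    norm_num
  have h32 : 2 ^ 5 ∣ Nat.card H := by
    rw [← hH2, pow_succ]
    refine Nat.mul_dvd_mul_right ?_ 2
    rw [← hS0c]
    exact card_dvd_of_le fun y hy => S.S0_le hy
  obtain ⟨Q0, hQc, hQle⟩ := Sylow.exists_subgroup_card_pow_prime_le 2 h32 _ hS0c (by norm_num)
  set Q : Subgroup S.G0 := Q0.map H.subtype with hQ
  have hQc' : Nat.card Q = 2 ^ 5 := by rw [hQ, card_map_of_injective Subtype.val_injective, hQc]
  have hTc : Nat.card (S.ex.T64.subgroupOf S.G0) = 2 ^ 5 := by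
    have := S.G0_normal
    have h1 := card_inf_index_two S.G0 S.ex.T64 S.G0_index S.ex.e_T64 S.e_not
    rw [S.ex.T64_card] at h1
    rw [← card_map_of_injective (f := S.G0.subtype) Subtype.val_injective, subgroupOf_map_subtype, inf_comm,
      ← subgroupOf_map_subtype, card_map_of_injective Subtype.val_injective]
    omega
  have h64 : ¬ 2 ^ (5 + 1) ∣ Nat.card S.G0 := fun hd => S.ex.not_128 (by
    rw [← S.G0_card]; exact Nat.mul_dvd_mul_right (show 64 ∣ Nat.card S.G0 by simpa using hd) 2)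
  obtain ⟨P', hP'⟩ := sylow_of_card (S.ex.T64.subgroupOf S.G0) 5 hTc h64
  obtain ⟨P1, hP1⟩ := (IsPGroup.of_card hQc').exists_le_sylow
  obtain ⟨k, hk⟩ := MulAction.exists_smul_eq S.G0 P1 P'
  have hQmap : Q.map (MulAut.conj k).toMonoidHom = S.ex.T64.subgroupOf S.G0 := by
    refine eq_of_le_of_card_ge ?_ (le_of_eq ?_)
    · rw [← hP', ← hk]
      rintro _ ⟨y, hy, rfl⟩
      exact ⟨y, hP1 hy, rfl⟩
    · rw [hTc, card_map_of_injective (MulAut.conj k).injective, hQc']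
  have ht0 : h.t ∈ S.ex.S0 := S.f_mem_S0 (by simp [K2L])
  have htQ : (⟨h.t, hS0G ht0⟩ : S.G0) ∈ Q :=
    ⟨⟨⟨h.t, hS0G ht0⟩, hS0H ht0⟩, hQle ht0, rfl⟩
  have hsT : S.sg ∈ S.ex.T64 :=
    ⟨1, by simp [K2L], 1, by simp [K2L], S.sg, (S.ex.sg_facts S.sg_K4).2.1, by rw [← Prod.one_eq_mk, map_one, one_mul]⟩
  obtain ⟨q, hq, hqs⟩ : (⟨S.sg, S.sg_G0⟩ : S.G0) ∈ Q.map (MulAut.conj k).toMonoidHom := hQmap ▸ hsT
  have hwT : (k : G) * h.t * (k : G)⁻¹ ∈ S.ex.T64 := by
    have : (MulAut.conj k) ⟨h.t, hS0G ht0⟩ ∈ S.ex.T64.subgroupOf S.G0 := hQmap ▸ ⟨_, htQ, rfl⟩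
    exact this
  have hwS := S.inter hwT (S.N0_conj k k.2 _ (S.S0_le ht0))
  obtain ⟨a, b, ha, hb, hab⟩ := S.ex.mem_S0.1 hwS
  have hqt : (q : G) * h.t = h.t * q := by
    obtain ⟨y, -, rfl⟩ := hq
    exact mH.1 y.2
  have hcomm : S.sg * S.ex.Th (a, b) * S.sg = S.ex.Th (a, b) := by
    have es : (k : G) * q * (k : G)⁻¹ = S.sg := congrArg Subtype.val hqs
    have : S.sg * S.ex.Th (a, b) = S.ex.Th (a, b) * S.sg := by
      rw [hab, ← es]
      calc (k : G) * q * (k : G)⁻¹ * ((k : G) * h.t * (k : G)⁻¹) = (k : G) * (q * h.t) * (k : G)⁻¹ := by group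
        _ = (k : G) * (h.t * q) * (k : G)⁻¹ := by rw [hqt]
        _ = _ := by group
    rw [this, mul_assoc, h2, mul_one]
  have hc : IsConj h.t (S.ex.Th (a, b)) := hab ▸ isConj_iff.2 ⟨_, rfl⟩
  have hab' : (a = 1 → b = 1) ∧ (b = 1 → a = 1) := by
    rcases S.sg_K4 with es | es
    · rw [es, S.ex.i_Th] at hcomm
      have := Prod.ext_iff.1 (S.ex.Th_inj hcomm)
      exact ⟨fun e => this.1.trans e, fun e => this.2.trans e⟩
    · rw [es] at hcomm
      have e1 : h.e * h.i * S.ex.Th (a, b) * (h.e * h.i) = h.e * (h.i * S.ex.Th (a, b) * h.i) * h.e := by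
        calc h.e * h.i * S.ex.Th (a, b) * (h.e * h.i) = h.e * h.i * S.ex.Th (a, b) * (h.i * h.e) := by rw [h.i_e_comm]
          _ = _ := by group
      rw [e1, S.ex.i_Th, S.ex.e_Th] at hcomm
      obtain ⟨ea, eb⟩ := Prod.ext_iff.1 (S.ex.Th_inj hcomm)
      exact ⟨fun e => eb.symm.trans ((congrArg tauHom e).trans (map_one tauHom)),
        fun e => ea.symm.trans ((congrArg tauHom e).trans (map_one tauHom))⟩
  rcases S.ex.class_t ha hb hc with ⟨h1, h1'⟩ | ⟨h1, h1'⟩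
  · exact h1 (hab'.2 h1')
  · exact h1' (hab'.1 h1)

/-- Involutions of the product have their centralisers in it. -/
theorem cent_invol {x : G} (hx : x ∈ S.ex.N1) (h2 : x * x = 1) (h1 : x ≠ 1) {y : G} (hy : y ∈ S.N0)
    (hyx : y * x = x * y) : y ∈ S.ex.N1 := by
  obtain ⟨c, hc, hcases⟩ := S.ex.N1_invol hx h2 h1
  have key : ∀ u : G, c * u * c⁻¹ = x → (∀ w ∈ S.N0, w * u = u * w → w ∈ S.ex.N1) → y ∈ S.ex.N1 := by
    intro u hu hcu
    have hm := hcu (c⁻¹ * y * c) (mul_mem (mul_mem (inv_mem (S.N1_le_N0 hc)) hy) (S.N1_le_N0 hc)) (by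
      calc c⁻¹ * y * c * u = c⁻¹ * (y * (c * u * c⁻¹)) * c := by group
        _ = c⁻¹ * (c * u * c⁻¹ * y) * c := by rw [hu, hyx]
        _ = _ := by group)
    have := mul_mem (mul_mem hc hm) (inv_mem hc)
    rwa [show c * (c⁻¹ * y * c) * c⁻¹ = y by group] at this
  rcases hcases with e | e | e
  · exact key _ e fun w hw => S.cent_t hw
  · exact key _ e fun w hw => S.cent_s hw
  · exact key _ e fun w hw hc' => S.ex.S0_le_N1 (S.cent_II hw hc')

/-- The second subgroup is the product. -/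
theorem N0_eq : S.N0 = S.ex.N1 := by
  refine le_antisymm ?_ S.N1_le_N0
  by_contra hle
  set U : Subgroup S.N0 := S.ex.N1.subgroupOf S.N0 with hU
  have hUt : U ≠ ⊤ := fun e => hle (subgroupOf_eq_top.1 e)
  have heven : Even (Nat.card U) := by
    rw [hU, Nat.card_congr (subgroupOfEquivOfLe S.N1_le_N0).toEquiv, S.ex.N1_card]; decide
  have ford : ∀ x : S.N0, orderOf x = 2 → (x : G) * x = 1 ∧ (x : G) ≠ 1 := fun x hx => by
    refine ⟨?_, fun e => ?_⟩
    · have := congrArg Subtype.val (pow_orderOf_eq_one x)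
      rwa [hx, pow_two] at this
    · rw [show x = 1 from Subtype.ext e, orderOf_one] at hx; omega
  have hse : Cfsg.IsStronglyEmbedded U := (S0223.result U hUt heven).2 ⟨fun x hx hx2 y hy => by
      exact S.cent_invol hx (ford x hx2).1 (ford x hx2).2 y.2 (congrArg Subtype.val (mem_centralizer_singleton_iff.1 hy)),
    fun x hx x' hx' hx2 hx2' hconj => by
      obtain ⟨n, hn⟩ := isConj_iff.1 hconj
      obtain ⟨c, hc, hcs⟩ := S.ex.N1_invol hx (ford x hx2).1 (ford x hx2).2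
      obtain ⟨c', hc', hcs'⟩ := S.ex.N1_invol hx' (ford x' hx2').1 (ford x' hx2').2
      have build : ∀ u u' : G, c * u * c⁻¹ = x → c' * u' * c'⁻¹ = x' →
          ∃ m ∈ S.N0, m * u * m⁻¹ = u' := fun u u' e e' => ⟨c'⁻¹ * n * c,
        mul_mem (mul_mem (inv_mem (S.N1_le_N0 hc')) n.2) (S.N1_le_N0 hc), by
          have hn' : (n : G) * x * (n : G)⁻¹ = x' := congrArg Subtype.val hn
          calc c'⁻¹ * n * c * u * (c'⁻¹ * n * c)⁻¹ = c'⁻¹ * ((n : G) * (c * u * c⁻¹) * (n : G)⁻¹) * c' := by group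
            _ = c'⁻¹ * (c' * u' * c'⁻¹) * c' := by rw [e, hn', e']
            _ = u' := by group⟩
      have same : ∀ u : G, c * u * c⁻¹ = x → c' * u * c'⁻¹ = x' → ∃ m ∈ U, m * x * m⁻¹ = x' := by
        intro u e e'
        refine ⟨⟨c' * c⁻¹, S.N1_le_N0 (mul_mem hc' (inv_mem hc))⟩, mul_mem hc' (inv_mem hc), Subtype.ext ?_⟩
        show c' * c⁻¹ * (x : G) * (c' * c⁻¹)⁻¹ = x'
        rw [← e, ← e']; group
      have nts : ∀ m ∈ S.N0, m * h.t * m⁻¹ ≠ h.s := fun m hm => S.not_t_s hm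
      have nst : ∀ m ∈ S.N0, m * h.s * m⁻¹ ≠ h.t := fun m hm e =>
        S.not_t_s (inv_mem hm) (by rw [← e]; group)
      have ntI : ¬ IsConj h.t S.ex.II := fun hc => S.ex.not_II_t hc.symm
      have nsI : ¬ IsConj h.s S.ex.II := fun hc => ntI (S.ex.t_conj_s.trans hc)
      rcases hcs with e | e | e <;> rcases hcs' with e' | e' | e'
      · exact same _ e e'
      · obtain ⟨m, hm, hme⟩ := build _ _ e e'
        exact absurd hme (nts m hm)
      · obtain ⟨m, -, hme⟩ := build _ _ e e'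
        exact absurd (isConj_iff.2 ⟨m, hme⟩) ntI
      · obtain ⟨m, hm, hme⟩ := build _ _ e e'
        exact absurd hme (nst m hm)
      · exact same _ e e'
      · obtain ⟨m, -, hme⟩ := build _ _ e e'
        exact absurd (isConj_iff.2 ⟨m, hme⟩) nsI
      · obtain ⟨m, -, hme⟩ := build _ _ e e'
        exact absurd (isConj_iff.2 ⟨m, hme⟩ : IsConj S.ex.II h.t).symm ntI
      · obtain ⟨m, -, hme⟩ := build _ _ e e'
        exact absurd (isConj_iff.2 ⟨m, hme⟩ : IsConj S.ex.II h.s).symm nsI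
      · exact same _ e e'⟩
  have hI2 : S.ex.II * S.ex.II = 1 := by
    rw [S.ex.II_eq, ← map_mul, Prod.mk_mul_mk, K2_small.2.2.2.2.2.2.2.2, ← Prod.one_eq_mk, map_one]
  have hI1 : S.ex.II ≠ 1 := fun e => by
    rw [S.ex.II_eq, ← map_one S.ex.Th] at e
    exact K2_small.2.2.2.1 (congrArg Prod.fst (S.ex.Th_inj e))
  have ht1 : h.t ≠ 1 := fun e => K2_small.2.2.2.1 (h.f_inj (e.trans (map_one h.f).symm))
  have hIN : S.ex.II ∈ S.N0 := S.N1_le_N0 (S.ex.II_eq ▸ S.ex.mem_N1 _)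
  have h2 := Invol.se_isConj_all hse (a := (⟨S.ex.II, hIN⟩ : S.N0)) (b := ⟨h.t, S.f_N0 t5⟩)
    (orderOf_eq_prime (by rw [pow_two]; exact Subtype.ext hI2) fun e => hI1 (congrArg Subtype.val e))
    (orderOf_eq_prime (by rw [pow_two]; exact Subtype.ext h.t_sq) fun e => ht1 (congrArg Subtype.val e))
  obtain ⟨n, hn⟩ := isConj_iff.1 h2
  exact S.ex.not_II_t (isConj_iff.2 ⟨n, congrArg Subtype.val hn⟩)

theorem M_top : S.ex.M = ⊤ := by
  refine eq_top_of_card_eq _ ?_
  rw [S.ex.M_card, ← S.N0_card, S.N0_eq, S.ex.N1_card]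

end Sub

namespace Exc

variable {h : Hyp G} (X : Exc h)

include X in
theorem M_top : X.M = ⊤ := by
  obtain ⟨S⟩ := X.exists_sub
  exact S.M_top

theorem in_M (x : G) : x ∈ X.M := X.M_top.symm ▸ mem_top x

theorem N1_normal : X.N1.Normal := ⟨by
  rintro _ ⟨w, rfl⟩ g
  obtain ⟨w', hw'⟩ := X.M_norm (X.in_M g) w
  exact ⟨w', hw'.symm⟩⟩

theorem N1_index : X.N1.index = 4 := by
  obtain ⟨S⟩ := X.exists_sub
  have h1 := X.N1.card_mul_index
  rw [← S.N0_card, S.N0_eq] at h1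
  exact Nat.eq_of_mul_eq_mul_left Nat.card_pos h1

theorem center_pair {w : A5 × A5} (hw : ∀ u, w * u = u * w) : w = 1 := by
  obtain ⟨p, q⟩ := w
  exact Prod.ext (center_A5 p (congrArg Prod.fst (hw (_, 1))) (congrArg Prod.fst (hw (_, 1))) (congrArg Prod.fst (hw (_, 1))))
    (center_A5 q (congrArg Prod.snd (hw (1, _))) (congrArg Prod.snd (hw (1, _))) (congrArg Prod.snd (hw (1, _))))

theorem cent_N1 {x : G} (hx : ∀ u ∈ X.N1, x * u = u * x) : x = 1 := by
  have hxM := X.in_M x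
  have h2 : x * x = 1 := by
    obtain ⟨w, hw⟩ := X.sq_N1 hxM
    rw [← hw, center_pair (w := w) fun u => X.Th_inj (by
      rw [map_mul, map_mul, hw, mul_assoc, hx _ (X.mem_N1 u), ← mul_assoc, hx _ (X.mem_N1 u), mul_assoc]), map_one]
  by_contra h1
  obtain ⟨c, hc, hcases⟩ := X.M_invol hxM h2 h1
  have red : ∀ {u : G}, c * u * c⁻¹ = x → u = x := fun {u} e => by
    calc u = c⁻¹ * (c * u * c⁻¹) * c := by group
      _ = c⁻¹ * (x * c) := by rw [e, mul_assoc]
      _ = x := by rw [hx c hc]; group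
  obtain ⟨htc, hta, hz⟩ := t5_c5
  have hzz : h.z ≠ h.z' := fun e => hz (h.psi_inj e)
  have hzN : h.z ∈ X.N1 := X.g_c5 ▸ X.g_N1 c5
  have hz'N : h.z' ∈ X.N1 := X.f_N1 c5
  rcases hcases with e | e | e | e | e | e <;> have ex := red e
  · have := hx _ hz'N
    rw [← ex, Hyp.t, Hyp.z', ← map_mul, ← map_mul] at this
    exact htc (h.f_inj this)
  · have := hx _ hzN
    rw [← ex, ← X.g_t5, ← X.g_c5, ← map_mul, ← map_mul] at this
    exact htc (X.g_inj this)
  · have := hx _ hz'N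
    rw [← ex, X.II_eq, Hyp.z', ← X.Th_fst, ← map_mul, ← map_mul] at this
    exact htc (congrArg Prod.fst (X.Th_inj this))
  · have := hx _ (X.f_N1 a1)
    rw [← ex] at this
    have e1 : h.e * h.f a1 * h.e = h.f a1 := by rw [this, mul_assoc, h.e_sq, mul_one]
    rw [h.e_f] at e1
    exact hta (h.f_inj e1)
  · have := hx _ hzN
    rw [← ex] at this
    exact hzz (by rw [← h.i_z_eq, this, mul_assoc, h.i_sq, mul_one])
  · have := hx _ hzN
    rw [← ex] at this
    have e1 : h.e * (h.i * h.z * h.i) * h.e = h.z := by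
      calc h.e * (h.i * h.z * h.i) * h.e = h.e * h.i * h.z * (h.i * h.e) := by group
        _ = h.z * (h.e * h.i) * (h.i * h.e) := by rw [this]
        _ = h.z * (h.e * (h.i * h.i) * h.e) := by group
        _ = h.z := by rw [h.i_sq, mul_one, h.e_sq, mul_one]
    rw [h.i_z_eq, h.e_z', mul_assoc, h.e_sq, mul_one] at e1
    exact hzz e1.symm

/-- A normal subgroup inside the product. -/
theorem minimal {K : Subgroup G} (hK : K.Normal) (hle : K ≤ X.N1) : K = ⊥ ∨ K = X.N1 := by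
  have : IsSimpleGroup A5 := alternatingGroup.isSimpleGroup (by simp)
  set L := K.comap X.Th with hL
  have hLn : L.Normal := hK.comap _
  have hsw : ∀ p q, (p, q) ∈ L → (q, p) ∈ L := fun p q hm => by
    show X.Th (q, p) ∈ K
    rw [← X.i_Th p q]
    have := hK.conj_mem _ (show X.Th (p, q) ∈ K from hm) h.i
    rwa [h.i_inv] at this
  let J : Subgroup A5 := L.comap (MonoidHom.inl A5 A5)
  have hJ : J.Normal := hLn.comap _
  rcases hJ.eq_bot_or_eq_top with e | e
  · left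
    refine (eq_bot_iff_forall K).2 fun x hx => ?_
    obtain ⟨⟨p, q⟩, rfl⟩ := hle hx
    have hfst : ∀ p q, (p, q) ∈ L → p = 1 := by
      intro p q hm
      have key : ∀ r, p * r = r * p := fun r => by
        have hm' : (p, q) * ((r, 1) * (p, q)⁻¹ * ((r, 1) : A5 × A5)⁻¹) ∈ L :=
          mul_mem hm (hLn.conj_mem _ (inv_mem hm) _)
        rw [Prod.inv_mk, Prod.inv_mk, Prod.mk_mul_mk, Prod.mk_mul_mk, Prod.mk_mul_mk, inv_one, mul_one, one_mul,
          mul_inv_cancel] at hm'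
        have h1 : p * (r * p⁻¹ * r⁻¹) ∈ J := hm'
        rw [e, mem_bot] at h1
        calc p * r = p * (r * p⁻¹ * r⁻¹) * (r * p) := by group
          _ = r * p := by rw [h1, one_mul]
      exact center_A5 p (key _) (key _) (key _)
    rw [hfst p q hx, hfst q p (hsw p q hx), ← Prod.one_eq_mk, map_one]
  · right
    refine le_antisymm hle ?_
    rintro _ ⟨⟨p, q⟩, rfl⟩
    have hp : (p, (1 : A5)) ∈ L := (e.symm ▸ mem_top p : p ∈ J)
    have hq : ((1 : A5), q) ∈ L := hsw _ _ (e.symm ▸ mem_top q : q ∈ J)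
    have := mul_mem hp hq
    rwa [Prod.mk_mul_mk, one_mul, mul_one] at this

theorem fN1_component (φ : A5 →* G) (hφ : Function.Injective φ) (hle : φ.range ≤ X.N1)
    (hn : ∀ u ∈ X.N1, ∀ p, ∃ p', u * φ p * u⁻¹ = φ p') : IsComponent φ.range := by
  refine ⟨IsSubnormal.step _ X.N1 hle X.N1_normal.isSubnormal ⟨?_⟩,
    Layer.isQuasisimple_congr (MonoidHom.ofInjective hφ) quasisimple_A5⟩
  rintro x ⟨p, hp⟩ u
  obtain ⟨p', hp'⟩ := hn u u.2 p
  exact ⟨p', by rw [← hp', hp]; rfl⟩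

theorem gfs : generalizedFittingSubgroup G = X.N1 := by
  have hN := X.N1_normal
  have hcent : ∀ L : Subgroup G, (∀ x ∈ L, ∀ u ∈ X.N1, x * u = u * x) → L ≤ X.N1 := fun L hL x hx => by
    rw [X.cent_N1 (hL x hx)]; exact one_mem _
  refine le_antisymm (sup_le ?_ ?_) ?_
  · refine sSup_le fun L hL => ?_
    rcases Layer.component_le_or_commute hL hN.isSubnormal with hle | hc
    · exact hle
    · exact hcent L fun x hx u hu => Layer.commute_of_commutator_eq_bot hc hx hu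
  · refine sSup_le fun F hF => ?_
    obtain ⟨hFn, hFnil⟩ := hF
    rcases X.minimal (K := F ⊓ X.N1) inferInstance inf_le_right with e | e
    · refine hcent F fun x hx u hu => ?_
      exact Subgroup.commute_of_normal_of_disjoint F X.N1 hFn hN (disjoint_iff.2 e) x u hx hu
    · exfalso
      have hf : h.f.range ≤ F := by
        rintro _ ⟨p, rfl⟩
        exact (inf_le_left : F ⊓ X.N1 ≤ F) (e.symm ▸ X.f_N1 p)
      have : Group.IsSolvable F := inferInstance
      let ι : A5 →* F := h.f.codRestrict F fun p => hf ⟨p, rfl⟩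
      have : Group.IsSolvable A5 := Group.isSolvable_of_isSolvable_injective (f := ι) fun a b e => h.f_inj (congrArg Subtype.val e)
      have : IsSimpleGroup A5 := alternatingGroup.isSimpleGroup (by simp)
      exact t5_c5.1 ((IsSimpleGroup.comm_iff_isSolvable (G := A5)).2 inferInstance t5 c5)
  · refine le_sup_of_le_left ?_
    rintro _ ⟨⟨p, q⟩, rfl⟩
    rw [X.Th_apply]
    refine mul_mem (Layer.component_le_layer (X.fN1_component h.f h.f_inj ?_ ?_) ⟨p, rfl⟩)
      (Layer.component_le_layer (X.fN1_component X.g X.g_inj ?_ ?_) ⟨q, rfl⟩)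
    · rintro _ ⟨r, rfl⟩; exact X.f_N1 r
    · rintro _ ⟨⟨a, b⟩, rfl⟩ r
      exact ⟨a * r * a⁻¹, by
        rw [← X.Th_fst, ← X.Th_fst, ← map_inv, ← map_mul, ← map_mul, Prod.inv_mk, Prod.mk_mul_mk, Prod.mk_mul_mk,
          mul_one, mul_inv_cancel]⟩
    · rintro _ ⟨r, rfl⟩; exact X.g_N1 r
    · rintro _ ⟨⟨a, b⟩, rfl⟩ r
      exact ⟨b * r * b⁻¹, by
        rw [← X.Th_snd, ← X.Th_snd, ← map_inv, ← map_mul, ← map_mul, Prod.inv_mk, Prod.mk_mul_mk, Prod.mk_mul_mk,
          mul_one, mul_inv_cancel]⟩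

include X in
/-- The second alternative of the theorem. -/
theorem conclusion : ∃ N : Subgroup G, N.Normal ∧ Cfsg.generalizedFittingSubgroup G = N ∧
    Nonempty (N ≃* A5 × A5) ∧
    (∀ K : Subgroup G, K.Normal → K ≤ N → K = ⊥ ∨ K = N) ∧ N.index = 4 ∧ ∀ g : G, g ^ 2 ∈ N :=
  ⟨X.N1, X.N1_normal, X.gfs, ⟨(MonoidHom.ofInjective X.Th_inj).symm⟩, fun _ hK hle => X.minimal hK hle, X.N1_index,
    fun g => by rw [pow_two]; exact X.sq_N1 (X.in_M g)⟩

end Exc

end Cfsg.Agent.S8ThreeLocal
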