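import Cfsg.Agent.S8ThreeLocal.Klein

/-!
The two possibilities for the image of `t` under `i`.
-/

set_option autoImplicit false
set_option maxRecDepth 20000
set_option synthInstance.maxSize 2000
set_option synthInstance.maxHeartbeats 400000

namespace Cfsg.Agent.S8ThreeLocal

open Equiv Equiv.Perm Subgroup
open Cfsg.Agent.A8ThreeLocal (A5 c5 t5 v5 s5 a1 a2 a3 b1 b2 b3 r3 s3 tau InV1 InV2 tauHom cases_pow_three
  centralizer_card_conj tauHom_sq tau_values tau_V c5_klein)

theorem four_klein : ∀ p : A5, ∃ a ∈ [1, a1, a2, a3], ∃ b ∈ [1, b1, b2, b3],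
    ∃ c ∈ [1, a1, a2, a3], ∃ d ∈ [1, b1, b2, b3], p = a * b * c * d := by decide +kernel

theorem v5_word : ∃ a ∈ [1, c5, c5⁻¹, t5, t5 * c5, t5 * c5⁻¹], ∃ b ∈ [1, c5, c5⁻¹, t5, t5 * c5, t5 * c5⁻¹],
    ∃ c ∈ [1, c5, c5⁻¹, t5, t5 * c5, t5 * c5⁻¹], v5 = a * a1 * b * a1 * c := by decide +kernel

theorem center_A5 : ∀ a : A5, a * c5 = c5 * a → a * t5 = t5 * a → a * a1 = a1 * a → a = 1 := by
  decide +kernel

theorem s5_facts : s5 * a1 * s5⁻¹ = t5 ∧ s5 * a3 * s5⁻¹ = v5 := ⟨by decide +kernel, rfl⟩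

theorem V1_conj : ∀ q : A5, InV1 q → (tauHom (s5 * q * s5⁻¹) = s5 * q * s5⁻¹) →
    s5 * q * s5⁻¹ = 1 ∨ s5 * q * s5⁻¹ = t5 := by decide +kernel

theorem tau_fixed : ∀ p : A5, tauHom p = p → (p : Perm (Fin 5)) ∈ SS := by decide +kernel

/-- The eight elements of `C(t, s, e)` in the model. -/
def m8 (a b c : Fin 2) : P35 := sP ^ (a : ℕ) * inA t5 ^ (b : ℕ) * eP ^ (c : ℕ)

theorem cent_tse : ∀ σ : Perm (Fin 3), (σ = 1 ∨ σ = s3) →
    ∀ p : Perm (Fin 5), (p = 1 ∨ p = t5 ∨ p = tau ∨ p = (t5 : Perm (Fin 5)) * tau) →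
    ∃ a b c : Fin 2, (σ, p) = m8 a b c := by decide +kernel

theorem m8_facts : (∀ a b c : Fin 2, m8 a b c * m8 a b c = 1) ∧
    (∀ a b c : Fin 2, inA t5 ^ (a : ℕ) * sP ^ (b : ℕ) * eP ^ (c : ℕ) = m8 a b c → a = b) ∧
    (∀ a c : Fin 2, sP ^ (a : ℕ) * inA t5 ^ (a : ℕ) * (sP * eP) ^ (c : ℕ) = m8 a a c → c = 0) ∧
    (∀ w : A5, sP ≠ inA w) ∧
    (∀ a b : Fin 3, (zP ^ (a : ℕ) * inA c5 ^ (b : ℕ)) * inA t5 = inA t5 * (zP ^ (a : ℕ) * inA c5 ^ (b : ℕ)) → b = 0) := by
  decide +kernel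

variable {G : Type*} [Group G] [Finite G] (h : Hyp G)

namespace Hyp

theorem mem_X_conj {x : G} (hxt : x * h.t = h.t * x) (hxv : x * h.f v5 = h.f v5 * x) :
    (h.f s5)⁻¹ * x * h.f s5 ∈ h.X := by
  have conv : ∀ a : A5, x * h.f (s5 * a * s5⁻¹) = h.f (s5 * a * s5⁻¹) * x →
      (h.f s5)⁻¹ * x * h.f s5 * h.f a = h.f a * ((h.f s5)⁻¹ * x * h.f s5) := by
    intro a ha
    rw [map_mul, map_mul, map_inv] at ha
    calc (h.f s5)⁻¹ * x * h.f s5 * h.f a
        = (h.f s5)⁻¹ * (x * (h.f s5 * h.f a * (h.f s5)⁻¹)) * h.f s5 := by group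
      _ = (h.f s5)⁻¹ * (h.f s5 * h.f a * (h.f s5)⁻¹ * x) * h.f s5 := by rw [ha]
      _ = _ := by group
  exact h.mem_X.2 ⟨conv a1 (by rw [s5_facts.1]; exact hxt), conv a3 (by rw [s5_facts.2]; exact hxv)⟩

/-- A moving element of `C(t, v)` contradicts an `X` that fixes the line of `z`. -/
theorem not_all_fix {x : G} (hxt : x * h.t = h.t * x) (hxv : x * h.f v5 = h.f v5 * x)
    (hx : ¬ (x * h.z * x⁻¹ = h.z ∨ x * h.z * x⁻¹ = h.z⁻¹))
    (hall : ∀ y ∈ h.X, y * h.z * y⁻¹ = h.z ∨ y * h.z * y⁻¹ = h.z⁻¹) : False := by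
  have hσ : Commute (h.f s5) h.z := (h.z_f s5).symm
  have hy : (h.f s5)⁻¹ * x * h.f s5 ∈ h.X := h.mem_X_conj hxt hxv
  have e : ∀ w, (h.f s5)⁻¹ * x * h.f s5 * h.z * ((h.f s5)⁻¹ * x * h.f s5)⁻¹ = w →
      x * h.z * x⁻¹ = h.f s5 * w * (h.f s5)⁻¹ := by
    intro w hw
    rw [← hw]
    calc x * h.z * x⁻¹ = x * (h.f s5 * h.z * (h.f s5)⁻¹) * x⁻¹ := by rw [hσ.eq, mul_inv_cancel_right]
      _ = _ := by group
  refine hx ((hall _ hy).imp (fun w => ?_) fun w => ?_)
  · rw [e _ w, hσ.eq, mul_inv_cancel_right]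
  · rw [e _ w, hσ.inv_right.eq, mul_inv_cancel_right]

theorem e_conj_s (hse : h.i * h.t * h.i = h.s * h.e) : IsConj h.e h.s := by
  have h1 : h.i * h.s * h.i = h.t * h.e := by
    have : h.s = h.i * h.t * h.i * h.e := by rw [hse, mul_assoc, h.e_sq, mul_one]
    rw [this, h.i_mul, h.i_i, h.i_e_eq]
  obtain ⟨g, hg⟩ : ∃ g : Perm (Fin 5), g * tau * g⁻¹ = (t5 : Perm (Fin 5)) * tau := by decide +kernel
  refine isConj_iff.2 ⟨h.i * h.r g, ?_⟩
  rw [mul_inv_rev, h.i_inv, show h.i * h.r g * h.e * ((h.r g)⁻¹ * h.i) = h.i * (h.r g * h.e * (h.r g)⁻¹) * h.i by group,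
    h.e_r, ← map_inv, ← map_mul, ← map_mul, hg, map_mul, ← h.e_r, ← h.f_apply]
  show h.i * (h.t * h.e) * h.i = h.s
  rw [← h1, h.i_i]

/-- In the case `i t i = s e` the centraliser of `e` maps onto the symmetric group of degree six. -/
theorem se_six (hse : h.i * h.t * h.i = h.s * h.e) :
    ∃ φ : h.C →* Perm (Fin 6), Function.Surjective φ ∧ ∀ c : h.C, φ c = 1 ↔ (c : G) = 1 ∨ (c : G) = h.e := by
  refine h.cent_e_cases.resolve_left fun hC => ?_
  obtain ⟨g, hg⟩ := isConj_iff.1 (h.e_conj_s hse).symm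
  have hle : h.f.range.map (MulAut.conj g).toMonoidHom ≤ normalizer (h.D : Set G) := by
    rintro _ ⟨_, ⟨p, rfl⟩, rfl⟩
    rw [← hC, h.mem_C, ← hg]
    simp only [MulEquiv.coe_toMonoidHom, MulAut.conj_apply]
    calc g * h.f p * g⁻¹ * (g * h.s * g⁻¹) = g * (h.f p * h.s) * g⁻¹ := by group
      _ = g * (h.s * h.f p) * g⁻¹ := by rw [h.s_f]
      _ = _ := by group
  have hd := card_dvd_of_le hle
  rw [card_map_of_injective (MulAut.conj g).injective, ← Nat.card_congr (MonoidHom.ofInjective h.f_inj).toEquiv,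
    SelfCentThree.card_alt_five, h.norm_D] at hd
  norm_num at hd

/-- The data giving a symmetric group of degree eight. -/
structure Split (h : Hyp G) where
  g : A5 →* G
  g_c5 : g c5 = h.z
  g_t5 : g t5 = h.i * h.t * h.i
  g_z' : ∀ p, g p * h.z' = h.z' * g p
  t_g : ∀ p, h.t * g p * h.t = g (tauHom p)
  u_f : ∀ p, h.i * h.t * h.i * h.f p * (h.i * h.t * h.i) = h.f (tauHom p)
  e_g : ∀ p, h.e * g p * h.e = g (tauHom p)
  comm : ∀ p q, InV1 p → InV2 q → h.f p * g q = g q * h.f p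

theorem se_split (hse : h.i * h.t * h.i = h.s * h.e) : Nonempty (Split h) := by
  obtain ⟨φ, hφs, hφk⟩ := h.se_six hse
  obtain ⟨x, hxt, -, hxv, hx⟩ := h.exists_moving φ hφs hφk
  have hu : ∀ p, h.i * h.t * h.i * h.f p * (h.i * h.t * h.i) = h.f (tauHom p) := by
    intro p
    rw [hse, show h.s * h.e * h.f p * (h.s * h.e) = h.s * (h.e * h.f p * (h.e * h.s)) by rw [h.e_s]; group,
      show h.e * h.f p * (h.e * h.s) = h.e * h.f p * h.e * h.s by group, h.e_f, ← mul_assoc, h.s_f,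
      mul_assoc, h.s_sq, mul_one]
  have main : ∀ θ : A5 →* A5, θ c5 = c5 → θ t5 = t5 → (∀ p, θ (tauHom p) = tauHom (θ p)) →
      (∀ q, InV2 q → ((θ q : A5) : Perm (Fin 5)) ∈ h.B) → Nonempty (Split h) := by
    intro θ hc ht hτ hin
    let g : A5 →* G := (MulAut.conj h.i).toMonoidHom.comp (h.f.comp θ)
    have hg : ∀ p, g p = h.i * h.f (θ p) * h.i := fun p => by
      show h.i * h.f (θ p) * h.i⁻¹ = _
      rw [h.i_inv]
    refine ⟨⟨g, by rw [hg, hc]; exact h.i_z', by rw [hg, ht]; rfl, fun p => ?_, fun p => ?_, hu,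
      fun p => ?_, fun p q hp hq => ?_⟩⟩
    · rw [hg, ← h.i_z_eq, ← h.i_mul, ← h.i_mul, h.z_f]
    · have e : h.i * (h.i * h.t * h.i) * h.i = h.t := h.i_i _
      rw [hg, hg, hτ, ← hu]
      calc h.t * (h.i * h.f (θ p) * h.i) * h.t
          = h.i * (h.i * h.t * h.i) * h.i * (h.i * h.f (θ p) * h.i) * (h.i * (h.i * h.t * h.i) * h.i) := by rw [e]
        _ = _ := by rw [← h.i_mul, ← h.i_mul]
    · rw [hg, hg, hτ, ← h.e_f]
      calc h.e * (h.i * h.f (θ p) * h.i) * h.e
          = h.i * h.e * h.i * (h.i * h.f (θ p) * h.i) * (h.i * h.e * h.i) := by rw [h.i_e_eq]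
        _ = _ := by rw [← h.i_mul, ← h.i_mul]
    · rw [hg]
      exact (h.X_f (h.mem_B.1 (hin q hq)) p hp).symm
  have hc5 : ∀ q : A5, (q : Perm (Fin 5)) ∈ h.B → ((c5 * q * c5⁻¹ : A5) : Perm (Fin 5)) ∈ h.B := fun q hq => by
    rw [Subgroup.coe_mul, Subgroup.coe_mul, InvMemClass.coe_inv]
    exact mul_mem (mul_mem h.c5_B hq) (inv_mem h.c5_B)
  rcases h.SE_case hse with hall | ha | hb
  · exact (h.not_all_fix hxt hxv hx hall).elim
  · refine main tauHom tau_values.1 tau_values.2.1 (fun p => rfl) fun q hq => ?_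
    have hdec : ∀ p, InV1 p → p = 1 ∨ p = a1 ∨ p = c5 * a1 * c5⁻¹ ∨ p = a1 * (c5 * a1 * c5⁻¹) := by decide +kernel
    rcases hdec _ ((tau_V q).2 hq) with e | e | e | e <;> rw [e]
    · exact one_mem _
    · exact ha
    · exact hc5 _ ha
    · rw [Subgroup.coe_mul]; exact mul_mem ha (hc5 _ ha)
  · refine main (MonoidHom.id A5) rfl rfl (fun p => rfl) fun q hq => ?_
    have hdec : ∀ p, InV2 p → p = 1 ∨ p = b1 ∨ p = c5 * b1 * c5⁻¹ ∨ p = b1 * (c5 * b1 * c5⁻¹) := by decide +kernel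
    show (q : Perm (Fin 5)) ∈ h.B
    rcases hdec _ hq with e | e | e | e <;> rw [e]
    · exact one_mem _
    · exact hb
    · exact hc5 _ hb
    · rw [Subgroup.coe_mul]; exact mul_mem hb (hc5 _ hb)

/-- In the case `i t i = s` the centraliser of `e` is the normaliser of `D`. -/
theorem s_norm (hs : h.i * h.t * h.i = h.s) : h.C = normalizer (h.D : Set G) := by
  refine h.cent_e_cases.resolve_right ?_
  rintro ⟨φ, hφs, hφk⟩
  obtain ⟨x, hxt, hxe, hxv, hx⟩ := h.exists_moving φ hφs hφk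
  rcases h.SS_case hs with hall | ha
  · exact h.not_all_fix hxt hxv hx hall
  have hA : ∀ p : A5, (p : Perm (Fin 5)) ∈ h.B := by
    let S : Subgroup A5 := h.B.comap (alternatingGroup (Fin 5)).subtype
    have hc : c5 ∈ S := h.c5_B
    have ht : t5 ∈ S := h.mem_B.2 (by
      show h.i * h.t * h.i ∈ h.X
      rw [hs]; exact h.s_X)
    have h6 : ∀ a ∈ [1, c5, c5⁻¹, t5, t5 * c5, t5 * c5⁻¹], a ∈ S := by
      intro a ha'
      simp only [List.mem_cons, List.not_mem_nil, or_false] at ha'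
      rcases ha' with rfl | rfl | rfl | rfl | rfl | rfl
      · exact one_mem _
      · exact hc
      · exact inv_mem hc
      · exact ht
      · exact mul_mem ht hc
      · exact mul_mem ht (inv_mem hc)
    obtain ⟨a, ha', b, hb', c, hc', e⟩ := v5_word
    have hv : v5 ∈ S := by
      rw [e]
      exact mul_mem (mul_mem (mul_mem (mul_mem (h6 a ha') ha) (h6 b hb')) ha) (h6 c hc')
    exact fun p => closure_A5 (S := S) hc ht hv p
  have hcomm : ∀ p q : A5, Commute (h.f p) (h.i * h.f q * h.i) := by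
    have h1 : ∀ q : A5, ∀ p, InV1 p → Commute (h.f p) (h.i * h.f q * h.i) := fun q p hp =>
      (h.X_f (h.mem_B.1 (hA q)) p hp).symm
    have h2 : ∀ q : A5, ∀ p, InV2 p → Commute (h.f p) (h.i * h.f q * h.i) := by
      intro q p hp
      have hE : ∀ w, h.e * w * h.e = MulAut.conj h.e w := fun w => by rw [MulAut.conj_apply, h.e_inv]
      have := (h1 (tauHom q) (tauHom p) ((tau_V p).2 hp)).map (MulAut.conj h.e).toMonoidHom
      rw [MulEquiv.coe_toMonoidHom, ← hE, ← hE, h.e_f, tauHom_sq,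
        show h.e * (h.i * h.f (tauHom q) * h.i) * h.e = h.i * h.e * h.i * (h.i * h.f (tauHom q) * h.i) * (h.i * h.e * h.i) by
          rw [h.i_e_eq], ← h.i_mul, ← h.i_mul, h.e_f, tauHom_sq] at this
      exact this
    intro p q
    obtain ⟨a, ha', b, hb', c, hc', d, hd', rfl⟩ := four_klein p
    simp only [map_mul]
    exact (((h1 q a (by simpa [InV1] using ha')).mul_left (h2 q b (by simpa [InV2] using hb'))).mul_left
      (h1 q c (by simpa [InV1] using hc'))).mul_left (h2 q d (by simpa [InV2] using hd'))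
  have hy := h.mem_X_conj hxt hxv
  obtain ⟨q, hq, p, hp, hyq⟩ := h.X_form hy
  have hpe : sign p = 1 := by
    rcases Int.units_eq_one_or (sign p) with e | e
    · exact e
    · exfalso
      refine h.tau_B ?_
      have hev : sign (tau * p⁻¹) = 1 := by
        rw [map_mul, map_inv, e, show sign tau = -1 by decide +kernel]; decide
      have := mul_mem (hA ⟨tau * p⁻¹, mem_alternatingGroup.2 hev⟩) hp
      simpa using this
  obtain ⟨p', rfl⟩ : ∃ p' : A5, (p' : Perm (Fin 5)) = p := ⟨⟨p, mem_alternatingGroup.2 hpe⟩, rfl⟩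
  rw [← h.f_apply] at hyq
  set κ := s5 * q * s5⁻¹ with hκ
  have hx' : x = h.f κ * (h.i * h.f p' * h.i) := by
    calc x = h.f s5 * ((h.f s5)⁻¹ * x * h.f s5) * (h.f s5)⁻¹ := by group
      _ = h.f s5 * h.f q * ((h.i * h.f p' * h.i) * (h.f s5)⁻¹) := by rw [hyq]; group
      _ = h.f s5 * h.f q * ((h.f s5)⁻¹ * (h.i * h.f p' * h.i)) := by
        rw [((hcomm s5 p').symm.inv_right).eq]
      _ = _ := by rw [hκ, map_mul, map_mul, map_inv]; group
  clear_value κ
  have hex : h.f (tauHom κ) * (h.i * h.f (tauHom p') * h.i) = h.f κ * (h.i * h.f p' * h.i) := by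
    have e1 : h.e * x * h.e = x := by rw [← hxe, mul_assoc, h.e_sq, mul_one]
    rw [hx'] at e1
    rw [← e1, ← h.e_f, ← h.e_f]
    calc h.e * h.f κ * h.e * (h.i * (h.e * h.f p' * h.e) * h.i)
        = h.e * h.f κ * h.e * (h.i * h.e * h.i * (h.i * h.f p' * h.i) * (h.i * h.e * h.i)) := by
          rw [← h.i_mul, ← h.i_mul]
      _ = h.e * h.f κ * (h.e * h.e) * (h.i * h.f p' * h.i) * h.e := by rw [h.i_e_eq]; group
      _ = _ := by rw [h.e_sq]; group
  have hsep : h.f (κ⁻¹ * tauHom κ) = h.i * h.f (p' * (tauHom p')⁻¹) * h.i := by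
    rw [map_mul, map_inv, map_mul, map_inv, h.i_mul]
    have e := eq_mul_inv_of_mul_eq hex
    rw [e, show h.i * (h.f (tauHom p'))⁻¹ * h.i = (h.i * h.f (tauHom p') * h.i)⁻¹ by
      rw [mul_inv_rev, mul_inv_rev, h.i_inv, mul_assoc]]
    group
  have hcen : κ⁻¹ * tauHom κ = 1 := by
    have hc : ∀ r : A5, (κ⁻¹ * tauHom κ) * r = r * (κ⁻¹ * tauHom κ) := fun r => h.f_inj (by
      rw [map_mul h.f _ r, map_mul h.f r, hsep]; exact (hcomm r _).symm.eq)
    exact center_A5 _ (hc _) (hc _) (hc _)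
  have hκ' : tauHom κ = κ := (inv_mul_eq_one.1 hcen).symm
  have hp' : tauHom p' = p' := by
    rw [hcen, map_one] at hsep
    have h2 := congrArg (fun w => h.i * w * h.i) hsep
    simp only [h.i_i] at h2
    rw [mul_one, h.i_sq, ← map_one h.f] at h2
    exact (mul_inv_eq_one.1 (h.f_inj h2).symm).symm
  obtain ⟨n, en | en⟩ := SS_shape _ (tau_fixed p' hp')
  · refine hx (Or.inl ?_)
    rw [hx', h.f_apply p', en, h.i_c5_pow]
    exact (h.norm_of_form κ n).1
  · refine hx (Or.inr ?_)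
    rw [hx', h.f_apply p', en, map_mul, h.i_mul, h.i_c5_pow]
    show h.f κ * (h.i * h.t * h.i * h.z ^ (n : ℕ)) * h.z * (h.f κ * (h.i * h.t * h.i * h.z ^ (n : ℕ)))⁻¹ = _
    rw [hs]
    exact (h.norm_of_form κ n).2

theorem conj_twice {v : G} (hv : v * v = 1) (a b : G) : v * (a * b) * v = v * a * v * (v * b * v) := by
  calc v * (a * b) * v = v * a * 1 * b * v := by group
    _ = v * a * (v * v) * b * v := by rw [hv]
    _ = _ := by group

/-- In the case `i t i = s` the two alternating groups commute. -/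
theorem s_comm (hs : h.i * h.t * h.i = h.s) : ∀ p q : A5, Commute (h.f p) (h.i * h.f q * h.i) := by
  have hC := h.s_norm hs
  obtain ⟨htz, hvt, hvv, hve⟩ := h.z_facts_t
  set v := h.f v5 with hv
  set w := h.i * v * h.i with hw
  have hte : Commute h.t h.e := by
    show h.t * h.e = h.e * h.t
    rw [t, e, f, MonoidHom.comp_apply, ← map_mul, ← map_mul, t5_conj.2.2.1]
  have hts : Commute h.t h.s := (h.s_f t5).symm
  have his : h.i * h.s * h.i = h.t := by rw [← hs, h.i_i]
  have hi : ∀ a b : G, Commute a b → Commute (h.i * a * h.i) (h.i * b * h.i) := fun a b hab => by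
    show _ * _ = _ * _
    rw [← h.i_mul, ← h.i_mul, hab.eq]
  have hsv : Commute h.s v := h.s_f v5
  have hws : Commute w h.s := by have := hi _ _ (show Commute v h.t from hvt); rwa [hs] at this
  have hwt : Commute w h.t := by have := hi _ _ hsv.symm; rwa [his] at this
  have hww : w * w = 1 := by rw [hw, ← h.i_mul, hvv, mul_one, h.i_sq]
  have hwe : w * h.e * w = h.s * h.e := by
    calc w * h.e * w = w * (h.i * h.e * h.i) * w := by rw [h.i_e_eq]
      _ = h.i * (v * h.e * v) * h.i := by rw [hw, ← h.i_mul, ← h.i_mul]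
      _ = h.i * h.t * h.i * (h.i * h.e * h.i) := by rw [hve, h.i_mul]
      _ = _ := by rw [hs, h.i_e_eq]
  have hvi : v⁻¹ = v := inv_eq_of_mul_eq_one_right hvv
  have hwi : w⁻¹ = w := inv_eq_of_mul_eq_one_right hww
  set a := v * w with ha
  have hat : Commute a h.t := (show Commute v h.t from hvt).mul_left hwt
  have has : Commute a h.s := hsv.symm.mul_left hws
  have hvsv : v * h.s * v = h.s := by rw [← hsv.eq, mul_assoc, hvv, mul_one]
  set k := a * a with hk
  have hke : Commute k h.e := by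
    have e1 : a * h.e * a⁻¹ = h.s * (h.t * h.e) := by
      rw [ha, mul_inv_rev, hvi, hwi, show v * w * h.e * (w * v) = v * (w * h.e * w) * v by group, hwe,
        conj_twice hvv, hvsv, hve]
    have e2 : a * (h.s * (h.t * h.e)) * a⁻¹ = h.e := by
      calc a * (h.s * (h.t * h.e)) * a⁻¹ = (a * h.s * a⁻¹) * ((a * h.t * a⁻¹) * (a * h.e * a⁻¹)) := by group
        _ = h.s * (h.t * (h.s * (h.t * h.e))) := by rw [has.eq, hat.eq, mul_inv_cancel_right, mul_inv_cancel_right, e1]
        _ = h.s * (h.s * (h.t * (h.t * h.e))) := by rw [← mul_assoc h.t h.s, hts.eq, mul_assoc h.s]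
        _ = h.e := by rw [← mul_assoc, h.s_sq, one_mul, ← mul_assoc, h.t_sq, one_mul]
    refine mul_inv_eq_iff_eq_mul.1 ?_
    calc k * h.e * k⁻¹ = a * (a * h.e * a⁻¹) * a⁻¹ := by rw [hk]; group
      _ = h.e := by rw [e1, e2]
  have hkt : Commute k h.t := hat.mul_left hat
  have hks : Commute k h.s := has.mul_left has
  have hkN : k ∈ normalizer (h.D : Set G) := hC ▸ h.mem_C.2 hke.eq
  obtain ⟨m, hm⟩ : k ∈ h.psi.range := by
    refine h.norm_z k ?_
    obtain ⟨c, d, hcd⟩ := h.mem_D ((Subgroup.mem_normalizer_iff.1 hkN h.z).1 h.z_mem)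
    have hcom : Commute (k * h.z * k⁻¹) h.t :=
      (hkt.mul_left (show Commute h.z h.t from htz.symm)).mul_left hkt.inv_left
    rw [hcd] at hcom
    have hd : d = 0 := m8_facts.2.2.2.2 c d (h.psi_inj (by rw [map_mul h.psi _ (inA t5), map_mul h.psi (inA t5)]; exact hcom.eq))
    subst hd
    have hk1 : k * h.z * k⁻¹ = h.z ^ (c : ℕ) := by rw [hcd, h.dd_eq, Fin.val_zero, pow_zero, mul_one]
    fin_cases c
    · exact absurd (conj_eq_one_iff.1 (hk1.trans (pow_zero _))) h.z_ne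
    · exact Or.inl (hk1.trans (pow_one _))
    · exact Or.inr (hk1.trans (show h.z ^ 2 = h.z⁻¹ from eq_inv_of_mul_eq_one_left (by rw [← pow_succ, h.z_cube])))
  obtain ⟨α, β, γ, hm8⟩ := cent_tse m.1
    (cent_s3 m.1 (congrArg Prod.fst (h.psi_inj (show h.psi (m * sP) = h.psi (sP * m) by
      rw [map_mul, map_mul, hm]; exact hks.eq)))) m.2
    (cent_t5_tau m.2 (congrArg Prod.snd (h.psi_inj (show h.psi (m * inA t5) = h.psi (inA t5 * m) by
      rw [map_mul, map_mul, hm]; exact hkt.eq)))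
      (congrArg Prod.snd (h.psi_inj (show h.psi (m * eP) = h.psi (eP * m) by
        rw [map_mul, map_mul, hm]; exact hke.eq))))
  rw [show (m.1, m.2) = m from rfl] at hm8
  have hkform : k = h.s ^ (α : ℕ) * h.t ^ (β : ℕ) * h.e ^ (γ : ℕ) := by
    rw [← hm, hm8, m8, map_mul, map_mul, map_pow, map_pow, map_pow]; rfl
  have hk2 : k * k = 1 := by rw [← hm, hm8, ← map_mul, m8_facts.1, map_one]
  have hconj : ∀ (c x : G), c * c = 1 → ∀ n : ℕ, c * x ^ n * c = (c * x * c) ^ n := by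
    intro c x hc n
    have hci : c⁻¹ = c := inv_eq_of_mul_eq_one_right hc
    rw [show c * x ^ n * c = c * x ^ n * c⁻¹ by rw [hci], ← conj_pow, hci]
  have hik : h.i * k * h.i = k := by
    have e : h.i * a * h.i = w * v := by rw [ha, h.i_mul, hw, h.i_i]
    have hkinv : k⁻¹ = k := inv_eq_of_mul_eq_one_right hk2
    rw [hk, h.i_mul, e]
    calc w * v * (w * v) = (v * w * (v * w))⁻¹ := by rw [mul_inv_rev, mul_inv_rev, hvi, hwi]
      _ = a * a := by rw [← ha, ← hk, hkinv]
  have hαβ : α = β := by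
    have e := hik
    rw [hkform, h.i_mul, h.i_mul, hconj _ _ h.i_sq, hconj _ _ h.i_sq, hconj _ _ h.i_sq, his, hs, h.i_e_eq] at e
    refine m8_facts.2.1 α β γ (h.psi_inj ?_)
    simp only [map_mul, map_pow, m8]
    exact e
  subst hαβ
  have hwk : w * k * w = k := by
    have e1 : k * w = v * w * v := by rw [hk, ha, show v * w * (v * w) * w = v * w * v * (w * w) by group, hww, mul_one]
    have e2 : k * w * (k * w) = 1 := by
      rw [e1, show v * w * v * (v * w * v) = v * w * (v * v) * w * v by group, hvv, mul_one, mul_assoc v w w, hww,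
        mul_one, hvv]
    have := mul_eq_one_iff_eq_inv.1 (show w * k * w * k = 1 by
      calc w * k * w * k = k⁻¹ * (k * w * (k * w)) * k := by group
        _ = 1 := by rw [e2]; group)
    rw [this, inv_eq_of_mul_eq_one_right hk2]
  have hγ : γ = 0 := by
    have e := hwk
    have hws' : w * h.s * w = h.s := by rw [hws.eq, mul_assoc, hww, mul_one]
    have hwt' : w * h.t * w = h.t := by rw [hwt.eq, mul_assoc, hww, mul_one]
    rw [hkform, conj_twice hww, conj_twice hww, hconj _ _ hww, hconj _ _ hww, hconj _ _ hww, hws', hwt', hwe] at e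
    refine m8_facts.2.2.1 α γ (h.psi_inj ?_)
    simp only [map_mul, map_pow, m8]
    exact e
  subst hγ
  simp only [Fin.val_zero, pow_zero, mul_one] at hkform
  -- the subgroup `i A i` commutes with `t`
  have htA : ∀ q, Commute h.t (h.i * h.f q * h.i) := fun q => by
    have := hi _ _ (show Commute h.s (h.f q) from h.s_f q)
    rwa [his] at this
  have hvwv : v * w * v = k * w := by
    rw [hk, ha, show v * w * (v * w) * w = v * w * v * (w * w) by group, hww, mul_one]
  have hvz : v * h.z * v = h.z := by rw [← h.z_f v5, mul_assoc, ← map_mul, tau_facts.2.2.2.2.2.1, map_one, mul_one]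
  have hα : α = 0 := by
    by_contra hne
    have hα1 : α = 1 := Fin.eq_one_of_ne_zero α hne
    subst hα1
    simp only [Fin.val_one, pow_one] at hkform
    let T : Subgroup G :=
      { carrier := {x | ∃ q, x = h.i * h.f q * h.i ∨ x = h.t * (h.i * h.f q * h.i)}
        one_mem' := ⟨1, Or.inl (by rw [map_one, mul_one, h.i_sq])⟩
        mul_mem' := by
          rintro x y ⟨q, hx⟩ ⟨r, hy⟩
          refine ⟨q * r, ?_⟩
          rw [map_mul, h.i_mul]
          rcases hx with rfl | rfl <;> rcases hy with rfl | rfl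
          · exact Or.inl rfl
          · exact Or.inr (by rw [← mul_assoc, ← (htA q).eq, mul_assoc])
          · exact Or.inr (by rw [mul_assoc])
          · refine Or.inl ?_
            rw [show h.t * (h.i * h.f q * h.i) * (h.t * (h.i * h.f r * h.i)) = h.t * ((h.i * h.f q * h.i) * h.t) * (h.i * h.f r * h.i) by group,
              ← (htA q).eq, ← mul_assoc h.t h.t, h.t_sq, one_mul]
        inv_mem' := by
          rintro x ⟨q, hx⟩
          refine ⟨q⁻¹, ?_⟩
          rw [map_inv, show h.i * (h.f q)⁻¹ * h.i = (h.i * h.f q * h.i)⁻¹ by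
            rw [mul_inv_rev, mul_inv_rev, h.i_inv, mul_assoc]]
          rcases hx with rfl | rfl
          · exact Or.inl rfl
          · refine Or.inr ?_
            rw [mul_inv_rev, inv_eq_of_mul_eq_one_right h.t_sq, ((htA q).inv_right).eq] }
    let cv : A5 →* G := (MulAut.conj v).toMonoidHom.comp ((MulAut.conj h.i).toMonoidHom.comp h.f)
    have hcv : ∀ q, cv q = v * (h.i * h.f q * h.i) * v := fun q => by
      show v * (h.i * h.f q * h.i⁻¹) * v⁻¹ = _
      rw [h.i_inv, hvi]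
    have hall : ∀ q, cv q ∈ T := by
      refine fun q => closure_A5 (S := T.comap cv) ?_ ?_ ?_ q
      · refine ⟨c5, Or.inl ?_⟩
        show cv c5 = h.i * h.z' * h.i
        rw [hcv]
        show v * (h.i * h.z' * h.i) * v = _
        rw [h.i_z', hvz]
      · refine ⟨t5, Or.inl ?_⟩
        show cv t5 = h.i * h.t * h.i
        rw [hcv]
        show v * (h.i * h.t * h.i) * v = _
        rw [hs, hvsv]
      · refine ⟨t5 * v5, Or.inr ?_⟩
        show cv v5 = _
        rw [hcv, ← hw, hvwv, hkform, map_mul, h.i_mul, ← hw]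
        show h.s * h.t * w = h.t * (h.i * h.t * h.i * w)
        rw [hs, ← mul_assoc h.t, hts.eq]
    obtain ⟨a0, b0, hab⟩ := v5_comm
    obtain ⟨q1, hq1⟩ := hall a0
    obtain ⟨q2, hq2⟩ := hall b0
    set c : A5 →* G := (MulAut.conj h.i).toMonoidHom.comp h.f
    have hc : ∀ q, h.i * h.f q * h.i = c q := fun q => by
      show _ = h.i * h.f q * h.i⁻¹
      rw [h.i_inv]
    have hcom : ∀ x ∈ [(1 : G), h.t], ∀ y ∈ [(1 : G), h.t], ∀ q r : A5,
        (x * c q) * (y * c r) * (x * c q)⁻¹ * (y * c r)⁻¹ = c (q * r * q⁻¹ * r⁻¹) := by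
      intro x hx y hy q r
      have hxc : ∀ q, Commute x (c q) ∧ Commute y (c q) := fun q => by
        rw [← hc]
        simp only [List.mem_cons, List.not_mem_nil, or_false] at hx hy
        constructor
        · rcases hx with rfl | rfl
          · exact Commute.one_left _
          · exact htA q
        · rcases hy with rfl | rfl
          · exact Commute.one_left _
          · exact htA q
      have hxy : Commute x y := by
        simp only [List.mem_cons, List.not_mem_nil, or_false] at hx hy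
        rcases hx with rfl | rfl <;> rcases hy with rfl | rfl <;> simp
      have e1 : x * c q * (y * c r) * (x * c q)⁻¹ = y * (c q * c r * (c q)⁻¹) := by
        calc x * c q * (y * c r) * (x * c q)⁻¹ = x * (c q * y) * (c r * (c q)⁻¹) * x⁻¹ := by group
          _ = x * (y * c q) * (c r * (c q)⁻¹) * x⁻¹ := by rw [((hxc q).2).eq]
          _ = (x * y) * (c q * c r * (c q)⁻¹) * x⁻¹ := by group
          _ = y * (x * (c q * c r * (c q)⁻¹)) * x⁻¹ := by rw [hxy.eq]; group
          _ = y * ((c q * c r * (c q)⁻¹) * x) * x⁻¹ := by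
            rw [((((hxc q).1).mul_right (hxc r).1).mul_right ((hxc q).1.inv_right)).eq]
          _ = _ := by group
      rw [e1, map_mul, map_mul, map_mul, map_inv, map_inv, mul_inv_rev]
      calc y * (c q * c r * (c q)⁻¹) * ((c r)⁻¹ * y⁻¹) = (y * (c q * c r * (c q)⁻¹ * (c r)⁻¹)) * y⁻¹ := by group
        _ = _ := by
          rw [(((((hxc q).2).mul_right (hxc r).2).mul_right ((hxc q).2.inv_right)).mul_right ((hxc r).2.inv_right)).eq,
            mul_inv_cancel_right]
    have hrep : ∀ (g : G) (q : A5), g = h.i * h.f q * h.i ∨ g = h.t * (h.i * h.f q * h.i) →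
        ∃ x ∈ [(1 : G), h.t], g = x * c q := fun g q hg => by
      rcases hg with e | e
      · exact ⟨1, by simp, by rw [e, hc, one_mul]⟩
      · exact ⟨h.t, by simp, by rw [e, hc]⟩
    obtain ⟨x1, hx1, e1⟩ := hrep _ _ hq1
    obtain ⟨x2, hx2, e2⟩ := hrep _ _ hq2
    have e3 : cv v5 = c (q1 * q2 * q1⁻¹ * q2⁻¹) := by
      rw [← hab, map_mul, map_mul, map_mul, map_inv, map_inv, e1, e2, hcom x1 hx1 x2 hx2]
    rw [hcv, ← hw, hvwv, hkform] at e3
    have e4 : h.s * h.t = c (q1 * q2 * q1⁻¹ * q2⁻¹) * c v5⁻¹ := by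
      rw [← e3, map_inv, ← hc, ← hw, mul_inv_cancel_right]
    rw [← map_mul, ← hc] at e4
    set q3 := q1 * q2 * q1⁻¹ * q2⁻¹ * v5⁻¹
    have e5 : h.t * h.s = h.f q3 := by
      have := congrArg (fun x => h.i * x * h.i) e4
      simp only [h.i_i] at this
      rwa [h.i_mul, his, hs] at this
    refine m8_facts.2.2.2.1 (t5 * q3) (h.psi_inj ?_)
    show h.s = h.f (t5 * q3)
    rw [map_mul, ← e5]
    show h.s = h.t * (h.t * h.s)
    rw [← mul_assoc, h.t_sq, one_mul]
  subst hα
  simp only [Fin.val_zero, pow_zero, mul_one] at hkform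
  have hvw : Commute v w := by
    have : v * w * v = w := by rw [hvwv, hkform, one_mul]
    calc v * w = v * w * v * v := by rw [mul_assoc _ v v, hvv, mul_one]
      _ = w * v := by rw [this]
  have hvA : ∀ q, Commute v (h.i * h.f q * h.i) := by
    let c : A5 →* G := (MulAut.conj h.i).toMonoidHom.comp h.f
    have hc : ∀ q, h.i * h.f q * h.i = c q := fun q => by
      show _ = h.i * h.f q * h.i⁻¹
      rw [h.i_inv]
    have := closure_A5 (S := (centralizer ({v} : Set G)).comap c)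
    intro q
    have hq : c q * v = v * c q := by
      refine mem_centralizer_singleton_iff.1 (this ?_ ?_ ?_ q) <;> rw [mem_comap, mem_centralizer_singleton_iff, ← hc]
      · show h.i * h.z' * h.i * v = v * (h.i * h.z' * h.i)
        rw [h.i_z']; exact h.z_f v5
      · show h.i * h.t * h.i * v = v * (h.i * h.t * h.i)
        rw [hs]; exact hsv.eq
      · exact hvw.symm.eq
    rw [hc]
    exact hq.symm
  intro p q
  have := closure_A5 (S := (centralizer ({h.i * h.f q * h.i} : Set G)).comap h.f) ?_ ?_ ?_ p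
  · exact mem_centralizer_singleton_iff.1 this
  · rw [mem_comap, mem_centralizer_singleton_iff]
    show h.z' * (h.i * h.f q * h.i) = _ * h.z'
    rw [← h.i_z_eq, ← h.i_mul, ← h.i_mul, h.z_f]
  · exact mem_centralizer_singleton_iff.2 (htA q).eq
  · exact mem_centralizer_singleton_iff.2 (hvA q).eq

end Hyp

end Cfsg.Agent.S8ThreeLocal
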