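import Cfsg.Agent.S8ThreeLocal.Facts
import Cfsg.Agent.S3333
import Cfsg.Agent.SelfCentThree.Main

/-!
The centraliser of the involution centralising `D`.
-/

set_option autoImplicit false
set_option synthInstance.maxSize 2000
set_option synthInstance.maxHeartbeats 400000

namespace Cfsg.Agent.S8ThreeLocal

open Equiv Equiv.Perm Subgroup
open Cfsg.Agent.A8ThreeLocal (A5 c5 t5 v5 a1 a2 a3 b1 r3 s3 tau InV1 InV2 tauHom cases_pow_three
  centralizer_card_conj tau_sq)

/-- A quotient of order three is impossible when the element of order three is inverted. -/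
theorem no_index_three {Q : Type*} [Group Q] (N : Subgroup Q) [N.Normal]
    (hN : (Nat.card N).Coprime 3) (h3 : Nat.card (Q ⧸ N) = 3) {x s : Q} (hx : x ^ 3 = 1) (hx1 : x ≠ 1)
    (hs : s * s = 1) (hinv : s * x * s = x⁻¹) : False := by
  have : Fact (Nat.Prime 3) := ⟨Nat.prime_three⟩
  have hcyc : IsMulCommutative (Q ⧸ N) := by
    have := isCyclic_of_prime_card h3
    exact IsCyclic.isMulCommutative
  set π := QuotientGroup.mk' N
  have h1 : π s * π x * π s = (π x)⁻¹ := by rw [← map_mul, ← map_mul, hinv, map_inv]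
  rw [hcyc.is_comm.comm (π s) (π x), mul_assoc, ← map_mul π s, hs, map_one, mul_one] at h1
  have h2 : x * x ∈ N := (QuotientGroup.eq_one_iff _).1 (by
    show π (x * x) = 1
    rw [map_mul]; nth_rw 1 [h1]; exact inv_mul_cancel _)
  have hd : orderOf (⟨x * x, h2⟩ : N) ∣ 3 := orderOf_dvd_of_pow_eq_one (Subtype.ext (by
    show (x * x) ^ 3 = 1
    rw [(Commute.refl x).mul_pow, hx, one_mul]))
  rcases (Nat.dvd_prime Nat.prime_three).1 hd with e | e
  · have e' : x * x = 1 := congrArg Subtype.val (orderOf_eq_one_iff.1 e)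
    rw [pow_succ, pow_two, e', one_mul] at hx
    exact hx1 hx
  · have := _root_.orderOf_dvd_natCard (⟨x * x, h2⟩ : N)
    rw [e] at this
    have h31 : 3 ∣ Nat.gcd (Nat.card N) 3 := Nat.dvd_gcd this dvd_rfl
    rw [hN] at h31
    norm_num at h31

/-- A self-centralising element of order three in a central quotient. -/
theorem sc_mk {X : Type*} [Group X] [Finite X] (V : Subgroup X) [V.Normal]
    (hV : ∀ v ∈ V, v * v = 1 ∧ ∀ x : X, x * v = v * x) {z : X} (hz : z ^ 3 = 1) (hz1 : z ≠ 1)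
    (hcent : ∀ x : X, x * z = z * x → ∃ n : ℕ, ∃ v ∈ V, x = z ^ n * v) :
    SelfCentThree.Sc (QuotientGroup.mk' V z) := by
  have : Fact (Nat.Prime 3) := ⟨Nat.prime_three⟩
  have hzV : z ∉ V := fun h => hz1 (by
    rw [pow_succ, pow_two, (hV z h).1, one_mul] at hz; exact hz)
  have hne : QuotientGroup.mk' V z ≠ 1 := fun e => hzV ((QuotientGroup.eq_one_iff z).1 e)
  refine ⟨by rw [← map_pow, hz, map_one], hne, le_antisymm ?_ ?_⟩
  · intro q hq
    obtain ⟨x, rfl⟩ := QuotientGroup.mk'_surjective V q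
    rw [mem_centralizer_singleton_iff, ← map_mul, ← map_mul] at hq
    obtain ⟨v, hv, e⟩ := (QuotientGroup.mk'_eq_mk' V).1 hq.symm
    have e1 : x * z * x⁻¹ = z * v := by
      rw [← e, mul_assoc z x v, (hV v hv).2 x]; group
    have e2 : v = 1 := by
      have h3 := congrArg (· ^ 3) e1
      simp only [conj_pow, hz, mul_one, mul_inv_cancel] at h3
      rw [(show Commute z v from (hV v hv).2 z).mul_pow, hz, one_mul, pow_succ, pow_two, (hV v hv).1, one_mul] at h3
      exact h3.symm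
    rw [e2, mul_one] at e1
    obtain ⟨n, w, hw, rfl⟩ := hcent x (mul_inv_eq_iff_eq_mul.1 e1)
    rw [map_mul, show QuotientGroup.mk' V w = 1 from (QuotientGroup.eq_one_iff w).2 hw, mul_one, map_pow]
    exact pow_mem (mem_zpowers _) _
  · rw [zpowers_le, mem_centralizer_singleton_iff]

theorem perm_six_cent : (∀ c : Perm (Fin 6), c ^ 3 = 1 → c * (swap 0 1 * swap 2 3) = swap 0 1 * swap 2 3 * c → c = 1) ∧
    (Finset.univ.filter fun c : Perm (Fin 6) => c * swap 0 1 = swap 0 1 * c).card = 48 ∧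
    (Finset.univ.filter fun c : Perm (Fin 6) =>
      c * (swap 0 1 * swap 2 3 * swap 4 5) = swap 0 1 * swap 2 3 * swap 4 5 * c).card = 48 := by decide +kernel

theorem invol_six (m c : Perm (Fin 6)) (h2 : m * m = 1) (h1 : m ≠ 1) (hc : c ^ 3 = 1) (hc1 : c ≠ 1)
    (hcm : c * m = m * c) : Nat.card (centralizer ({m} : Set (Perm (Fin 6)))) = 48 := by
  have : Fact (Nat.Prime 2) := ⟨Nat.prime_two⟩
  have ho : orderOf m = 2 := orderOf_eq_prime (by rw [pow_two]; exact h2) h1
  obtain ⟨n, hn⟩ := cycleType_prime_order (ho ▸ Nat.prime_two : (orderOf m).Prime)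
  rw [ho] at hn
  have hsum : m.support.card = 2 * (n + 1) := by
    rw [← sum_cycleType, hn, Multiset.sum_replicate]; simp [mul_comm]
  have hle : m.support.card ≤ 6 := (Finset.card_le_univ _).trans (by simp)
  have key : ∀ m0 : Perm (Fin 6), m.cycleType = m0.cycleType →
      (Finset.univ.filter fun c : Perm (Fin 6) => c * m0 = m0 * c).card = 48 →
      Nat.card (centralizer ({m} : Set (Perm (Fin 6)))) = 48 := by
    intro m0 he hcard
    obtain ⟨g, hg⟩ := isConj_iff.1 (isConj_iff_cycleType_eq.2 he.symm)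
    rw [← hg, centralizer_card_conj, ← hcard]
    exact Nat.subtype_card _ fun x => by simp [mem_centralizer_singleton_iff]
  rcases (show n = 0 ∨ n = 1 ∨ n = 2 by omega) with rfl | rfl | rfl
  · exact key (swap 0 1) (by rw [hn]; decide +kernel) perm_six_cent.2.1
  · exfalso
    obtain ⟨g, hg⟩ := isConj_iff.1 (isConj_iff_cycleType_eq.2
      (show m.cycleType = (swap (0 : Fin 6) 1 * swap 2 3).cycleType by rw [hn]; decide +kernel))
    refine hc1 (conj_eq_one_iff.1 (perm_six_cent.1 (g * c * g⁻¹) (by rw [conj_pow, hc, mul_one, mul_inv_cancel]) ?_))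
    rw [← hg]
    calc g * c * g⁻¹ * (g * m * g⁻¹) = g * (c * m) * g⁻¹ := by group
      _ = g * (m * c) * g⁻¹ := by rw [hcm]
      _ = _ := by group
  · exact key (swap 0 1 * swap 2 3 * swap 4 5) (by rw [hn]; decide +kernel) perm_six_cent.2.2

theorem three_four_trivial : ∀ r a : Perm (Fin 3), r ^ 3 = 1 → r ≠ 1 → a ^ 4 = 1 →
    (a * (r * a * r⁻¹)) ^ 4 = 1 → a = 1 := by decide +kernel

theorem K2_comm : ∀ p : Perm (Fin 5), p = 1 ∨ p = t5 ∨ p = tau ∨ p = (t5 : Perm (Fin 5)) * tau →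
    (p * p = 1 ∧ p * (c5 : Perm (Fin 5)) * p⁻¹ ∈ [(c5 : Perm (Fin 5)), (c5 : Perm (Fin 5))⁻¹]) := by
  decide +kernel

namespace Hyp

variable {G : Type*} [Group G] [Finite G] (h : Hyp G)

/-- The centraliser of `e`. -/
def C : Subgroup G := centralizer ({h.e} : Set G)

theorem mem_C {g : G} : g ∈ h.C ↔ g * h.e = h.e * g := mem_centralizer_singleton_iff

theorem norm_le_C : normalizer (h.D : Set G) ≤ h.C := fun _ hn => h.mem_C.2 (h.norm_cent_e hn)

theorem eq_or_mul_e {d x : G} (hd : d ∈ h.D) (hx : x ^ 3 = 1) (hcase : x = d ∨ x = d * h.e) : x = d := by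
  rcases hcase with e | e
  · exact e
  · exfalso
    rw [e, (show Commute d h.e from (h.e_D hd).symm).mul_pow, h.D_cube hd, one_mul, pow_succ, pow_two,
      h.e_sq, one_mul] at hx
    exact h.e_ne hx

theorem mem_norm_of_map {g : G} (hg : ∀ d ∈ h.D, g * d * g⁻¹ ∈ h.D) : g ∈ normalizer (h.D : Set G) := by
  have hle : h.D.map (MulAut.conj g).toMonoidHom ≤ h.D := by
    rintro _ ⟨x, hx, rfl⟩; exact hg x hx
  have heq := eq_of_le_of_card_ge hle (card_map_of_injective (MulAut.conj g).injective).ge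
  rw [Subgroup.mem_normalizer_iff]
  intro x
  refine ⟨hg x, fun hx => ?_⟩
  obtain ⟨w, hw, e⟩ : g * x * g⁻¹ ∈ h.D.map (MulAut.conj g).toMonoidHom := heq.symm ▸ hx
  exact (MulAut.conj g).injective e ▸ hw

theorem mem_cent_D_iff {n : G} : n ∈ centralizer (h.D : Set G) ↔ n ∈ h.D ∨ n * h.e ∈ h.D := by
  constructor
  · intro hn
    exact h.cent_D n (mem_centralizer_iff.1 hn _ h.z_mem).symm (mem_centralizer_iff.1 hn _ h.z'_mem).symm
  · intro hn
    have hD : h.D ≤ centralizer (h.D : Set G) := fun a ha => mem_centralizer_iff.2 fun b hb => h.D_comm b hb a ha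
    have he : h.e ∈ centralizer (h.D : Set G) := mem_centralizer_iff.2 fun b hb => (h.e_D hb).symm
    rcases hn with hn | hn
    · exact hD hn
    · have := mul_mem (hD hn) he
      rwa [mul_assoc, h.e_sq, mul_one] at this

/-- The dichotomy for the centraliser of `e`. -/
theorem cent_e_cases : h.C = normalizer (h.D : Set G) ∨
    ∃ φ : h.C →* Perm (Fin 6), Function.Surjective φ ∧ ∀ c : h.C, φ c = 1 ↔ (c : G) = 1 ∨ (c : G) = h.e := by
  classical
  have : Fact (Nat.Prime 3) := ⟨Nat.prime_three⟩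
  let eC : h.C := ⟨h.e, h.mem_C.2 rfl⟩
  set E : Subgroup h.C := zpowers eC
  have hEmem : ∀ x : h.C, x ∈ E ↔ (x : G) = 1 ∨ (x : G) = h.e := by
    intro x
    constructor
    · intro hx
      obtain ⟨n, rfl⟩ := mem_zpowers_iff.1 hx
      have e2 : eC ^ (2 : ℤ) = 1 := Subtype.ext (by rw [zpow_two]; exact h.e_sq)
      rcases Int.even_or_odd n with ⟨m, rfl⟩ | ⟨m, rfl⟩
      · left; rw [← two_mul, zpow_mul, e2, one_zpow, OneMemClass.coe_one]
      · right; rw [zpow_add, zpow_mul, e2, one_zpow, one_mul, zpow_one]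
    · rintro (e | e)
      · rw [show x = 1 from Subtype.ext e]; exact one_mem _
      · rw [show x = eC from Subtype.ext e]; exact mem_zpowers _
  have hEn : E.Normal := ⟨fun x hx c => by
    rcases (hEmem x).1 hx with e | e
    · rw [show x = 1 from Subtype.ext e, mul_one, mul_inv_cancel]; exact one_mem _
    · refine (hEmem _).2 (Or.inr ?_)
      show (c : G) * x * (c : G)⁻¹ = h.e
      rw [e, h.mem_C.1 c.2, mul_inv_cancel_right]⟩
  set π := QuotientGroup.mk' E with hπ
  have hπeq : ∀ a b : h.C, π a = π b → (b : G) = a ∨ (b : G) = a * h.e := by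
    intro a b hab
    obtain ⟨w, hw, rfl⟩ := (QuotientGroup.mk'_eq_mk' E).1 hab
    rcases (hEmem w).1 hw with e | e
    · left; rw [Subgroup.coe_mul, e, mul_one]
    · right; rw [Subgroup.coe_mul, e]
  have hπe : π eC = 1 := (QuotientGroup.eq_one_iff eC).2 (mem_zpowers _)
  set Db := (h.D.subgroupOf h.C).map π with hDb
  have hDC : h.D ≤ h.C := fun d hd => h.mem_C.2 (h.e_D hd).symm
  have hDbmem : ∀ c : h.C, π c ∈ Db ↔ (c : G) ∈ centralizer (h.D : Set G) := by
    intro c
    rw [h.mem_cent_D_iff]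
    constructor
    · rintro ⟨d, hd, e⟩
      rcases hπeq d c e with e' | e'
      · exact Or.inl (e' ▸ hd)
      · refine Or.inr ?_
        rw [e', mul_assoc, h.e_sq, mul_one]
        exact hd
    · rintro (hc | hc)
      · exact ⟨c, hc, rfl⟩
      · refine ⟨c * eC, hc, ?_⟩
        rw [map_mul, hπe, mul_one]
  have hDbrep : ∀ q ∈ Db, ∃ d : h.C, (d : G) ∈ h.D ∧ π d = q := fun q ⟨d, hd, e⟩ => ⟨d, hd, e⟩
  have hcard : Nat.card Db = 9 := by
    have hinj : Function.Injective (fun d : h.D => (⟨π ⟨d, hDC d.2⟩, ⟨⟨d, hDC d.2⟩, d.2, rfl⟩⟩ : Db)) := by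
      intro a b e
      refine Subtype.ext (h.eq_or_mul_e a.2 (h.D_cube b.2) ?_).symm
      exact hπeq _ _ (congrArg Subtype.val e)
    rw [← h.card_D]
    refine (Nat.card_eq_of_bijective _ ⟨hinj, ?_⟩).symm
    rintro ⟨q, hq⟩
    obtain ⟨d, hd, rfl⟩ := hDbrep q hq
    exact ⟨⟨d, hd⟩, rfl⟩
  obtain ⟨P, hP⟩ := (IsPGroup.of_card (p := 3) (n := 2) (G := Db) (by rw [hcard]; norm_num)).exists_le_sylow
  have hPD : Db = P := eq_of_le_of_card_ge hP (by
    obtain ⟨n, hn⟩ := IsPGroup.iff_card.1 P.2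
    have hn2 : n ≤ 2 := by
      by_contra hlt
      refine h.not_27 ((pow_dvd_pow 3 (show 3 ≤ n by omega)).trans (hn ▸ ?_))
      exact ((card_subgroup_dvd_card _).trans (card_quotient_dvd_card E)).trans (card_subgroup_dvd_card h.C)
    rw [hcard, hn]
    exact (Nat.pow_le_pow_right (by norm_num : 0 < 3) hn2).trans (by norm_num))
  have hfix : ∀ (c d : h.C), (d : G) ∈ h.D → ∀ d' : h.C, (d' : G) ∈ h.D → π (c * d * c⁻¹) = π d' →
      (c : G) * d * (c : G)⁻¹ = d' := fun c d hd d' hd' e =>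
    h.eq_or_mul_e hd' (by rw [conj_pow, h.D_cube hd, mul_one, mul_inv_cancel]) (hπeq _ _ e.symm)
  have hCb : centralizer (Db : Set (h.C ⧸ E)) = Db := by
    ext q
    obtain ⟨c, rfl⟩ := QuotientGroup.mk'_surjective E q
    rw [hDbmem, mem_centralizer_iff, mem_centralizer_iff]
    constructor
    · intro hq x hx
      have e := hq (π ⟨x, hDC hx⟩) ⟨_, hx, rfl⟩
      have := hfix c ⟨x, hDC hx⟩ hx ⟨x, hDC hx⟩ hx (by
        rw [map_mul, map_mul, map_inv, ← e, mul_inv_cancel_right])
      exact (mul_inv_eq_iff_eq_mul.1 this).symm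
    · intro hq x hx
      obtain ⟨d, hd, rfl⟩ := hDbrep x hx
      rw [← map_mul, ← map_mul]
      exact congrArg π (Subtype.ext (hq d hd))
  have hNb : ∀ c : h.C, π c ∈ normalizer (Db : Set (h.C ⧸ E)) ↔ (c : G) ∈ normalizer (h.D : Set G) := by
    intro c
    constructor
    · intro hc
      refine h.mem_norm_of_map fun d hd => ?_
      obtain ⟨d', hd', e⟩ := hDbrep _ ((Subgroup.mem_normalizer_iff.1 hc (π ⟨d, hDC hd⟩)).1 ⟨_, hd, rfl⟩)
      rw [hfix c ⟨d, hDC hd⟩ hd d' hd' (by rw [map_mul, map_mul, map_inv, e])]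
      exact hd'
    · intro hc
      rw [Subgroup.mem_normalizer_iff]
      intro q
      obtain ⟨x, rfl⟩ := QuotientGroup.mk'_surjective E q
      rw [← map_inv, ← map_mul, ← map_mul, hDbmem, hDbmem, h.mem_cent_D_iff, h.mem_cent_D_iff]
      have e1 := Subgroup.mem_normalizer_iff.1 hc (x : G)
      have e2 := Subgroup.mem_normalizer_iff.1 hc ((x : G) * h.e)
      have e3 : (c : G) * ((x : G) * h.e) * (c : G)⁻¹ = (c : G) * x * (c : G)⁻¹ * h.e := by
        have : h.e * (c : G)⁻¹ = (c : G)⁻¹ * h.e := ((show Commute h.e (c : G) from (h.mem_C.1 c.2).symm).inv_right).eq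
        rw [← mul_assoc (c : G), mul_assoc _ h.e, this]
        group
      rw [e3] at e2
      exact or_congr e1 e2
  let ρ : normalizer (h.D : Set G) →* normalizer (Db : Set (h.C ⧸ E)) :=
    (π.comp (Subgroup.inclusion h.norm_le_C)).codRestrict _ fun n => (hNb _).2 n.2
  have hρs : Function.Surjective ρ := by
    rintro ⟨q, hq⟩
    obtain ⟨c, rfl⟩ := QuotientGroup.mk'_surjective E q
    exact ⟨⟨c, (hNb c).1 hq⟩, Subtype.ext rfl⟩
  obtain ⟨φ, hφs, hφk⟩ := h.d8
  have hDbn : (Db.subgroupOf (normalizer (Db : Set (h.C ⧸ E)))).Normal := normal_in_normalizer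
  let μ := (QuotientGroup.mk' (Db.subgroupOf (normalizer (Db : Set (h.C ⧸ E))))).comp ρ
  have hμs : Function.Surjective μ := (QuotientGroup.mk'_surjective _).comp hρs
  have hker : μ.ker = φ.ker := by
    ext n
    rw [MonoidHom.mem_ker, MonoidHom.mem_ker, hφk]
    show QuotientGroup.mk' _ (ρ n) = 1 ↔ _
    rw [QuotientGroup.mk'_apply, QuotientGroup.eq_one_iff, mem_subgroupOf]
    exact hDbmem _
  have eN : normalizer (Db : Set (h.C ⧸ E)) ⧸ Db.subgroupOf (normalizer (Db : Set (h.C ⧸ E))) ≃*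
      DihedralGroup 4 :=
    ((QuotientGroup.quotientKerEquivOfSurjective μ hμs).symm.trans
      (QuotientGroup.quotientMulEquivOfEq hker)).trans (QuotientGroup.quotientKerEquivOfSurjective φ hφs)
  have hcent : ∀ x ∈ Db, x ≠ 1 → centralizer ({x} : Set (h.C ⧸ E)) ≤ normalizer (Db : Set (h.C ⧸ E)) := by
    intro x hx hx1 q hq
    obtain ⟨d, hd, rfl⟩ := hDbrep x hx
    obtain ⟨c, rfl⟩ := QuotientGroup.mk'_surjective E q
    have e := hfix c d hd d hd (by
      rw [map_mul, map_mul, map_inv, mem_centralizer_singleton_iff.1 hq, mul_inv_cancel_right])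
    refine (hNb c).2 (h.cent_e_D hd (fun e1 => hx1 ?_) (mul_inv_eq_iff_eq_mul.1 e) (h.mem_C.1 c.2))
    rw [show d = 1 from Subtype.ext e1, map_one]
  rcases S3333.result P Db hPD hcard hCb eN hcent with hn | ⟨⟨e6⟩⟩
  · refine Or.inl (le_antisymm (fun c hc => ?_) h.norm_le_C)
    refine (hNb ⟨c, hc⟩).1 ?_
    rw [normalizer_eq_top_iff.2 hn]
    exact mem_top _
  · refine Or.inr ⟨e6.toMonoidHom.comp π, e6.surjective.comp (QuotientGroup.mk'_surjective E), fun c => ?_⟩
    show e6 (π c) = 1 ↔ _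
    rw [map_eq_one_iff _ e6.injective, hπ, QuotientGroup.mk'_apply, QuotientGroup.eq_one_iff, hEmem]

theorem card_C_of_six (φ : h.C →* Perm (Fin 6)) (hs : Function.Surjective φ)
    (hk : ∀ c : h.C, φ c = 1 ↔ (c : G) = 1 ∨ (c : G) = h.e) : Nat.card h.C = 1440 := by
  have h2 : Nat.card φ.ker = 2 := by
    rw [Nat.card_eq_two_iff]
    refine ⟨1, ⟨⟨h.e, h.mem_C.2 rfl⟩, (hk _).2 (Or.inr rfl)⟩, fun e => h.e_ne ?_, ?_⟩
    · exact (congrArg (fun x : φ.ker => ((x : h.C) : G)) e).symm
    · refine Set.eq_univ_iff_forall.2 fun x => ?_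
      rcases (hk x.1).1 x.2 with e | e
      · exact Or.inl (Subtype.ext (Subtype.ext e))
      · exact Or.inr (Subtype.ext (Subtype.ext e))
  rw [card_eq_card_quotient_mul_card_subgroup φ.ker, h2,
    Nat.card_congr (QuotientGroup.quotientKerEquivOfSurjective φ hs).toEquiv, Nat.card_perm, Nat.card_fin]
  rfl

theorem z_facts_t : h.t * h.z = h.z * h.t ∧ h.f v5 * h.t = h.t * h.f v5 ∧ h.f v5 * h.f v5 = 1 ∧
    h.f v5 * h.e * h.f v5 = h.t * h.e := by
  refine ⟨(h.z_f t5).symm, ?_, ?_, ?_⟩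
  · rw [t, ← map_mul, ← map_mul, tau_facts.2.2.2.2.2.2]
  · rw [← map_mul, tau_facts.2.2.2.2.2.1, map_one]
  · show h.psi (inA v5) * h.psi eP * h.psi (inA v5) = h.psi (inA t5) * h.psi eP
    rw [← map_mul, ← map_mul, ← map_mul]
    exact congrArg h.psi (by decide +kernel)

/-- The case of the symmetric group of degree six supplies an element moving `z`. -/
theorem exists_moving (φ : h.C →* Perm (Fin 6)) (hs : Function.Surjective φ)
    (hk : ∀ c : h.C, φ c = 1 ↔ (c : G) = 1 ∨ (c : G) = h.e) :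
    ∃ x : G, x * h.t = h.t * x ∧ x * h.e = h.e * x ∧ x * h.f v5 = h.f v5 * x ∧
      ¬ (x * h.z * x⁻¹ = h.z ∨ x * h.z * x⁻¹ = h.z⁻¹) := by
  classical
  obtain ⟨htz, hvt, hvv, hve⟩ := h.z_facts_t
  have hte : h.t * h.e = h.e * h.t := by
    rw [t, e, f, MonoidHom.comp_apply, ← map_mul, ← map_mul, t5_conj.2.2.1]
  have hts : h.t * h.s = h.s * h.t := (h.s_f t5).symm
  let tC : h.C := ⟨h.t, h.mem_C.2 hte⟩
  let zC : h.C := ⟨h.z, h.mem_C.2 h.e_z.symm⟩
  have ht1 : h.t ≠ 1 := fun e => (show t5 ≠ 1 by decide +kernel) (h.f_inj (e.trans (map_one _).symm))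
  have h48 : Nat.card (centralizer ({φ tC} : Set (Perm (Fin 6)))) = 48 := by
    refine invol_six _ (φ zC) ?_ (fun e => ?_) ?_ (fun e => ?_) ?_
    · rw [← map_mul, show tC * tC = 1 from Subtype.ext h.t_sq, map_one]
    · rcases (hk _).1 e with e' | e'
      · exact ht1 e'
      · exact (show (t5 : Perm (Fin 5)) ≠ tau by decide +kernel) (h.r_inj e')
    · rw [← map_pow, show zC ^ 3 = 1 from Subtype.ext h.z_cube, map_one]
    · rcases (hk _).1 e with e' | e'
      · exact h.z_ne e'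
      · have := h.z_cube
        rw [show h.z = h.e from e', pow_succ, pow_two, h.e_sq, one_mul] at this
        exact h.e_ne this
    · rw [← map_mul, ← map_mul]; exact congrArg φ (Subtype.ext htz.symm)
  set PP := (centralizer ({φ tC} : Set (Perm (Fin 6)))).comap φ
  have hPP : Nat.card PP = 96 := by
    have h1 := PP.card_mul_index
    have h2 := (centralizer ({φ tC} : Set (Perm (Fin 6)))).card_mul_index
    rw [index_comap_of_surjective _ hs, h.card_C_of_six φ hs hk] at h1
    rw [h48, Nat.card_perm, Nat.card_fin] at h2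
    have : (centralizer ({φ tC} : Set (Perm (Fin 6)))).index = 15 := by
      rw [show (Nat.factorial 6) = 720 from rfl] at h2; omega
    rw [this] at h1
    omega
  set Y : Subgroup G := centralizer ({h.t, h.e} : Set G)
  have hY : ∀ {g : G}, g ∈ Y ↔ g * h.t = h.t * g ∧ g * h.e = h.e * g := fun {g} => by
    simp [Y, mem_centralizer_iff, eq_comm]
  have hYC : Y ≤ h.C := fun g hg => h.mem_C.2 (hY.1 hg).2
  set YC := Y.subgroupOf h.C
  have hYPP : YC ≤ PP := fun c hc => by
    rw [mem_comap, mem_centralizer_singleton_iff, ← map_mul, ← map_mul]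
    exact congrArg φ (Subtype.ext (hY.1 hc).1)
  have hmove : ∀ c ∈ PP, c ∈ YC ∨ (c : G) * h.t * (c : G)⁻¹ = h.t * h.e := by
    intro c hc
    rw [mem_comap, mem_centralizer_singleton_iff, ← map_mul, ← map_mul] at hc
    have he : φ ((c * tC) * (tC * c)⁻¹) = 1 := by rw [map_mul, map_inv, hc, mul_inv_cancel]
    rcases (hk _).1 he with e | e
    · exact Or.inl (hY.2 ⟨mul_inv_eq_one.1 e, h.mem_C.1 c.2⟩)
    · refine Or.inr ?_
      have e' : (c : G) * h.t * ((c : G)⁻¹ * h.t⁻¹) = h.e := by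
        rw [← mul_inv_rev]; exact e
      rw [inv_eq_of_mul_eq_one_right h.t_sq] at e'
      calc (c : G) * h.t * (c : G)⁻¹ = (c : G) * h.t * ((c : G)⁻¹ * h.t) * h.t := by
            rw [mul_assoc _ ((c : G)⁻¹ * h.t) h.t, mul_assoc (c : G)⁻¹, h.t_sq, mul_one]
        _ = h.e * h.t := by rw [e']
        _ = _ := hte.symm
  have hYdvd : Nat.card Y ∣ 96 := by
    rw [← hPP, ← Nat.card_congr (subgroupOfEquivOfLe hYC).toEquiv]
    exact card_dvd_of_le hYPP
  have hYge : 48 ≤ Nat.card Y := by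
    by_cases hall : ∀ c ∈ PP, c ∈ YC
    · have := Subgroup.card_le_of_le (show PP ≤ YC from hall)
      rw [hPP, Nat.card_congr (subgroupOfEquivOfLe hYC).toEquiv] at this
      omega
    · push Not at hall
      obtain ⟨c0, hc0, hc0Y⟩ := hall
      have e0 := (hmove c0 hc0).resolve_left hc0Y
      have hle : Nat.card PP ≤ Nat.card (Bool × YC) := by
        refine Nat.card_le_card_of_injective (fun c => if hc : c.1 ∈ YC then (false, ⟨c.1, hc⟩)
          else (true, ⟨c0⁻¹ * c.1, ?_⟩)) ?_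
        · have e1 := (hmove c.1 c.2).resolve_left hc
          refine hY.2 ⟨mul_inv_eq_iff_eq_mul.1 ?_, h.mem_C.1 (c0⁻¹ * c.1).2⟩
          show (c0 : G)⁻¹ * (c.1 : G) * h.t * ((c0 : G)⁻¹ * (c.1 : G))⁻¹ = h.t
          calc (c0 : G)⁻¹ * (c.1 : G) * h.t * ((c0 : G)⁻¹ * (c.1 : G))⁻¹
              = (c0 : G)⁻¹ * ((c.1 : G) * h.t * (c.1 : G)⁻¹) * c0 := by group
            _ = (c0 : G)⁻¹ * ((c0 : G) * h.t * (c0 : G)⁻¹) * c0 := by rw [e1, e0]
            _ = h.t := by group
        · intro a b hab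
          simp only at hab
          split_ifs at hab with ha hb hb
          · exact Subtype.ext (congrArg (fun x : Bool × YC => (x.2 : h.C)) hab)
          · exact absurd (congrArg Prod.fst hab) Bool.false_ne_true
          · exact absurd (congrArg Prod.fst hab).symm Bool.false_ne_true
          · exact Subtype.ext (mul_left_cancel (congrArg (fun x : Bool × YC => (x.2 : h.C)) hab))
      rw [hPP, Nat.card_prod, Nat.card_eq_fintype_card (α := Bool), Fintype.card_bool,
        Nat.card_congr (subgroupOfEquivOfLe hYC).toEquiv] at hle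
      omega
  -- the quotient by the four group
  set K : Subgroup Y := (closure {h.t, h.e}).subgroupOf Y
  have hKr : ∀ g, g ∈ closure ({h.t, h.e} : Set G) → ∃ p : Perm (Fin 5),
      (p = 1 ∨ p = t5 ∨ p = tau ∨ p = (t5 : Perm (Fin 5)) * tau) ∧ g = h.r p := by
    have key : ∀ p ∈ [1, (t5 : Perm (Fin 5)), tau, (t5 : Perm (Fin 5)) * tau],
        p⁻¹ ∈ [1, (t5 : Perm (Fin 5)), tau, (t5 : Perm (Fin 5)) * tau] ∧
        ∀ q ∈ [1, (t5 : Perm (Fin 5)), tau, (t5 : Perm (Fin 5)) * tau],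
          p * q ∈ [1, (t5 : Perm (Fin 5)), tau, (t5 : Perm (Fin 5)) * tau] := by decide +kernel
    intro g hg
    induction hg using closure_induction with
    | mem x hx =>
      rcases hx with rfl | rfl
      · exact ⟨_, Or.inr (Or.inl rfl), rfl⟩
      · exact ⟨_, Or.inr (Or.inr (Or.inl rfl)), rfl⟩
    | one => exact ⟨1, Or.inl rfl, (map_one _).symm⟩
    | mul a b _ _ ha hb =>
      obtain ⟨p, hp, rfl⟩ := ha
      obtain ⟨q, hq, rfl⟩ := hb
      exact ⟨p * q, by simpa using (key p (by simpa using hp)).2 q (by simpa using hq), (map_mul _ _ _).symm⟩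
    | inv a _ ha =>
      obtain ⟨p, hp, rfl⟩ := ha
      exact ⟨p⁻¹, by simpa using (key p (by simpa using hp)).1, (map_inv _ _).symm⟩
  have hK4 : ∀ g, g ∈ closure ({h.t, h.e} : Set G) →
      g = 1 ∨ g = h.t ∨ g = h.e ∨ g = h.t * h.e := by
    intro g hg
    obtain ⟨p, hp, rfl⟩ := hKr g hg
    rcases hp with rfl | rfl | rfl | rfl
    · exact Or.inl (map_one _)
    · exact Or.inr (Or.inl rfl)
    · exact Or.inr (Or.inr (Or.inl rfl))
    · exact Or.inr (Or.inr (Or.inr (map_mul _ _ _)))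
  have hKc : ∀ k ∈ K, k * k = 1 ∧ ∀ y : Y, y * k = k * y := by
    intro k hk'
    refine ⟨Subtype.ext ?_, fun y => Subtype.ext ?_⟩
    · obtain ⟨p, hp, e⟩ := hKr (k : G) hk'
      rw [Subgroup.coe_mul, e, ← map_mul, (K2_comm p hp).1, map_one, OneMemClass.coe_one]
    · show (y : G) * k = k * y
      obtain ⟨e1, e2⟩ := hY.1 y.2
      rcases hK4 (k : G) hk' with e | e | e | e <;> rw [e]
      · simp
      · exact e1
      · exact e2
      · exact ((show Commute (y : G) h.t from e1).mul_right e2).eq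
  have hKn : K.Normal := ⟨fun k hk' y => by rw [(hKc k hk').2 y, mul_inv_cancel_right]; exact hk'⟩
  let zY : Y := ⟨h.z, hY.2 ⟨htz.symm, h.e_z.symm⟩⟩
  let sY : Y := ⟨h.s, hY.2 ⟨hts.symm, h.e_s.symm⟩⟩
  have hKmem : ∀ p : Perm (Fin 5), (p = 1 ∨ p = t5 ∨ p = tau ∨ p = (t5 : Perm (Fin 5)) * tau) →
      h.r p ∈ closure ({h.t, h.e} : Set G) := by
    intro p hp
    have h1 : h.t ∈ closure ({h.t, h.e} : Set G) := subset_closure (Set.mem_insert _ _)
    have h2 : h.e ∈ closure ({h.t, h.e} : Set G) := subset_closure (Set.mem_insert_of_mem _ rfl)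
    rcases hp with rfl | rfl | rfl | rfl
    · rw [map_one]; exact one_mem _
    · exact h1
    · exact h2
    · rw [map_mul]; exact mul_mem h1 h2
  have hsc : SelfCentThree.Sc (QuotientGroup.mk' K zY) := by
    refine sc_mk K hKc (Subtype.ext h.z_cube) (fun e => h.z_ne (congrArg Subtype.val e)) fun y hy => ?_
    obtain ⟨a, p, hp⟩ := h.cent_cases (g := (y : G)) (congrArg Subtype.val hy)
    have hmemY : h.r p ∈ Y := by
      rw [show h.r p = (h.z ^ (a : ℕ))⁻¹ * y by rw [hp]; group]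
      exact mul_mem (inv_mem (pow_mem zY.2 _)) y.2
    obtain ⟨e1, e2⟩ := hY.1 hmemY
    have hp4 := cent_t5_tau p (h.r_inj (by rw [map_mul, map_mul]; exact e1))
      (h.r_inj (by rw [map_mul, map_mul]; exact e2))
    exact ⟨a, ⟨h.r p, hmemY⟩, hKmem p hp4, Subtype.ext hp⟩
  set π := QuotientGroup.mk' K
  have hQ4 : Nat.card (Y ⧸ K) * 4 = Nat.card Y := by
    have hK : Nat.card K = 4 := by
      let L : List (Perm (Fin 5)) := [1, (t5 : Perm (Fin 5)), tau, (t5 : Perm (Fin 5)) * tau]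
      have hL : ∀ p ∈ L, p = 1 ∨ p = t5 ∨ p = tau ∨ p = (t5 : Perm (Fin 5)) * tau := fun p hp => by
        simpa [L] using hp
      rw [show (4 : ℕ) = L.toFinset.card by decide +kernel, ← Nat.card_eq_finsetCard]
      refine (Nat.card_eq_of_bijective (fun p : L.toFinset =>
        (⟨⟨h.r p.1, ?_⟩, hKmem _ (hL _ (List.mem_toFinset.1 p.2))⟩ : K)) ⟨?_, ?_⟩).symm
      · refine closure_le _ |>.2 ?_ (hKmem _ (hL _ (List.mem_toFinset.1 p.2)))
        rintro x (rfl | rfl)
        · exact hY.2 ⟨rfl, hte⟩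
        · exact hY.2 ⟨hte.symm, rfl⟩
      · intro p q e
        exact Subtype.ext (h.r_inj (congrArg (fun x : K => ((x : Y) : G)) e))
      · rintro ⟨k, hk'⟩
        obtain ⟨p, hp, e⟩ := hKr (k : G) hk'
        exact ⟨⟨p, List.mem_toFinset.2 (by simpa [L] using hp)⟩, Subtype.ext (Subtype.ext e.symm)⟩
    rw [card_eq_card_quotient_mul_card_subgroup K, hK]
  have hQd : Nat.card (Y ⧸ K) ∣ 24 :=
    Nat.dvd_of_mul_dvd_mul_right (by norm_num : 0 < 4) (hQ4.symm ▸ hYdvd)
  have hQge : 12 ≤ Nat.card (Y ⧸ K) := by omega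
  have hss : π sY * π sY = 1 := by
    rw [← map_mul, show sY * sY = 1 from Subtype.ext h.s_sq, map_one]
  have hinv : π sY * π zY * π sY = (π zY)⁻¹ := by
    rw [← map_mul, ← map_mul, show sY * zY * sY = zY⁻¹ from Subtype.ext h.s_z, map_inv]
  have hz3 : π zY ^ 3 = 1 := hsc.cube
  have hzne : π zY ≠ 1 := hsc.ne
  rcases SelfCentThree.concl _ (Y ⧸ K) rfl (π zY) hsc with
      ⟨N, hN, -, hcop, h3 | ⟨⟨e3⟩⟩⟩ | ⟨N, hN, -, -, ⟨e5⟩⟩ | ⟨⟨e7⟩⟩
  · exact (no_index_three N hcop h3 hz3 hzne hss hinv).elim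
  rotate_left
  · exfalso
    have h60 := card_quotient_dvd_card N
    rw [Nat.card_congr e5.toEquiv, SelfCentThree.card_alt_five] at h60
    have := h60.trans hQd
    norm_num at this
  · exfalso
    rw [Nat.card_congr e7.toEquiv, SelfCentThree.psl_seven.2] at hQd
    norm_num at hQd
  set ρ := QuotientGroup.mk' N
  have hcardN : Nat.card N = 4 := by
    have h6 := card_eq_card_quotient_mul_card_subgroup N
    rw [Nat.card_congr e3.toEquiv, Nat.card_perm, Nat.card_fin, show Nat.factorial 3 = 6 from rfl] at h6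
    have hd : Nat.card N ∣ 4 := Nat.dvd_of_mul_dvd_mul_left (by norm_num : 0 < 6) (h6 ▸ hQd)
    rcases (Nat.le_of_dvd (by norm_num) hd).lt_or_eq with hlt | he
    · exfalso
      have h2 : Nat.card N = 2 := by
        have hQ6 := h6 ▸ hQge
        interval_cases hNc : Nat.card N
        all_goals omega
      obtain ⟨n, hn, hn1⟩ := (Subgroup.bot_or_exists_ne_one N).resolve_left fun e => by
        rw [e, card_bot] at h2; omega
      have hcn : ∀ m ∈ N, m = 1 ∨ m = n := by
        intro m hm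
        obtain ⟨a, b, -, hu⟩ := Nat.card_eq_two_iff.1 h2
        have mem : ∀ x : N, x = a ∨ x = b := fun x => by
          have := (Set.eq_univ_iff_forall.1 hu) x
          simpa using this
        rcases mem ⟨m, hm⟩ with e | e <;> rcases mem ⟨n, hn⟩ with e' | e' <;>
          rcases mem 1 with e'' | e''
        all_goals first
          | exact Or.inl (congrArg Subtype.val (e.trans e''.symm))
          | exact Or.inr (congrArg Subtype.val (e.trans e'.symm))
          | exact absurd (congrArg Subtype.val (e'.trans e''.symm)) hn1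
      have hc : n ∈ centralizer ({π zY} : Set (Y ⧸ K)) := by
        rw [mem_centralizer_singleton_iff]
        rcases hcn _ (hN.conj_mem n hn (π zY)) with e | e
        · exact absurd (conj_eq_one_iff.1 e) hn1
        · exact (mul_inv_eq_iff_eq_mul.1 e).symm
      rw [hsc.cent] at hc
      have := Subgroup.orderOf_dvd_natCard N hn
      rw [h2] at this
      rcases cases_pow_three hz3 hc with e | e | e
      · exact hn1 e
      · rw [e, hsc.orderOf] at this; omega
      · rw [e, orderOf_inv, hsc.orderOf] at this; omega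
    · exact he
  have hN4 : ∀ m ∈ N, m ^ 4 = 1 := fun m hm => by
    rw [← hcardN]; exact congrArg Subtype.val (pow_card_eq_one' (x := (⟨m, hm⟩ : N)))
  obtain ⟨n, hn, hn1⟩ := (Subgroup.bot_or_exists_ne_one N).resolve_left fun e => by
    rw [e, card_bot] at hcardN; omega
  have hfpf : ∀ m ∈ N, π zY * m * (π zY)⁻¹ = m → m = 1 := by
    intro m hm e
    have hc : m ∈ centralizer ({π zY} : Set (Y ⧸ K)) :=
      mem_centralizer_singleton_iff.2 (mul_inv_eq_iff_eq_mul.1 e).symm
    rw [hsc.cent] at hc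
    have h4 := hN4 m hm
    rcases cases_pow_three hz3 hc with e' | e' | e'
    · exact e'
    · rw [e', show π zY ^ 4 = π zY ^ 3 * π zY from pow_succ _ _, hz3, one_mul] at h4
      exact absurd h4 hzne
    · rw [e', inv_pow, show π zY ^ 4 = π zY ^ 3 * π zY from pow_succ _ _, hz3, one_mul, inv_eq_one] at h4
      exact absurd h4 hzne
  obtain ⟨y, rfl⟩ := QuotientGroup.mk'_surjective K n
  -- conjugation by `v`
  set v := h.f v5
  have hvinv : v⁻¹ = v := inv_eq_of_mul_eq_one_right hvv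
  have hvmul : ∀ a b : G, v * (a * b) * v = v * a * v * (v * b * v) := fun a b => by
    calc v * (a * b) * v = v * a * 1 * b * v := by group
      _ = v * a * (v * v) * b * v := by rw [hvv]
      _ = _ := by group
  have hvY : ∀ g ∈ Y, v * g * v ∈ Y := by
    intro g hg
    obtain ⟨e1, e2⟩ := hY.1 hg
    have ht' : v * h.t * v = h.t := by rw [hvt, mul_assoc, hvv, mul_one]
    have he' : v * (h.t * h.e) * v = h.e := by
      rw [← hve]
      calc v * (v * h.e * v) * v = (v * v) * h.e * (v * v) := by group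
        _ = h.e := by rw [hvv, one_mul, mul_one]
    refine hY.2 ⟨?_, ?_⟩
    · conv_lhs => rw [← ht']
      conv_rhs => rw [← ht']
      rw [← hvmul, ← hvmul, e1]
    · conv_lhs => rw [← he']
      conv_rhs => rw [← he']
      rw [← hvmul, ← hvmul, ((show Commute g h.t from e1).mul_right e2).eq]
  let cv : Y →* Y :=
    { toFun := fun g => ⟨v * g * v, hvY g g.2⟩
      map_one' := Subtype.ext (by show v * 1 * v = 1; rw [mul_one, hvv])
      map_mul' := fun a b => Subtype.ext (hvmul a b) }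
  have hcvcv : ∀ g, cv (cv g) = g := fun g => Subtype.ext (by
    show v * (v * g * v) * v = g
    calc v * (v * g * v) * v = (v * v) * g * (v * v) := by group
      _ = g := by rw [hvv, one_mul, mul_one])
  have hvz : v * h.z = h.z * v := (h.z_f v5).symm
  have hcvz : cv zY = zY := Subtype.ext (by
    show v * h.z * v = h.z
    rw [hvz, mul_assoc, hvv, mul_one])
  have hcvK : ∀ k ∈ K, cv k ∈ K := by
    intro k hk'
    show v * (k : G) * v ∈ closure ({h.t, h.e} : Set G)
    have h1 : h.t ∈ closure ({h.t, h.e} : Set G) := subset_closure (Set.mem_insert _ _)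
    have h2 : h.e ∈ closure ({h.t, h.e} : Set G) := subset_closure (Set.mem_insert_of_mem _ rfl)
    have ht' : v * h.t * v = h.t := by rw [hvt, mul_assoc, hvv, mul_one]
    rcases hK4 (k : G) hk' with e | e | e | e <;> rw [e]
    · rw [mul_one, hvv]; exact one_mem _
    · rw [ht']; exact h1
    · rw [hve]; exact mul_mem h1 h2
    · rw [hvmul, ht', hve]; exact mul_mem h1 (mul_mem h1 h2)
  have hcvN : π (cv y) ∈ N := by
    have hχ : ∀ w : Y, π w ∈ N → (e3 (ρ (π (cv w)))) ^ 4 = 1 := by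
      intro w hw
      have h4 := hN4 _ hw
      rw [← map_pow] at h4
      have h4' : w ^ 4 ∈ K := (QuotientGroup.eq_one_iff _).1 h4
      rw [← map_pow, ← map_pow, ← map_pow, ← map_pow cv]
      have : cv (w ^ 4) ∈ K := hcvK _ h4'
      rw [show π (cv (w ^ 4)) = 1 from (QuotientGroup.eq_one_iff _).2 this, map_one, map_one]
    have ha := hχ y hn
    have hb := hχ (y * (zY * y * zY⁻¹)) (by
      rw [map_mul, map_mul, map_mul, map_inv]; exact N.mul_mem hn (hN.conj_mem _ hn _))
    rw [map_mul cv, map_mul cv, map_mul cv, map_inv cv, hcvz, map_mul π, map_mul π, map_mul π, map_inv π,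
      map_mul ρ, map_mul ρ, map_mul ρ, map_inv ρ, map_mul e3, map_mul e3, map_mul e3, map_inv e3] at hb
    have hr := three_four_trivial (e3 (ρ (π zY))) (e3 (ρ (π (cv y))))
      (by rw [← map_pow, ← map_pow, hz3, map_one, map_one]) (fun e => ?_) ha hb
    · rw [map_eq_one_iff _ e3.injective] at hr
      exact (QuotientGroup.eq_one_iff _).1 hr
    · rw [map_eq_one_iff _ e3.injective] at e
      exact hzne (hfpf _ ((QuotientGroup.eq_one_iff _).1 e) (by rw [mul_inv_cancel_right]))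
  set ζ := π zY
  set n1 := ζ * π y * ζ⁻¹ with hn1'
  set n2 := ζ * n1 * ζ⁻¹ with hn2'
  have h12 : ∀ m ∈ N, m = 1 ∨ m = π y ∨ m = n1 ∨ m = n2 := by
    have hn1N : n1 ∈ N := hN.conj_mem _ hn _
    have hn2N : n2 ∈ N := hN.conj_mem _ hn1N _
    have c1 : n1 ≠ π y := fun e => hn1 (hfpf _ hn e)
    have c2 : n2 ≠ n1 := fun e => hn1 (conj_eq_one_iff.1 (hfpf _ hn1N e))
    have c3 : n2 ≠ π y := fun e => by
      have : ζ * n2 * ζ⁻¹ = π y := by
        calc ζ * n2 * ζ⁻¹ = ζ ^ 3 * π y * (ζ ^ 3)⁻¹ := by rw [hn2', hn1', pow_succ, pow_two]; group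
          _ = π y := by rw [hz3]; group
      exact hn1 (hfpf _ hn (by rw [← e] at this ⊢; exact this))
    have d1 : n1 ≠ 1 := fun e => hn1 (conj_eq_one_iff.1 e)
    have d2 : n2 ≠ 1 := fun e => d1 (conj_eq_one_iff.1 e)
    intro m hm
    by_contra hne
    push Not at hne
    have hinj : Function.Injective (![⟨1, one_mem _⟩, ⟨π y, hn⟩, ⟨n1, hn1N⟩, ⟨n2, hn2N⟩, ⟨m, hm⟩] : Fin 5 → N) := by
      intro a b e
      fin_cases a <;> fin_cases b <;> simp [Subtype.ext_iff] at e ⊢ <;>
        first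
        | exact hn1 e
        | exact hn1 e.symm
        | exact d1 e
        | exact d1 e.symm
        | exact d2 e
        | exact d2 e.symm
        | exact c1 e
        | exact c1 e.symm
        | exact c2 e
        | exact c2 e.symm
        | exact c3 e
        | exact c3 e.symm
        | exact hne.1 e
        | exact hne.1 e.symm
        | exact hne.2.1 e
        | exact hne.2.1 e.symm
        | exact hne.2.2.1 e
        | exact hne.2.2.1 e.symm
        | exact hne.2.2.2 e
        | exact hne.2.2.2 e.symm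
    have := Nat.card_le_card_of_injective _ hinj
    rw [hcardN, Nat.card_fin] at this
    omega
  have hzconj : ∀ w : Y, π (zY * w * zY⁻¹) = ζ * π w * ζ⁻¹ := fun w => by
    rw [map_mul, map_mul, map_inv]
  have hcvconj : ∀ w : Y, cv (zY * w * zY⁻¹) = zY * cv w * zY⁻¹ := fun w => by
    rw [map_mul, map_mul, map_inv, hcvz]
  have hcongr : ∀ a b : Y, π a = π b → π (cv a) = π (cv b) := fun a b hab => by
    obtain ⟨k, hk', rfl⟩ := (QuotientGroup.mk'_eq_mk' K).1 hab
    rw [map_mul cv, map_mul π, show π (cv k) = 1 from (QuotientGroup.eq_one_iff _).2 (hcvK k hk'), mul_one]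
  have hfixn : π (cv y) = π y := by
    rcases h12 _ hcvN with e | e | e | e
    · exfalso
      have := hcongr (cv y) 1 (by rw [e, map_one])
      rw [hcvcv, map_one, map_one] at this
      exact hn1 this
    · exact e
    · exfalso
      have h' := hcongr (cv y) (zY * y * zY⁻¹) (by rw [hzconj, e])
      rw [hcvcv, hcvconj, hzconj, e] at h'
      -- `y` would equal its second conjugate
      have : ζ * π y * ζ⁻¹ = π y := by
        calc ζ * π y * ζ⁻¹ = ζ * (ζ * n1 * ζ⁻¹) * ζ⁻¹ := by rw [← h']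
          _ = ζ ^ 3 * π y * (ζ ^ 3)⁻¹ := by rw [hn1', pow_succ, pow_two]; group
          _ = π y := by rw [hz3]; group
      exact hn1 (hfpf _ hn this)
    · exfalso
      have h' := hcongr (cv y) (zY * (zY * y * zY⁻¹) * zY⁻¹) (by rw [hzconj, hzconj, e])
      rw [hcvcv, hcvconj, hcvconj, hzconj, hzconj, e] at h'
      have : ζ * π y * ζ⁻¹ = π y := by
        conv_rhs => rw [h']
        rw [hn2', hn1', show ζ * (ζ * (ζ * (ζ * π y * ζ⁻¹) * ζ⁻¹) * ζ⁻¹) * ζ⁻¹ = ζ ^ 3 * (ζ * π y * ζ⁻¹) * (ζ ^ 3)⁻¹ by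
          rw [pow_succ, pow_two]; group, hz3]
        group
      exact hn1 (hfpf _ hn this)
  obtain ⟨k, hk', hcv⟩ := (QuotientGroup.mk'_eq_mk' K).1 hfixn.symm
  set xY := zY * y * zY⁻¹ * y⁻¹
  have hcvx : cv xY = xY := by
    rw [map_mul, map_inv, hcvconj, ← hcv]
    obtain ⟨-, hkc⟩ := hKc k hk'
    rw [show zY * (y * k) * zY⁻¹ * (y * k)⁻¹ = zY * y * (k * zY⁻¹) * k⁻¹ * y⁻¹ by group, ← hkc zY⁻¹]
    simp only [xY]
    group
  refine ⟨xY, (hY.1 xY.2).1, (hY.1 xY.2).2, ?_, ?_⟩
  · have e : v * (xY : G) * v = xY := congrArg Subtype.val hcvx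
    calc (xY : G) * v = v * xY * v * v := by rw [e]
      _ = v * xY := by rw [mul_assoc, hvv, mul_one]
  · intro hx
    have hxN : π xY ∈ N := by
      rw [map_mul, hzconj, map_inv]
      exact N.mul_mem (hN.conj_mem _ hn _) (inv_mem hn)
    have hxe : π xY * ζ * (π xY)⁻¹ = ζ ∨ π xY * ζ * (π xY)⁻¹ = ζ⁻¹ := by
      rw [← map_inv, ← map_mul, ← map_mul]
      rcases hx with e | e
      · exact Or.inl (congrArg π (Subtype.ext e))
      · refine Or.inr ?_
        rw [← map_inv]
        exact congrArg π (Subtype.ext e)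
    have hz : π xY * ζ * (π xY)⁻¹ = ζ := hxe.resolve_right fun e => by
      have hm : ζ⁻¹ * ζ⁻¹ ∈ N := by
        nth_rw 1 [← e]
        rw [mul_assoc (π xY * ζ), mul_assoc (π xY) ζ]
        exact N.mul_mem hxN (by simpa [mul_assoc] using hN.conj_mem _ (inv_mem hxN) ζ)
      have h4 := hN4 _ hm
      rw [(Commute.refl ζ⁻¹).mul_pow, inv_pow, show ζ ^ 4 = ζ ^ 3 * ζ from pow_succ _ _, hz3, one_mul] at h4
      exact hzne (by
        have h2 : ζ ^ 2 = 1 := by rw [pow_two, ← inv_eq_one, mul_inv_rev]; exact h4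
        rw [pow_succ, h2, one_mul] at hz3; exact hz3)
    have h1 : π xY = 1 := hfpf _ hxN (by
      rw [← mul_inv_eq_iff_eq_mul.1 hz, mul_inv_cancel_right])
    rw [map_mul, hzconj, map_inv, mul_inv_eq_one] at h1
    exact hn1 (hfpf _ hn h1)

end Hyp

end Cfsg.Agent.S8ThreeLocal
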