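import Cfsg.Agent.S8ThreeLocal.Cases
import Cfsg.Agent.A8ThreeLocal.Embed

/-!
A subgroup isomorphic to the alternating group of degree eight.
-/

set_option autoImplicit false
set_option synthInstance.maxSize 2000
set_option synthInstance.maxHeartbeats 400000

namespace Cfsg.Agent.S8ThreeLocal

open Equiv Equiv.Perm Subgroup
open Cfsg.Agent.ShortPres Cfsg.Agent.AltMult
open Cfsg.Agent.A8ThreeLocal (A5 c5 t5 v5 a1 a2 a3 b1 r3 s3 tau InV1 InV2 tauHom A8 iF iG xg x0 e5 xg_eq xg_rot
  iG_xg iF_xg xg_closure rel_perm xg_cube xg_sq)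

variable {G : Type*} [Group G] [Finite G]

namespace Hyp.Split

variable {h : Hyp G} (S : Hyp.Split h)

theorem rel00 : (h.f x0 * S.g x0) ^ 2 = 1 := by
  obtain ⟨r1, r2, r3', r4, r5, r6, r7, r8, ha, hb⟩ := rel_perm
  set T := h.f e5
  set U := S.g e5
  set a := h.f a3
  set w := S.g b1
  have hT2 : T * T = 1 := by rw [← map_mul, r4, map_one]
  have hU2 : U * U = 1 := by rw [← map_mul, r4, map_one]
  have hw2 : w * w = 1 := by rw [← map_mul, r7, map_one]
  have ha2 : a * a = 1 := by rw [← map_mul, r8, map_one]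
  have hTg : ∀ p, T * S.g p * T = S.g (tauHom p) := by
    intro p
    have hz : Commute h.z' (S.g p) := (show Commute (S.g p) h.z' from S.g_z' p).symm
    have hz' : Commute h.z' (S.g (tauHom p)) := (show Commute (S.g (tauHom p)) h.z' from S.g_z' _).symm
    have ht : h.f t5 = h.t := rfl
    have hc : h.f c5 = h.z' := rfl
    simp only [T, r2, map_mul, map_inv, ht, hc]
    calc h.z' * h.t * h.z'⁻¹ * S.g p * (h.z' * h.t * h.z'⁻¹)
        = h.z' * h.t * (h.z'⁻¹ * S.g p * h.z') * h.t * h.z'⁻¹ := by group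
      _ = h.z' * (h.t * S.g p * h.t) * h.z'⁻¹ := by
        rw [show h.z'⁻¹ * S.g p * h.z' = S.g p by rw [mul_assoc, ← hz.eq, inv_mul_cancel_left]]; group
      _ = S.g (tauHom p) := by rw [S.t_g, hz'.eq, mul_inv_cancel_right]
  have hUf : ∀ p, U * h.f p * U = h.f (tauHom p) := by
    intro p
    have hz : Commute h.z (h.f p) := h.z_f p
    have hz' : Commute h.z (h.f (tauHom p)) := h.z_f _
    simp only [U, r2, map_mul, map_inv, S.g_t5, S.g_c5]
    set u := h.i * h.t * h.i
    calc h.z * u * h.z⁻¹ * h.f p * (h.z * u * h.z⁻¹)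
        = h.z * u * (h.z⁻¹ * h.f p * h.z) * u * h.z⁻¹ := by group
      _ = h.z * (u * h.f p * u) * h.z⁻¹ := by
        rw [show h.z⁻¹ * h.f p * h.z = h.f p by rw [mul_assoc, ← hz.eq, inv_mul_cancel_left]]; group
      _ = h.f (tauHom p) := by rw [S.u_f, hz'.eq, mul_inv_cancel_right]
  set s := T * U with hs
  have hTU : T * U * T = U := by rw [hTg, r5]
  have hs2 : s * s = 1 := by
    calc s * s = (T * U * T) * U := by rw [hs]; group
      _ = 1 := by rw [hTU, hU2]
  have has : s * a * s = a := by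
    calc s * a * s = T * (U * a * (T * U)) := by rw [hs]; group
      _ = T * (U * a * (T * U * T) * T⁻¹) := by group
      _ = T * (U * a * U) * T⁻¹ := by rw [hTU]; group
      _ = a := by
        rw [hUf, inv_eq_of_mul_eq_one_right hT2, ← map_mul, ← map_mul, r3']
  have hsinv : s⁻¹ = s := inv_eq_of_mul_eq_one_right hs2
  have hca : Commute a s := by
    show a * s = s * a
    calc a * s = s * a * s * s := by rw [has]
      _ = s * a := by rw [mul_assoc _ s s, hs2, mul_one]
  have hcw : Commute a w := S.comm a3 b1 ha hb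
  set v := w * s * w
  have hv2 : v * v = 1 := by
    calc v * v = w * s * (w * w) * s * w := by simp only [v]; group
      _ = w * (s * s) * w := by rw [hw2]; group
      _ = 1 := by rw [hs2, mul_one, hw2]
  have hcv : Commute a v := (hcw.mul_right hca).mul_right hcw
  have key : h.f x0 * S.g x0 = a * v := by
    have e1 : v = T * (S.g (tauHom b1) * U * w) := by
      calc v = T⁻¹⁻¹ * (T⁻¹ * w * T) * U * w := by simp only [v, hs]; group
        _ = T * (S.g (tauHom b1) * U * w) := by
          rw [inv_eq_of_mul_eq_one_right hT2, inv_eq_of_mul_eq_one_right hT2, hTg]; group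
    rw [e1, ← map_mul, ← map_mul, r6, ← mul_assoc, ← map_mul, ← r1]
  rw [key, hcv.mul_pow, pow_two, pow_two, ha2, hv2, mul_one]

theorem rel : ∀ j k : Fin 3, (h.f (xg j) * S.g (xg k)) ^ 2 = 1 := by
  have step1 : ∀ j k, (h.f (xg j) * S.g (xg k)) ^ 2 = 1 → (h.f (xg (j + 1)) * S.g (xg k)) ^ 2 = 1 := by
    intro j k e
    have hc : h.f (xg (j + 1)) * S.g (xg k) = h.z' * (h.f (xg j) * S.g (xg k)) * h.z'⁻¹ := by
      rw [← xg_rot, map_mul, map_mul, map_inv]
      show h.z' * h.f (xg j) * h.z'⁻¹ * S.g (xg k) = h.z' * (h.f (xg j) * S.g (xg k)) * h.z'⁻¹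
      rw [show h.z' * (h.f (xg j) * S.g (xg k)) * h.z'⁻¹ = h.z' * h.f (xg j) * (S.g (xg k) * h.z'⁻¹) by group,
        (Commute.inv_right (S.g_z' (xg k))).eq]
      group
    rw [hc, conj_pow, e, mul_one, mul_inv_cancel]
  have step2 : ∀ j k, (h.f (xg j) * S.g (xg k)) ^ 2 = 1 → (h.f (xg j) * S.g (xg (k + 1))) ^ 2 = 1 := by
    intro j k e
    have hc : h.f (xg j) * S.g (xg (k + 1)) = h.z * (h.f (xg j) * S.g (xg k)) * h.z⁻¹ := by
      rw [← xg_rot, map_mul, map_mul, map_inv, S.g_c5,
        show h.z * (h.f (xg j) * S.g (xg k)) * h.z⁻¹ = h.z * h.f (xg j) * (S.g (xg k) * h.z⁻¹) by group,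
        h.z_f]
      group
    rw [hc, conj_pow, e, mul_one, mul_inv_cancel]
  have base : (h.f (xg 0) * S.g (xg 0)) ^ 2 = 1 := by rw [xg_eq.1]; exact S.rel00
  have row : ∀ k, (h.f (xg 0) * S.g (xg k)) ^ 2 = 1 := by
    intro k
    fin_cases k
    · exact base
    · exact step2 _ _ base
    · exact step2 _ _ (step2 _ _ base)
  intro j k
  fin_cases j
  · exact row k
  · exact step1 _ _ (row k)
  · exact step1 _ _ (step1 _ _ (row k))

/-- The Carmichael generators in `G`. -/
def gen (x : Rest (6 : Fin 8) 7) : G :=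
  if hx : x.1.val < 3 then S.g (xg ⟨x.1.val, hx⟩)
  else h.f (xg ⟨x.1.val - 3, by
    have h6 : x.1.val ≠ 6 := fun e => x.2.1 (Fin.ext e)
    have h7 : x.1.val ≠ 7 := fun e => x.2.2 (Fin.ext e)
    omega⟩)

theorem exists_embedding : ∃ Φ : A8 →* G, Function.Injective Φ ∧ (∀ p, Φ (iF p) = h.f p) ∧
    (∀ p, Φ (iG p) = S.g p) := by
  classical
  have huv : (6 : Fin 8) ≠ 7 := by decide
  obtain ⟨e, he⟩ := Cfsg.Agent.LyLocal.carm_iso (β := Fin 8) huv
  have hrels : ∀ r ∈ Cfsg.Agent.LyLocal.carmRels (6 : Fin 8) 7, FreeGroup.lift S.gen r = 1 := by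
    rintro r (⟨x, rfl⟩ | ⟨x, y, hxy, rfl⟩)
    · rw [map_pow, FreeGroup.lift_apply_of]
      unfold gen
      split <;> rw [← map_pow, xg_cube, map_one]
    · rw [map_pow, map_mul, FreeGroup.lift_apply_of, FreeGroup.lift_apply_of]
      have hne : x.1.val ≠ y.1.val := fun e => hxy (Subtype.ext (Fin.ext e))
      unfold gen
      split <;> split
      · rw [← map_mul, ← map_pow, xg_sq _ _ (fun e => hne (by simpa [Fin.ext_iff] using e)), map_one]
      · exact sq_flip (S.rel _ _)
      · exact S.rel _ _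
      · rw [← map_mul, ← map_pow, xg_sq _ _ (fun e => by
          have := congrArg Fin.val e
          simp only at this
          omega), map_one]
  let Φ : A8 →* G := (PresentedGroup.toGroup hrels).comp e.symm.toMonoidHom
  have hΦ : ∀ x : Rest (6 : Fin 8) 7, Φ (cycR huv x) = S.gen x := by
    intro x
    show PresentedGroup.toGroup hrels (e.symm (cycR huv x)) = S.gen x
    rw [← he x, e.symm_apply_apply]
    exact PresentedGroup.toGroup.of hrels
  have hF : ∀ p, Φ (iF p) = h.f p := by
    have : Φ.comp iF = h.f := MonoidHom.eq_of_eqOn_dense xg_closure (by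
      rintro _ ⟨j, rfl⟩
      let x : Rest (6 : Fin 8) 7 := ⟨⟨j.val + 3, by omega⟩,
        fun e => by have := congrArg Fin.val e; simp at this; omega,
        fun e => by have := congrArg Fin.val e; simp at this; omega⟩
      have e1 : iF (xg j) = cycR huv x := Subtype.ext (iF_xg j)
      show Φ (iF (xg j)) = h.f (xg j)
      rw [e1, hΦ, gen, dif_neg (by simp [x])]
      congr 2)
    exact fun p => DFunLike.congr_fun this p
  have hG : ∀ p, Φ (iG p) = S.g p := by
    have : Φ.comp iG = S.g := MonoidHom.eq_of_eqOn_dense xg_closure (by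
      rintro _ ⟨j, rfl⟩
      let x : Rest (6 : Fin 8) 7 := ⟨j.castLE (by norm_num),
        fun e => by have := congrArg Fin.val e; simp at this; omega,
        fun e => by have := congrArg Fin.val e; simp at this; omega⟩
      have e1 : iG (xg j) = cycR huv x := Subtype.ext (iG_xg j)
      show Φ (iG (xg j)) = S.g (xg j)
      rw [e1, hΦ, gen, dif_pos (show (x : Fin 8).val < 3 from j.isLt)]
      rfl)
    exact fun p => DFunLike.congr_fun this p
  refine ⟨Φ, ?_, hF, hG⟩
  have : IsSimpleGroup A8 := alternatingGroup.isSimpleGroup (by simp)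
  rcases (MonoidHom.normal_ker Φ).eq_bot_or_eq_top with hk | hk
  · exact (MonoidHom.ker_eq_bot_iff Φ).1 hk
  · have h1 : h.f c5 = 1 := by
      rw [← hF]; exact MonoidHom.mem_ker.1 (hk ▸ mem_top _)
    exact absurd (h.f_inj (h1.trans (map_one _).symm)) (by decide +kernel)

end Hyp.Split

end Cfsg.Agent.S8ThreeLocal
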