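import Cfsg.Agent.S8ThreeLocal.ExcG0
import Cfsg.Agent.SelfCentThree.Main
import Mathlib.GroupTheory.FixedPointFree

/-!
The centralisers of involutions in the second subgroup of the exceptional configuration.
-/

set_option autoImplicit false
set_option maxRecDepth 20000
set_option synthInstance.maxSize 2000
set_option synthInstance.maxHeartbeats 400000

namespace Cfsg.Agent.S8ThreeLocal

open Equiv Equiv.Perm Subgroup
open Cfsg.Agent.A8ThreeLocal (A5 c5 t5 v5 s5 a1 a2 a3 b1 r3 s3 tau InV1 InV2 tauHom cases_pow_three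
  centralizer_card_conj tauHom_sq)

theorem K2_small : (∀ a ∈ K2L, a = 1 ∨ a = t5 ∨ a = v5 ∨ a = t5 * v5) ∧ t5 * v5 ≠ 1 ∧ v5 ≠ 1 ∧ t5 ≠ 1 ∧
    v5 ≠ t5 ∧ t5 * v5 ≠ t5 ∧ t5 * v5 ≠ v5 ∧ t5 * (t5 * v5) = v5 ∧ t5 * t5 = 1 := by decide +kernel

/-- A four group acting without fixed points does not exist. -/
theorem four_fix {G : Type*} [Group G] (O : Subgroup G) [Finite O] {a b : G}
    (ha : a * a = 1) (hb : b * b = 1) (hab : a * b = b * a)
    (hna : ∀ x ∈ O, a * x * a ∈ O) (hnb : ∀ x ∈ O, b * x * b ∈ O)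
    (fa : ∀ x ∈ O, x * a = a * x → x = 1) (fb : ∀ x ∈ O, x * b = b * x → x = 1)
    (fab : ∀ x ∈ O, x * (a * b) = a * b * x → x = 1) : O = ⊥ := by
  have key : ∀ c : G, c * c = 1 → (∀ x ∈ O, c * x * c ∈ O) → (∀ x ∈ O, x * c = c * x → x = 1) →
      ∀ x ∈ O, c * x * c = x⁻¹ := by
    intro c hc hn hf x hx
    let φ : O →* O :=
      { toFun := fun y => ⟨c * y * c, hn y y.2⟩
        map_one' := Subtype.ext (show c * 1 * c = 1 by rw [mul_one, hc])
        map_mul' := fun y w => Subtype.ext (show c * (y * w : G) * c = c * y * c * (c * w * c) by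
          rw [show c * (y : G) * c * (c * w * c) = c * y * (c * c) * w * c by group, hc]; group) }
    have hfp : MonoidHom.FixedPointFree φ := fun y hy => Subtype.ext (hf y y.2 (by
      have e : c * (y : G) * c = y := congrArg Subtype.val hy
      calc (y : G) * c = c * y * c * c := by rw [e]
        _ = c * y := by rw [mul_assoc, hc, mul_one]))
    have hinv : Function.Involutive φ := fun y => Subtype.ext (show c * (c * y * c) * c = (y : G) by
      rw [show c * (c * (y : G) * c) * c = (c * c) * y * (c * c) by group, hc, one_mul, mul_one])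
    have := congrFun (hfp.coe_eq_inv_of_involutive hinv) ⟨x, hx⟩
    exact congrArg Subtype.val this
  refine (eq_bot_iff_forall O).2 fun x hx => fab x hx ?_
  have h1 := key a ha hna fa x hx
  have h2 := key b hb hnb fb _ (inv_mem hx)
  rw [inv_inv] at h2
  have e : a * b * x * (a * b)⁻¹ = x := by
    rw [show (a * b)⁻¹ = b * a by rw [mul_inv_rev, inv_eq_of_mul_eq_one_right ha, inv_eq_of_mul_eq_one_right hb],
      show a * b * x * (b * a) = a * (b * x * b) * a by group, key b hb hnb fb x hx, key a ha hna fa _ (inv_mem hx),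
      inv_inv]
  calc x * (a * b) = a * b * x * (a * b)⁻¹ * (a * b) := by rw [e]
    _ = a * b * x := by group

variable {G : Type*} [Group G] [Finite G]

namespace Exc

variable {h : Hyp G} (X : Exc h)

/-- Elements of the four group over `t5`. -/
theorem f_K2_conj {a : A5} (ha : a ∈ K2L) (h1 : a ≠ 1) : ∃ s : A5, h.f s * h.t * (h.f s)⁻¹ = h.f a := by
  obtain ⟨s, hs⟩ := invol_t5 a (K2_facts.2.1 a ha) h1
  exact ⟨s, by rw [Hyp.t, ← map_inv, ← map_mul, ← map_mul, hs]⟩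

theorem class_t {a b : A5} (ha : a ∈ K2L) (hb : b ∈ K2L) (hc : IsConj h.t (X.Th (a, b))) :
    (a ≠ 1 ∧ b = 1) ∨ (a = 1 ∧ b ≠ 1) := by
  by_cases ha1 : a = 1
  · refine Or.inr ⟨ha1, fun hb1 => ?_⟩
    rw [ha1, hb1, ← Prod.one_eq_mk, map_one] at hc
    exact K2_small.2.2.2.1 (h.f_inj ((isConj_one_left.1 hc).trans (map_one h.f).symm))
  refine Or.inl ⟨ha1, ?_⟩
  by_contra hb1
  obtain ⟨p, hp⟩ := invol_t5 a (K2_facts.2.1 a ha) ha1
  obtain ⟨q, hq⟩ := invol_t5 b (K2_facts.2.1 b hb) hb1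
  refine X.not_II_t ((isConj_iff.2 ⟨X.Th (p, q), ?_⟩ : IsConj X.II (X.Th (a, b))).trans hc.symm)
  rw [X.II_eq, ← map_inv, ← map_mul, ← map_mul, Prod.inv_mk, Prod.mk_mul_mk, Prod.mk_mul_mk, hp, hq]

end Exc

namespace Sub

variable {h : Hyp G} (S : Sub h)

theorem G0_card : Nat.card S.G0 * 2 = Nat.card G := by rw [← S.G0_index, card_mul_index]

theorem N0_card_G0 : Nat.card S.N0 * 2 = Nat.card S.G0 := by
  have := S.G0_card; have := S.N0_card; omega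

theorem not_32 : ¬ 32 ∣ Nat.card S.N0 := fun hd => by
  refine S.ex.not_128 ?_
  rw [← S.N0_card]
  exact Nat.mul_dvd_mul_right hd 4

theorem sg_sq : S.sg * S.sg = 1 := (S.ex.sg_facts S.sg_K4).1
theorem sg_inv : S.sg⁻¹ = S.sg := inv_eq_of_mul_eq_one_right S.sg_sq

theorem e_not_N0 : h.e ∉ S.N0 := fun he => S.e_not (S.N0_le he)

theorem S0_le : S.ex.S0 ≤ S.N0 := S.ex.S0_le_N1.trans S.N1_le_N0

theorem f_N0 (p : A5) : h.f p ∈ S.N0 := S.N1_le_N0 (S.ex.f_N1 p)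
theorem g_N0 (p : A5) : S.ex.g p ∈ S.N0 := S.N1_le_N0 (S.ex.g_N1 p)

theorem inter {x : G} (hx : x ∈ S.ex.T64) (hN : x ∈ S.N0) : x ∈ S.ex.S0 := by
  obtain ⟨a, ha, b, hb, k, hk, rfl⟩ := hx
  have hkN : k ∈ S.N0 := (S.N0.mul_mem_cancel_left (S.N1_le_N0 (S.ex.mem_N1 _))).1 hN
  have hk1 : k = 1 := by
    rcases hk with rfl | rfl | rfl | rfl
    · rfl
    · exact absurd hkN S.e_not_N0
    · rcases S.sg_K4 with e | e
      · exact absurd (e ▸ hkN) S.sg_not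
      · exact absurd ((S.G0.mul_mem_cancel_right (S.N0_le hkN)).1 (e ▸ S.sg_G0)) S.e_not
    · rcases S.sg_K4 with e | e
      · exact absurd ((S.G0.mul_mem_cancel_right (e ▸ S.sg_G0)).1 (S.N0_le hkN)) S.e_not
      · exact absurd (e ▸ hkN) S.sg_not
  subst hk1
  rw [mul_one]
  exact S.ex.mem_S0.2 ⟨a, b, ha, hb, rfl⟩

theorem sg_N0 {x : G} (hx : x ∈ S.N0) : S.sg * x * S.sg ∈ S.N0 := by
  have := S.N0_conj _ S.sg_G0 x hx
  rwa [S.sg_inv] at this

theorem sg_N1 {x : G} (hx : x ∈ S.ex.N1) : S.sg * x * S.sg ∈ S.ex.N1 := by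
  obtain ⟨w, rfl⟩ := hx
  obtain ⟨w', hw'⟩ := S.ex.M_norm (S.ex.K4_le_M (S.ex.sg_facts S.sg_K4).2.1) w
  rw [S.sg_inv] at hw'
  exact ⟨w', hw'.symm⟩

theorem sylow_in {K : Subgroup G} (hKN : K ≤ S.N0) (h0 : S.ex.S0 ≤ K) :
    ∃ P : Sylow 2 K, (P : Subgroup K) = S.ex.S0.subgroupOf K :=
  sylow_of_card _ 4 (by rw [Nat.card_congr (subgroupOfEquivOfLe h0).toEquiv, S.ex.S0_card]; norm_num)
    fun hd => S.not_32 ((show 32 ∣ Nat.card K by simpa using hd).trans (card_dvd_of_le hKN))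

/-- The centraliser of `t`. -/
def K (S : Sub h) : Subgroup G := S.N0 ⊓ centralizer ({h.t} : Set G)

theorem mem_K {x : G} : x ∈ S.K ↔ x ∈ S.N0 ∧ x * h.t = h.t * x := by
  rw [K, mem_inf, mem_centralizer_singleton_iff]

theorem S0_le_K : S.ex.S0 ≤ S.K := fun x hx => S.mem_K.2 ⟨S.S0_le hx, S.ex.S0_comm x hx h.t
  (S.ex.mem_S0.2 ⟨t5, 1, by simp [K2L], by simp [K2L], S.ex.Th_fst t5⟩)⟩

theorem g_K (p : A5) : S.ex.g p ∈ S.K := S.mem_K.2 ⟨S.g_N0 p, ((S.ex.fg t5 p).symm).eq⟩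

theorem f_mem_S0 {c : A5} (hc : c ∈ K2L) : h.f c ∈ S.ex.S0 :=
  S.ex.mem_S0.2 ⟨c, 1, hc, by simp [K2L], S.ex.Th_fst c⟩

/-- A linear character of the centraliser of `t`. -/
theorem exists_char {c a : A5} (hc : c ∈ K2L) (ha : a ∈ K2L) (ha1 : a ≠ 1) (hca : c ≠ a) (hc1 : c ≠ 1)
    (iso : ∀ k ∈ S.K, ∀ p q : A5, p ∈ K2L → q ∈ K2L → k⁻¹ * h.f c * k = S.ex.Th (p, q) → p ≠ 1 ∧ p ≠ a) :
    ∃ N : Subgroup S.K, N.Normal ∧ N.index = 2 ∧ (⟨h.f c, S.S0_le_K (S.f_mem_S0 hc)⟩ : S.K) ∉ N := by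
  have : Fact (Nat.Prime 2) := ⟨Nat.prime_two⟩
  obtain ⟨P, hP⟩ := S.sylow_in (K := S.K) inf_le_left S.S0_le_K
  have hz : zpowers a ≤ KK2 := zpowers_le.2 ha
  set A : Subgroup G := ((zpowers a).prod KK2).map S.ex.Th with hA
  have hAS : A ≤ S.ex.S0 := map_mono (prod_mono hz le_rfl)
  have hAc : Nat.card A = 8 := by
    rw [hA, card_map_of_injective S.ex.Th_inj, Nat.card_congr ((zpowers a).prodEquiv KK2).toEquiv, Nat.card_prod,
      card_KK2, Nat.card_zpowers, orderOf_eq_prime (p := 2) (by rw [pow_two]; exact K2_facts.2.1 a ha) ha1]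
  have hrel : (A.subgroupOf S.K).relIndex P = 2 := by
    rw [hP, relIndex]
    have hle : A.subgroupOf S.K ≤ S.ex.S0.subgroupOf S.K := fun x hx => hAS hx
    have h1 := ((A.subgroupOf S.K).subgroupOf (S.ex.S0.subgroupOf S.K)).card_mul_index
    rw [Nat.card_congr (subgroupOfEquivOfLe hle).toEquiv, Nat.card_congr (subgroupOfEquivOfLe (hAS.trans S.S0_le_K)).toEquiv,
      hAc, Nat.card_congr (subgroupOfEquivOfLe S.S0_le_K).toEquiv, S.ex.S0_card] at h1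
    omega
  have hsq : h.f c * h.f c = 1 := by rw [← map_mul, K2_facts.2.1 c hc, map_one]
  exact TwoTransfer.exists_index_two P (A.subgroupOf S.K) hrel ⟨h.f c, S.S0_le_K (S.f_mem_S0 hc)⟩
    (by
      show _ ∈ (P : Subgroup S.K)
      rw [hP]; exact S.f_mem_S0 hc)
    (fun k g hk _ => by
      rw [invol_pow_two (show (⟨h.f c, S.S0_le_K (S.f_mem_S0 hc)⟩ : S.K) * _ = 1 from Subtype.ext hsq) hk,
        mul_one, inv_mul_cancel]
      exact one_mem _)
    (fun g _ hgA => by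
      obtain ⟨⟨p, q⟩, hpq, e⟩ := hgA
      obtain ⟨hp, hq⟩ := mem_prod.1 hpq
      obtain ⟨hp1, hpa⟩ := iso g g.2 p q (hz hp) hq e.symm
      obtain ⟨n, hn⟩ := mem_zpowers_iff.1 hp
      rcases Int.even_or_odd n with ⟨m, hm⟩ | ⟨m, hm⟩
      · refine hp1 ?_
        rw [show p = a ^ n from hn.symm, hm, zpow_add, ← (Commute.refl a).mul_zpow, K2_facts.2.1 a ha, one_zpow]
      · refine hpa ?_
        rw [show p = a ^ n from hn.symm, hm, zpow_add, zpow_mul, zpow_ofNat, pow_two, K2_facts.2.1 a ha, one_zpow, one_mul, zpow_one])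

theorem iso_t (k : G) (hk : k ∈ S.K) (p q : A5) (_ : p ∈ K2L) (_ : q ∈ K2L)
    (e : k⁻¹ * h.f t5 * k = S.ex.Th (p, q)) : p = t5 := by
  have hkt : k⁻¹ * h.t * k = h.t := by rw [mul_assoc, ← (S.mem_K.1 hk).2, inv_mul_cancel_left]
  have := S.ex.Th_inj ((hkt.symm.trans e).symm.trans (S.ex.Th_fst t5).symm)
  exact congrArg Prod.fst this

/-- Isolation of the two other involutions of the four group. -/
theorem iso_v {c : A5} (hc : c = v5 ∨ c = t5 * v5) (k : G) (hk : k ∈ S.K) (p q : A5) (hp : p ∈ K2L) (hq : q ∈ K2L)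
    (e : k⁻¹ * h.f c * k = S.ex.Th (p, q)) : p ≠ 1 ∧ p ≠ t5 := by
  have hcK : c ∈ K2L ∧ c ≠ 1 ∧ t5 * c ∈ K2L ∧ t5 * c ≠ 1 := by rcases hc with rfl | rfl <;> decide +kernel
  have hkt : k⁻¹ * h.t * k = h.t := by rw [mul_assoc, ← (S.mem_K.1 hk).2, inv_mul_cancel_left]
  have conj_k : ∀ x : G, IsConj x (k⁻¹ * x * k) := fun x => isConj_iff.2 ⟨k⁻¹, by rw [inv_inv]⟩
  have c1 : IsConj h.t (S.ex.Th (p, q)) := by
    obtain ⟨s, hs⟩ := Exc.f_K2_conj (h := h) hcK.1 hcK.2.1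
    exact (isConj_iff.2 ⟨_, hs⟩).trans (e ▸ conj_k _)
  have c2 : IsConj h.t (S.ex.Th (t5 * p, q)) := by
    obtain ⟨s, hs⟩ := Exc.f_K2_conj (h := h) hcK.2.2.1 hcK.2.2.2
    refine (isConj_iff.2 ⟨_, hs⟩).trans ?_
    rw [show (t5 * p, q) = (t5, (1 : A5)) * (p, q) by rw [Prod.mk_mul_mk, one_mul], map_mul S.ex.Th, S.ex.Th_fst, ← e,
      show h.f t5 = k⁻¹ * h.t * k from hkt.symm,
      show k⁻¹ * h.t * k * (k⁻¹ * h.f c * k) = k⁻¹ * (h.t * h.f c) * k by group, Hyp.t, ← map_mul]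
    exact conj_k _
  have htp : t5 * p ∈ K2L := (K2_facts.1 t5 (by simp [K2L]) p hp).1
  rcases S.ex.class_t hp hq c1 with ⟨hp1, hq1⟩ | ⟨hp1, hq1⟩
  · refine ⟨hp1, fun hpt => ?_⟩
    rcases S.ex.class_t htp hq c2 with ⟨h1, -⟩ | ⟨-, h1⟩
    · exact h1 (by rw [hpt, K2_small.2.2.2.2.2.2.2.2])
    · exact h1 hq1
  · exfalso
    rcases S.ex.class_t htp hq c2 with ⟨-, h1⟩ | ⟨h1, -⟩
    · exact hq1 h1
    · exact K2_small.2.2.2.1 (by rwa [hp1, mul_one] at h1)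

/-- The centraliser of `t` lies in the product. -/
theorem cent_t {x : G} (hx : x ∈ S.N0) (hxt : x * h.t = h.t * x) : x ∈ S.ex.N1 := by
  have hk2 := K2_small
  have : Fact (Nat.Prime 2) := ⟨Nat.prime_two⟩
  have ht5 : t5 ∈ K2L := by simp [K2L]
  have hv5 : v5 ∈ K2L := by simp [K2L]
  have hw5 : t5 * v5 ∈ K2L := by simp [K2L]
  obtain ⟨Nt, hNtn, hNti, hNt⟩ := S.exists_char ht5 hv5 hk2.2.2.1 hk2.2.2.2.2.1.symm hk2.2.2.2.1
    (fun k hk p q hp hq e => by rw [S.iso_t k hk p q hp hq e]; exact ⟨hk2.2.2.2.1, hk2.2.2.2.2.1.symm⟩)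
  obtain ⟨Nv, hNvn, hNvi, hNv⟩ := S.exists_char hv5 ht5 hk2.2.2.2.1 hk2.2.2.2.2.1 hk2.2.2.1
    (S.iso_v (Or.inl rfl))
  obtain ⟨Nw, hNwn, hNwi, hNw⟩ := S.exists_char hw5 ht5 hk2.2.2.2.1 hk2.2.2.2.2.2.1 hk2.2.1
    (S.iso_v (Or.inr rfl))
  set J := Nt ⊓ Nv ⊓ Nw with hJ
  have : J.Normal := inferInstance
  let γ : A5 →* S.K := S.ex.g.codRestrict S.K S.g_K
  have hγ : ∀ p, γ p ∈ J := fun p =>
    mem_inf.2 ⟨mem_inf.2 ⟨A5_to_small Nt (by rw [hNti]; norm_num) γ p, A5_to_small Nv (by rw [hNvi]; norm_num) γ p⟩,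
      A5_to_small Nw (by rw [hNwi]; norm_num) γ p⟩
  -- the intersection with the Sylow subgroup
  have hfst : ∀ a b : A5, a ∈ K2L → ∀ hm : S.ex.Th (a, b) ∈ S.K, (⟨_, hm⟩ : S.K) ∈ J → a = 1 := by
    intro a b ha hm hJm
    have h1 : (⟨_, hm⟩ : S.K) * (γ b)⁻¹ ∈ J := mul_mem hJm (inv_mem (hγ b))
    have e : (⟨_, hm⟩ : S.K) * (γ b)⁻¹ = ⟨h.f a, S.S0_le_K (S.f_mem_S0 ha)⟩ :=
      Subtype.ext (show S.ex.Th (a, b) * (S.ex.g b)⁻¹ = h.f a by rw [S.ex.Th_apply, mul_inv_cancel_right])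
    rw [e] at h1
    obtain ⟨⟨m1, m2⟩, m3⟩ := mem_inf.1 h1
    rcases hk2.1 a ha with rfl | rfl | rfl | rfl
    · rfl
    · exact absurd m1 hNt
    · exact absurd m2 hNv
    · exact absurd m3 hNw
  have hidx4 : 4 ∣ J.index := by
    have hd := J.relIndex_dvd_index_of_normal (S.ex.S0.subgroupOf S.K)
    have h1 := (J.subgroupOf (S.ex.S0.subgroupOf S.K)).card_mul_index
    rw [Nat.card_congr (subgroupOfEquivOfLe S.S0_le_K).toEquiv, S.ex.S0_card] at h1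
    have h4 : Nat.card (J.subgroupOf (S.ex.S0.subgroupOf S.K)) ≤ 4 := by
      have hex : ∀ y : J.subgroupOf (S.ex.S0.subgroupOf S.K), ∃ b : KK2, ((y : S.ex.S0.subgroupOf S.K) : S.K).1 = S.ex.Th (1, b) := by
        rintro ⟨⟨⟨y, hyK⟩, hyS⟩, hyJ⟩
        obtain ⟨a, b, ha, hb, rfl⟩ := S.ex.mem_S0.1 hyS
        obtain rfl : a = 1 := hfst a b ha hyK hyJ
        exact ⟨⟨b, hb⟩, rfl⟩
      choose F hF using hex
      rw [← card_KK2]
      refine Nat.card_le_card_of_injective F fun y y' e => ?_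
      exact Subtype.ext (Subtype.ext (Subtype.ext ((hF y).trans (e ▸ (hF y').symm))))
    change (J.subgroupOf (S.ex.S0.subgroupOf S.K)).index ∣ J.index at hd
    set m := Nat.card (J.subgroupOf (S.ex.S0.subgroupOf S.K))
    have hm : m ∣ 16 := Dvd.intro _ h1
    have hm' : m ∈ Nat.divisors 16 := Nat.mem_divisors.2 ⟨hm, by norm_num⟩
    rw [show Nat.divisors 16 = {1, 2, 4, 8, 16} by decide] at hm'
    simp only [Finset.mem_insert, Finset.mem_singleton] at hm'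
    refine Nat.dvd_trans ?_ hd
    rcases hm' with e | e | e | e | e <;> rw [e] at h1 <;> omega
  have h32 : ¬ 32 ∣ Nat.card S.K := fun hd => S.not_32 (hd.trans (card_dvd_of_le inf_le_left))
  have hcK := J.card_mul_index
  have h8 : ¬ 8 ∣ Nat.card J := fun hd => h32 (hcK ▸ (show 32 = 8 * 4 by norm_num) ▸ Nat.mul_dvd_mul hd hidx4)
  have hidx8 : J.index ≤ 8 := by
    refine index_inf_le.trans ((Nat.mul_le_mul_right _ index_inf_le).trans ?_)
    rw [hNti, hNvi, hNwi]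
  -- the self-centralising element
  have hzK : h.z ∈ S.K := S.ex.g_c5 ▸ S.g_K c5
  have hzJ : (⟨h.z, hzK⟩ : S.K) ∈ J := by
    have := hγ c5
    rwa [show γ c5 = ⟨h.z, hzK⟩ from Subtype.ext S.ex.g_c5] at this
  have hsc : SelfCentThree.Sc (⟨⟨h.z, hzK⟩, hzJ⟩ : J) := by
    refine ⟨Subtype.ext (Subtype.ext h.z_cube), fun e => h.z_ne (congrArg (fun y : J => ((y : S.K) : G)) e), ?_⟩
    refine le_antisymm (fun y hy => ?_) (zpowers_le.2 (mem_centralizer_singleton_iff.2 rfl))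
    obtain ⟨⟨y, hyK⟩, hyJ⟩ := y
    have hyz : y * h.z = h.z * y := congrArg (fun y : J => ((y : S.K) : G)) (mem_centralizer_singleton_iff.1 hy)
    obtain ⟨a, p, rfl⟩ := h.cent_cases hyz
    have hza : h.z ^ (a : ℕ) ∈ S.K := pow_mem hzK _
    have hrK : h.r p ∈ S.K := (S.K.mul_mem_cancel_left hza).1 hyK
    rcases Int.units_eq_one_or (sign p) with e | e
    · let q : A5 := ⟨p, mem_alternatingGroup.2 e⟩
      have hq2 : h.f q * h.t = h.t * h.f q := (S.mem_K.1 hrK).2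
      rw [Hyp.t, ← map_mul, ← map_mul] at hq2
      have hqK : q ∈ K2L := K2_facts.2.2.2.1 q (h.f_inj hq2)
      have hrJ : (⟨h.r p, hrK⟩ : S.K) ∈ J := by
        refine (J.mul_mem_cancel_left (pow_mem hzJ (a : ℕ))).1 ?_
        exact hyJ
      have hqm : S.ex.Th (q, 1) ∈ S.K := by rw [S.ex.Th_fst]; exact hrK
      have hq1 : q = 1 := hfst q 1 hqK hqm (by
        rwa [show (⟨_, hqm⟩ : S.K) = ⟨h.r p, hrK⟩ from Subtype.ext (S.ex.Th_fst q)])
      have hp1 : p = 1 := congrArg Subtype.val hq1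
      refine mem_zpowers_iff.2 ⟨(a : ℕ), Subtype.ext (Subtype.ext ?_)⟩
      rw [zpow_natCast]
      simp [hp1]
    · exfalso
      let q : A5 := ⟨p * tau, mem_alternatingGroup.2 (by
        rw [map_mul, e, show sign tau = -1 by decide +kernel]; decide)⟩
      have h2 : h.f q * h.e ∈ S.N0 := by
        rw [h.f_apply, h.e_r, ← map_mul]
        show h.r (p * tau * tau) ∈ S.N0
        rw [mul_assoc, A8ThreeLocal.tau_sq, mul_one]
        exact (S.mem_K.1 hrK).1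
      exact S.e_not_N0 ((S.N0.mul_mem_cancel_left (S.f_N0 q)).1 h2)
  let γJ : A5 →* J := γ.codRestrict J hγ
  have hJ60 : Nat.card J = 60 := by
    rcases SelfCentThree.concl (Nat.card J) J rfl _ hsc with ⟨N, hN, -, hN3, hQ⟩ | ⟨N, hN, -, hN2, ⟨eQ⟩⟩ | e'
    · exfalso
      have hi : N.index < 60 := by
        rw [index_eq_card]
        rcases hQ with hQ | ⟨⟨eQ⟩⟩
        · omega
        · rw [Nat.card_congr eQ.toEquiv, Nat.card_perm, Nat.card_fin]; decide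
      have hm : (⟨⟨h.z, hzK⟩, hzJ⟩ : J) ∈ N := by
        have := A5_to_small N hi γJ c5
        rwa [show γJ c5 = ⟨⟨h.z, hzK⟩, hzJ⟩ from Subtype.ext (Subtype.ext S.ex.g_c5)] at this
      have h3 : orderOf (⟨_, hm⟩ : N) = 3 := by
        rw [orderOf_mk, orderOf_mk, orderOf_mk]; exact h.order_z
      exact absurd ((Nat.Prime.coprime_iff_not_dvd Nat.prime_three).1 hN3.symm) (not_not.2 (h3 ▸ orderOf_dvd_natCard _))
    · have hc : Nat.card J = 60 * Nat.card N := by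
        rw [card_eq_card_quotient_mul_card_subgroup N, Nat.card_congr eQ.toEquiv, SelfCentThree.card_alt_five]
      by_cases hbot : N = ⊥
      · rw [hc, hbot, card_bot]
      exfalso
      obtain ⟨n, hnN, hn1⟩ := (bot_or_exists_ne_one N).resolve_left hbot
      have h2 : orderOf (⟨n, hnN⟩ : N) = 2 := orderOf_eq_prime (Subtype.ext (hN2 n hnN)) fun e => hn1 (congrArg Subtype.val e)
      obtain ⟨m, hm⟩ : 2 ∣ Nat.card N := h2 ▸ orderOf_dvd_natCard _
      exact h8 ⟨15 * m, by rw [hc, hm]; ring⟩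
    · obtain ⟨e⟩ := e'
      refine absurd ?_ h8
      rw [Nat.card_congr e.toEquiv, SelfCentThree.psl_seven.2]
      norm_num
  have hK240 : Nat.card S.K ≤ 240 := by
    rw [← hcK, hJ60]
    have : J.index ≠ 8 := fun e => h32 ⟨15, by rw [← hcK, hJ60, e]⟩
    omega
  set A : Subgroup G := (KK2.prod (⊤ : Subgroup A5)).map S.ex.Th with hA
  have hAK : A ≤ S.K := by
    rintro _ ⟨⟨a, b⟩, hab, rfl⟩
    rw [S.ex.Th_apply]
    exact mul_mem (S.S0_le_K (S.f_mem_S0 (mem_prod.1 hab).1)) (S.g_K b)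
  have hAc : Nat.card A = 240 := by
    rw [hA, card_map_of_injective S.ex.Th_inj, Nat.card_congr (KK2.prodEquiv ⊤).toEquiv, Nat.card_prod, card_KK2,
      card_top, SelfCentThree.card_alt_five]
  obtain ⟨w, -, hw⟩ : x ∈ A := (eq_of_le_of_card_ge hAK (by omega)).symm ▸ S.mem_K.2 ⟨hx, hxt⟩
  exact hw ▸ S.ex.mem_N1 w

theorem cent_s {x : G} (hx : x ∈ S.N0) (hxs : x * h.s = h.s * x) : x ∈ S.ex.N1 := by
  obtain ⟨h2, -, -, -, -, -, hst⟩ := S.ex.sg_facts S.sg_K4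
  have e : S.sg * x * S.sg * h.t = h.t * (S.sg * x * S.sg) := by
    rw [← hst]
    calc S.sg * x * S.sg * (S.sg * h.s * S.sg) = S.sg * x * (S.sg * S.sg) * h.s * S.sg := by group
      _ = S.sg * (x * h.s) * S.sg := by rw [h2]; group
      _ = S.sg * h.s * (S.sg * S.sg) * x * S.sg := by rw [hxs, h2]; group
      _ = _ := by group
  have := S.sg_N1 (S.cent_t (S.sg_N0 hx) e)
  rwa [show S.sg * (S.sg * x * S.sg) * S.sg = (S.sg * S.sg) * x * (S.sg * S.sg) by group, h2, one_mul, mul_one] at this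

/-- The centraliser of a further involution of the four group. -/
theorem cent_f {c : A5} (hc : c ∈ K2L) (h1 : c ≠ 1) {x : G} (hx : x ∈ S.N0) (hxc : x * h.f c = h.f c * x) :
    x ∈ S.ex.N1 := by
  obtain ⟨s, hs⟩ := Exc.f_K2_conj (h := h) hc h1
  have hm := S.cent_t (x := (h.f s)⁻¹ * x * h.f s) (mul_mem (mul_mem (inv_mem (S.f_N0 s)) hx) (S.f_N0 s)) (by
    calc (h.f s)⁻¹ * x * h.f s * h.t = (h.f s)⁻¹ * (x * (h.f s * h.t * (h.f s)⁻¹)) * h.f s := by group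
      _ = (h.f s)⁻¹ * (h.f s * h.t * (h.f s)⁻¹ * x) * h.f s := by rw [hs, hxc]
      _ = _ := by group)
  have := mul_mem (mul_mem (S.ex.f_N1 s) hm) (inv_mem (S.ex.f_N1 s))
  rwa [show h.f s * ((h.f s)⁻¹ * x * h.f s) * (h.f s)⁻¹ = x by group] at this

theorem N1_cent_II {x : G} (hx : x ∈ S.ex.N1) (hxI : x * S.ex.II = S.ex.II * x) : x ∈ S.ex.S0 := by
  obtain ⟨⟨p, q⟩, rfl⟩ := hx
  rw [S.ex.II_eq, ← map_mul, ← map_mul, Prod.mk_mul_mk, Prod.mk_mul_mk] at hxI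
  obtain ⟨hp, hq⟩ := Prod.ext_iff.1 (S.ex.Th_inj hxI)
  exact S.ex.mem_S0.2 ⟨p, q, K2_facts.2.2.2.1 p hp, K2_facts.2.2.2.1 q hq, rfl⟩

/-- The centraliser of `t s`. -/
theorem cent_II {x : G} (hx : x ∈ S.N0) (hxI : x * S.ex.II = S.ex.II * x) : x ∈ S.ex.S0 := by
  have : Fact (Nat.Prime 2) := ⟨Nat.prime_two⟩
  set C : Subgroup G := S.N0 ⊓ centralizer ({S.ex.II} : Set G) with hC
  have mC : ∀ {y : G}, y ∈ C ↔ y ∈ S.N0 ∧ y * S.ex.II = S.ex.II * y := fun {y} => by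
    rw [hC, mem_inf, mem_centralizer_singleton_iff]
  have hS0C : S.ex.S0 ≤ C := fun y hy => mC.2 ⟨S.S0_le hy, (S.ex.T64_cent (S.ex.S0_le_T64 hy)).eq⟩
  obtain ⟨P, hP⟩ := S.sylow_in (K := C) inf_le_left hS0C
  have ht0 : h.t ∈ S.ex.S0 := S.f_mem_S0 (by simp [K2L])
  -- the normaliser of the Sylow subgroup
  have hnorm : ∀ n : C, n ∈ normalizer ((P : Subgroup C) : Set C) → (n : G) ∈ S.ex.S0 := by
    intro n hn
    obtain ⟨hnN, hnI⟩ := mC.1 n.2
    have hcl : ∀ y ∈ S.ex.S0, (n : G) * y * (n : G)⁻¹ ∈ S.ex.S0 := by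
      intro y hy
      have := (Subgroup.mem_normalizer_iff.1 hn ⟨y, hS0C hy⟩).1 (show _ ∈ (P : Subgroup C) by rw [hP]; exact hy)
      rw [hP] at this
      exact this
    obtain ⟨a, b, ha, hb, hab⟩ := S.ex.mem_S0.1 (hcl _ ht0)
    have c1 : IsConj h.t (S.ex.Th (a, b)) := hab ▸ isConj_iff.2 ⟨(n : G), rfl⟩
    have c2 : IsConj h.t (S.ex.Th (a * t5, b * t5)) := by
      rw [← Prod.mk_mul_mk, map_mul, hab, ← S.ex.II_eq]
      refine S.ex.t_conj_s.trans (isConj_iff.2 ⟨(n : G), ?_⟩)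
      have e : (n : G) * S.ex.II * (n : G)⁻¹ = S.ex.II := by rw [hnI, mul_inv_cancel_right]
      calc (n : G) * h.s * (n : G)⁻¹ = (n : G) * (h.t * S.ex.II) * (n : G)⁻¹ := by
            rw [Exc.II, ← mul_assoc h.t, h.t_sq, one_mul]
        _ = (n : G) * h.t * (n : G)⁻¹ * ((n : G) * S.ex.II * (n : G)⁻¹) := by group
        _ = _ := by rw [e]
    have hat : a * t5 ∈ K2L := (K2_facts.1 a ha t5 (by simp [K2L])).1
    have hbt : b * t5 ∈ K2L := (K2_facts.1 b hb t5 (by simp [K2L])).1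
    have ht5 := K2_small.2.2.2.1
    have tcases : (n : G) * h.t * (n : G)⁻¹ = h.t ∨ (n : G) * h.t * (n : G)⁻¹ = h.s := by
      rw [← hab]
      rcases S.ex.class_t ha hb c1 with ⟨-, hb1⟩ | ⟨ha1, -⟩
      · subst hb1
        rcases S.ex.class_t hat hbt c2 with ⟨-, h1⟩ | ⟨h1, -⟩
        · exact absurd (by rwa [one_mul] at h1) ht5
        · have : a = t5 := (mul_eq_one_iff_eq_inv.1 h1).trans (inv_eq_of_mul_eq_one_right K2_small.2.2.2.2.2.2.2.2)
          exact Or.inl (this ▸ S.ex.Th_fst t5)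
      · subst ha1
        rcases S.ex.class_t hat hbt c2 with ⟨-, h1⟩ | ⟨h1, -⟩
        · have : b = t5 := (mul_eq_one_iff_eq_inv.1 h1).trans (inv_eq_of_mul_eq_one_right K2_small.2.2.2.2.2.2.2.2)
          exact Or.inr (this ▸ (S.ex.Th_snd t5).trans S.ex.g_t5)
        · exact absurd (by rwa [one_mul] at h1) ht5
    have fixes : ∀ m : G, m ∈ C → m * h.t * m⁻¹ = h.t → m ∈ S.ex.S0 := fun m hm hmt =>
      S.N1_cent_II (S.cent_t (mC.1 hm).1 (mul_inv_eq_iff_eq_mul.1 hmt)) (mC.1 hm).2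
    rcases tcases with e | e
    · exact fixes _ n.2 e
    · exfalso
      have hsi : h.t * S.ex.II = h.s := by rw [Exc.II, ← mul_assoc, h.t_sq, one_mul]
      have e' : (n : G) * h.s * (n : G)⁻¹ = h.t := by
        rw [← hsi, show (n : G) * (h.t * S.ex.II) * (n : G)⁻¹ = (n : G) * h.t * (n : G)⁻¹ * ((n : G) * S.ex.II * (n : G)⁻¹) by group,
          e, hnI, mul_inv_cancel_right, Exc.II, ← mul_assoc, ← S.ex.g_t5, Hyp.t, ← (S.ex.fg t5 t5).eq, mul_assoc,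
          ← map_mul, K2_small.2.2.2.2.2.2.2.2, map_one, mul_one]
      have hn2 : (n : G) * n ∈ S.ex.S0 := fixes _ (mul_mem n.2 n.2) (by
        rw [show (n : G) * n * h.t * ((n : G) * n)⁻¹ = (n : G) * ((n : G) * h.t * (n : G)⁻¹) * (n : G)⁻¹ by group, e, e'])
      have hn4 : (n : G) ^ (2 ^ 2) = 1 := by
        obtain ⟨p, q, hp, hq, hpq⟩ := S.ex.mem_S0.1 hn2
        rw [show (2 : ℕ) ^ 2 = 2 * 2 from rfl, pow_mul, pow_two, pow_two, ← hpq, ← map_mul, Prod.mk_mul_mk,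
          K2_facts.2.1 p hp, K2_facts.2.1 q hq, ← Prod.one_eq_mk, map_one]
      have hnP : IsPGroup 2 (zpowers (n : G)) := by
        obtain ⟨j, -, hj⟩ := (Nat.dvd_prime_pow Nat.prime_two).1 (orderOf_dvd_of_pow_eq_one hn4)
        exact IsPGroup.of_card (n := j) (by rw [Nat.card_zpowers, hj])
      have hnn : (n : G) ∈ normalizer (S.ex.S0 : Set G) := by
        have hle : S.ex.S0.map (MulAut.conj (n : G)).toMonoidHom ≤ S.ex.S0 := by rintro _ ⟨y, hy, rfl⟩; exact hcl y hy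
        have heq := eq_of_le_of_card_ge hle (card_map_of_injective (MulAut.conj (n : G)).injective).ge
        rw [Subgroup.mem_normalizer_iff]
        intro y
        refine ⟨hcl y, fun hy => ?_⟩
        obtain ⟨w, hw, ew⟩ : (n : G) * y * (n : G)⁻¹ ∈ S.ex.S0.map (MulAut.conj (n : G)).toMonoidHom := heq.symm ▸ hy
        exact (MulAut.conj (n : G)).injective ew ▸ hw
      have hS2 : IsPGroup 2 S.ex.S0 := IsPGroup.of_card (n := 4) (by rw [S.ex.S0_card]; norm_num)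
      obtain ⟨j, hj⟩ := IsPGroup.iff_card.1 (IsPGroup.to_sup_of_normal_right' hnP hS2 (zpowers_le.2 hnn))
      have hj4 : j ≤ 4 := by
        by_contra hlt
        refine S.not_32 (((pow_dvd_pow 2 (show 5 ≤ j by omega)).trans (hj ▸ dvd_refl _)).trans
          (card_dvd_of_le (sup_le (zpowers_le.2 hnN) S.S0_le)))
      have heq := eq_of_le_of_card_ge (le_sup_right : S.ex.S0 ≤ zpowers (n : G) ⊔ S.ex.S0) (by
        rw [hj, S.ex.S0_card]; exact (Nat.pow_le_pow_right (by norm_num) hj4).trans (by norm_num))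
      have hnS : (n : G) ∈ S.ex.S0 := heq.symm ▸ mem_sup_left (mem_zpowers _)
      have : (n : G) * h.t * (n : G)⁻¹ = h.t := by rw [S.ex.S0_comm _ hnS _ ht0, mul_inv_cancel_right]
      have hts : S.ex.Th (t5, 1) = S.ex.Th (1, t5) := by
        rw [S.ex.Th_fst, S.ex.Th_snd, S.ex.g_t5]; exact this.symm.trans e
      exact ht5 (congrArg Prod.fst (S.ex.Th_inj hts))
  have hburn : normalizer ((P : Subgroup C) : Set C) ≤ centralizer ((P : Subgroup C) : Set C) := by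
    intro n hn
    rw [mem_centralizer_iff]
    intro m hm
    rw [SetLike.mem_coe, hP] at hm
    exact Subtype.ext (S.ex.S0_comm _ hm _ (hnorm n hn))
  obtain ⟨O, hOn, hcompl⟩ : ∃ O : Subgroup C, O.Normal ∧ IsComplement' O (P : Subgroup C) :=
    ⟨(MonoidHom.transferSylow P hburn).ker, MonoidHom.normal_ker (MonoidHom.transferSylow P hburn),
      MonoidHom.ker_transferSylow_isComplement' P hburn⟩
  have hdisj : Disjoint O (P : Subgroup C) := hcompl.disjoint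
  set O' : Subgroup G := O.map C.subtype with hO'
  have hnO : ∀ y ∈ S.ex.S0, ∀ w ∈ O', y * w * y ∈ O' := by
    rintro y hy _ ⟨w, hw, rfl⟩
    obtain ⟨p, q, hp, hq, hpq⟩ := S.ex.mem_S0.1 hy
    have hy2 : y * y = 1 := by
      rw [← hpq, ← map_mul, Prod.mk_mul_mk, K2_facts.2.1 p hp, K2_facts.2.1 q hq, ← Prod.one_eq_mk, map_one]
    refine ⟨⟨y, hS0C hy⟩ * w * ⟨y, hS0C hy⟩⁻¹, hOn.conj_mem w hw _, ?_⟩
    show y * (w : G) * y⁻¹ = y * (w : G) * y
    rw [inv_eq_of_mul_eq_one_right hy2]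
  have hfix : ∀ {c : A5}, c ∈ K2L → c ≠ 1 → ∀ w ∈ O', w * h.f c = h.f c * w → w = 1 := by
    rintro c hc h1 _ ⟨w, hw, rfl⟩ hwc
    have hwS : (w : G) ∈ S.ex.S0 := S.N1_cent_II (S.cent_f hc h1 (mC.1 w.2).1 hwc) (mC.1 w.2).2
    have hwP : w ∈ (P : Subgroup C) := by rw [hP]; exact hwS
    have := disjoint_def.1 hdisj hw hwP
    show (w : G) = 1
    rw [this]; rfl
  have hk2 := K2_small
  have hbot : O' = ⊥ := four_fix O' (a := h.f t5) (b := h.f v5)
    (by rw [← map_mul, hk2.2.2.2.2.2.2.2.2, map_one])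
    (by rw [← map_mul, K2_facts.2.1 v5 (by simp [K2L]), map_one])
    (by rw [← map_mul, ← map_mul, (K2_facts.1 t5 (by simp [K2L]) v5 (by simp [K2L])).2])
    (hnO _ (S.f_mem_S0 (by simp [K2L]))) (hnO _ (S.f_mem_S0 (by simp [K2L])))
    (hfix (by simp [K2L]) hk2.2.2.2.1) (hfix (by simp [K2L]) hk2.2.2.1)
    (fun w hw e => hfix (c := t5 * v5) (by simp [K2L]) hk2.2.1 w hw (by rwa [map_mul]))
  have hObot : O = ⊥ := (map_eq_bot_iff_of_injective _ Subtype.val_injective).1 hbot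
  have hPtop : (P : Subgroup C) = ⊤ := by
    have := hcompl.sup_eq_top
    rwa [hObot, bot_sup_eq] at this
  have hm : (⟨x, mC.2 ⟨hx, hxI⟩⟩ : C) ∈ (P : Subgroup C) := hPtop ▸ mem_top _
  rw [hP] at hm
  exact hm

end Sub

end Cfsg.Agent.S8ThreeLocal
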