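import Cfsg.Agent.S8ThreeLocal.ExcSylow
import Cfsg.Agent.S8ThreeLocal.SymFinish

/-!
Two transfers in the exceptional configuration.
-/

set_option autoImplicit false
set_option maxRecDepth 20000
set_option synthInstance.maxSize 2000
set_option synthInstance.maxHeartbeats 400000

namespace Cfsg.Agent.S8ThreeLocal

open Equiv Equiv.Perm Subgroup
open Cfsg.Agent.A8ThreeLocal (A5 c5 t5 v5 s5 a1 a2 a3 b1 r3 s3 tau InV1 InV2 tauHom cases_pow_three
  centralizer_card_conj tauHom_sq)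

theorem invol_pow_two {G : Type*} [Group G] {x : G} (h2 : x * x = 1) {k : ℕ} (hk : 1 ≤ k) : x ^ (2 ^ k) = 1 := by
  obtain ⟨j, rfl⟩ := Nat.exists_eq_add_of_le hk
  rw [pow_add, pow_mul, pow_one, pow_two, h2, one_pow]

variable {G : Type*} [Group G] [Finite G]

/-- The outcome of the two transfers. -/
structure Sub (h : Hyp G) where
  /-- The configuration. -/
  ex : Exc h
  /-- The first subgroup of index two. -/
  G0 : Subgroup G
  G0_normal : G0.Normal
  G0_index : G0.index = 2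
  e_not : h.e ∉ G0
  N1_le : ex.N1 ≤ G0
  /-- The involution exchanging the factors. -/
  sg : G
  sg_K4 : sg = h.i ∨ sg = h.e * h.i
  sg_G0 : sg ∈ G0
  /-- The second subgroup. -/
  N0 : Subgroup G
  N0_le : N0 ≤ G0
  N0_conj : ∀ g ∈ G0, ∀ x ∈ N0, g * x * g⁻¹ ∈ N0
  N0_card : Nat.card N0 * 4 = Nat.card G
  sg_not : sg ∉ N0
  N1_le_N0 : ex.N1 ≤ N0

namespace Exc

variable {h : Hyp G} (X : Exc h)

theorem sg_facts {σ : G} (hσ : σ = h.i ∨ σ = h.e * h.i) :
    σ * σ = 1 ∧ σ ∈ X.K4 ∧ σ * h.e = h.e * σ ∧ σ * (h.z * h.z') = h.z * h.z' * σ ∧ σ ≠ 1 ∧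
      σ * h.t * σ = h.s ∧ σ * h.s * σ = h.t := by
  rcases hσ with rfl | rfl
  · exact ⟨h.i_sq, Or.inr (Or.inr (Or.inl rfl)), h.i_e_comm, X.zz'_comm.1, h.i_ne, X.hs, X.i_s⟩
  · have hie : Commute h.i h.e := h.i_e_comm
    refine ⟨?_, Or.inr (Or.inr (Or.inr rfl)), ?_, X.zz'_comm.2, fun e => ?_, ?_, ?_⟩
    · rw [show h.e * h.i * (h.e * h.i) = h.e * (h.i * h.e) * h.i by group, hie.eq, ← mul_assoc, h.e_sq, one_mul, h.i_sq]
    · exact ((Commute.refl h.e).mul_left hie).eq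
    · have hN := X.N1_not (k := h.i) (Or.inr (Or.inr (Or.inl rfl)))
      have e1 := h.i_z_eq
      rw [show h.i = h.e from (mul_eq_one_iff_inv_eq.1 e).symm.trans h.e_inv, h.e_z, mul_assoc, h.e_sq, mul_one] at e1
      exact (show zP ≠ inA c5 by decide +kernel) (h.psi_inj e1)
    · have es : h.e * h.s * h.e = h.s := by rw [h.e_s, mul_assoc, h.e_sq, mul_one]
      calc h.e * h.i * h.t * (h.e * h.i) = h.e * h.i * h.t * (h.i * h.e) := by rw [hie.eq]
        _ = h.e * (h.i * h.t * h.i) * h.e := by group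
        _ = h.s := by rw [X.hs, es]
    · have et : h.e * h.t * h.e = h.t := by rw [Hyp.t, h.e_f, tau_facts.2.1]
      calc h.e * h.i * h.s * (h.e * h.i) = h.e * h.i * h.s * (h.i * h.e) := by rw [hie.eq]
        _ = h.e * (h.i * h.s * h.i) * h.e := by group
        _ = h.t := by rw [X.i_s, et]

theorem sg_not_N1 {σ : G} (hσ : σ = h.i ∨ σ = h.e * h.i) {x : G} (hx : x ∈ X.N1) : ¬ IsConj σ x := by
  intro hc
  obtain ⟨h2, -, he, hy, h1, -, -⟩ := X.sg_facts hσ
  have hx2 : x * x = 1 := by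
    obtain ⟨g, rfl⟩ := isConj_iff.1 hc
    calc g * σ * g⁻¹ * (g * σ * g⁻¹) = g * (σ * σ) * g⁻¹ := by group
      _ = 1 := by rw [h2]; group
  have hx1 : x ≠ 1 := fun e => h1 (isConj_one_left.1 (e ▸ hc))
  obtain ⟨c, -, e | e | e⟩ := X.N1_invol hx hx2 hx1
  · exact X.not_t_cent_y hy ((isConj_iff.2 ⟨c, e⟩).trans hc.symm)
  · exact X.not_t_cent_y hy ((X.t_conj_s.trans (isConj_iff.2 ⟨c, e⟩)).trans hc.symm)
  · exact X.not_II_i he hy ((isConj_iff.2 ⟨c, e⟩).trans hc.symm)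

theorem not_e_N1 {x : G} (hx : x ∈ X.N1) : ¬ IsConj h.e x := by
  intro hc
  have hx2 : x * x = 1 := by
    obtain ⟨g, rfl⟩ := isConj_iff.1 hc
    calc g * h.e * g⁻¹ * (g * h.e * g⁻¹) = g * (h.e * h.e) * g⁻¹ := by group
      _ = 1 := by rw [h.e_sq]; group
  have hx1 : x ≠ 1 := fun e => h.e_ne (isConj_one_left.1 (e ▸ hc))
  obtain ⟨c, -, e | e | e⟩ := X.N1_invol hx hx2 hx1
  · exact h.e_not_conj_t (hc.trans (isConj_iff.2 ⟨c, e⟩).symm)
  · exact h.e_not_conj_t ((hc.trans (isConj_iff.2 ⟨c, e⟩).symm).trans X.t_conj_s.symm)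
  · exact X.not_e_II (hc.trans (isConj_iff.2 ⟨c, e⟩).symm)

theorem N1_of_index_two {H : Subgroup G} (hf : ∀ p, h.f p ∈ H) (hg : ∀ p, X.g p ∈ H) : X.N1 ≤ H := by
  rintro _ ⟨⟨p, q⟩, rfl⟩
  rw [X.Th_apply]
  exact mul_mem (hf p) (hg q)

include X in
theorem exists_G0 : ∃ G0 : Subgroup G, G0.Normal ∧ G0.index = 2 ∧ h.e ∉ G0 ∧ X.N1 ≤ G0 := by
  have : Fact (Nat.Prime 2) := ⟨Nat.prime_two⟩
  obtain ⟨P, hP⟩ := X.exists_sylow
  let M0 : Subgroup G :=
    { carrier := {x | ∃ s ∈ X.S0, x = s ∨ x = s * h.i}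
      one_mem' := ⟨1, one_mem _, Or.inl rfl⟩
      mul_mem' := by
        have hconj : ∀ s ∈ X.S0, h.i * s * h.i ∈ X.S0 := fun s hs => by
          obtain ⟨a, b, ha, hb, rfl⟩ := X.mem_S0.1 hs
          rw [X.i_Th]; exact X.mem_S0.2 ⟨b, a, hb, ha, rfl⟩
        rintro x y ⟨s, hs, hx⟩ ⟨s', hs', hy⟩
        rcases hx with hx | hx <;> rcases hy with hy | hy <;> rw [hx, hy]
        · exact ⟨_, mul_mem hs hs', Or.inl rfl⟩
        · exact ⟨_, mul_mem hs hs', Or.inr (mul_assoc _ _ _).symm⟩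
        · refine ⟨_, mul_mem hs (hconj _ hs'), Or.inr ?_⟩
          rw [show s * (h.i * s' * h.i) * h.i = s * h.i * s' * (h.i * h.i) by group, h.i_sq, mul_one]
        · refine ⟨_, mul_mem hs (hconj _ hs'), Or.inl ?_⟩
          group
      inv_mem' := by
        rintro x ⟨s, hs, rfl | rfl⟩
        · exact ⟨_, inv_mem hs, Or.inl rfl⟩
        · obtain ⟨a, b, ha, hb, e⟩ := X.mem_S0.1 (inv_mem hs)
          refine ⟨_, X.mem_S0.2 ⟨b, a, hb, ha, rfl⟩, Or.inr ?_⟩
          rw [mul_inv_rev, h.i_inv, ← e, ← X.i_Th a b, mul_assoc (h.i * X.Th (a, b)), h.i_sq, mul_one] }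
  have hM0T : M0 ≤ X.T64 := by
    rintro x ⟨s, hs, rfl | rfl⟩
    · exact X.S0_le_T64 hs
    · exact mul_mem (X.S0_le_T64 hs) X.i_T64
  have hM0c : Nat.card M0 = 32 := by
    have hne : ∀ s ∈ X.S0, ∀ s' ∈ X.S0, s ≠ s' * h.i := by
      intro s hs s' hs' e
      exact h.i_ne (X.N1_not (Or.inr (Or.inr (Or.inl rfl)))
        (by rw [show h.i = s'⁻¹ * s by rw [e]; group]; exact X.S0_le_N1 (mul_mem (inv_mem hs') hs)))
    have hb : Function.Bijective (fun x : X.S0 × Bool =>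
        (if x.2 then ⟨(x.1 : G) * h.i, x.1, x.1.2, Or.inr rfl⟩ else ⟨x.1, x.1, x.1.2, Or.inl rfl⟩ : M0)) := by
      refine ⟨?_, ?_⟩
      · rintro ⟨a, ba⟩ ⟨b, bb⟩ e
        cases ba <;> cases bb <;> simp only [Bool.false_eq_true, ↓reduceIte, Subtype.ext_iff] at e
        · exact Prod.ext (Subtype.ext e) rfl
        · exact absurd e (hne _ a.2 _ b.2)
        · exact absurd e.symm (hne _ b.2 _ a.2)
        · exact Prod.ext (Subtype.ext (mul_right_cancel e)) rfl
      · rintro ⟨x, s, hs, rfl | rfl⟩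
        · exact ⟨(⟨_, hs⟩, false), rfl⟩
        · exact ⟨(⟨_, hs⟩, true), rfl⟩
    rw [← Nat.card_eq_of_bijective _ hb, Nat.card_prod, X.S0_card, Nat.card_eq_fintype_card (α := Bool), Fintype.card_bool]
  have hrel : M0.relIndex P = 2 := by
    rw [hP, relIndex]
    have h1 := (M0.subgroupOf X.T64).card_mul_index
    rw [Nat.card_congr (subgroupOfEquivOfLe hM0T).toEquiv, hM0c, X.T64_card] at h1
    omega
  obtain ⟨N, hn, hi, hx⟩ := TwoTransfer.exists_index_two P M0 hrel h.e (by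
      show h.e ∈ (P : Subgroup G)
      rw [hP]; exact X.e_T64)
    (fun k g hk _ => by rw [invol_pow_two h.e_sq hk, mul_one, inv_mul_cancel]; exact one_mem _)
    (fun g _ hgM => by
      have hc : IsConj h.e (g⁻¹ * h.e * g) := isConj_iff.2 ⟨g⁻¹, by rw [inv_inv]⟩
      obtain ⟨s, hs, e | e⟩ := hgM
      · exact X.not_e_N1 (X.S0_le_N1 hs) (e ▸ hc)
      · have hm : g⁻¹ * h.e * g ∈ X.M := e ▸ mul_mem (X.N1_le_M (X.S0_le_N1 hs)) X.i_M
        obtain ⟨c, hcM, hc'⟩ := X.e_class hm hc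
        obtain ⟨u, k, hk, rfl⟩ := hcM
        -- `s * i` would lie in the coset of `e`
        have hke : k * h.e * k⁻¹ = h.e := by
          have : Commute k h.e := by
            rcases hk with rfl | rfl | rfl | rfl
            · exact Commute.one_left _
            · exact Commute.refl _
            · exact h.i_e_comm
            · exact (Commute.refl h.e).mul_left h.i_e_comm
          rw [this.eq, mul_inv_cancel_right]
        rw [show X.Th u * k * h.e * (X.Th u * k)⁻¹ = X.Th u * (k * h.e * k⁻¹) * (X.Th u)⁻¹ by group, hke] at hc'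
        obtain ⟨w', hw'⟩ := X.M_norm X.e_M u⁻¹
        have e1 : s * h.i = X.Th (u * w') * h.e := by
          rw [← e, ← hc', map_mul, ← hw', map_inv]; group
        obtain ⟨a, b, -, -, hab⟩ := X.mem_S0.1 hs
        rw [← hab] at e1
        have := (X.pair_inj (Or.inr (Or.inr (Or.inl rfl))) (Or.inr (Or.inl rfl)) e1).2
        have e2 := h.i_z_eq
        rw [this, h.e_z, mul_assoc, h.e_sq, mul_one] at e2
        exact (show zP ≠ inA c5 by decide +kernel) (h.psi_inj e2))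
  exact ⟨N, hn, hi, hx, X.N1_of_index_two (A5_to_small N (by rw [hi]; norm_num) h.f)
    (A5_to_small N (by rw [hi]; norm_num) X.g)⟩

include X in
theorem exists_sub : Nonempty (Sub h) := by
  have : Fact (Nat.Prime 2) := ⟨Nat.prime_two⟩
  obtain ⟨G0, hn, hi2, he, hN1⟩ := X.exists_G0
  obtain ⟨σ, hσ, hσG⟩ : ∃ σ, (σ = h.i ∨ σ = h.e * h.i) ∧ σ ∈ G0 := by
    rcases mem_or_mul hi2 he h.i with hh | hh
    · exact ⟨_, Or.inl rfl, hh⟩
    · exact ⟨_, Or.inr rfl, hh⟩
  obtain ⟨hσ2, hσK, -, -, hσ1, -, -⟩ := X.sg_facts hσ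
  have hσT : σ ∈ X.T64 :=
    ⟨1, by simp [K2L], 1, by simp [K2L], σ, hσK, by rw [← Prod.one_eq_mk, map_one, one_mul]⟩
  have hG0 : Nat.card G0 * 2 = Nat.card G := by rw [← hi2, card_mul_index]
  have h32 : Nat.card (G0.subgroupOf X.T64) * 2 = 64 := by
    rw [card_inf_index_two G0 X.T64 hi2 X.e_T64 he, X.T64_card]
  have hc : Nat.card (X.T64.subgroupOf G0) = 32 := by
    rw [← card_map_of_injective (f := G0.subtype) Subtype.val_injective, subgroupOf_map_subtype, inf_comm,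
      ← subgroupOf_map_subtype, card_map_of_injective Subtype.val_injective]
    omega
  obtain ⟨P', hP'⟩ := sylow_of_card (X.T64.subgroupOf G0) 5 (by rw [hc]; norm_num)
    (fun hd => X.not_128 (by rw [← hG0]; exact Nat.mul_dvd_mul_right (show 64 ∣ Nat.card G0 by simpa using hd) 2))
  have hS0G : X.S0 ≤ G0 := X.S0_le_N1.trans hN1
  have hrel : (X.S0.subgroupOf G0).relIndex P' = 2 := by
    rw [hP', relIndex]
    have hle : X.S0.subgroupOf G0 ≤ X.T64.subgroupOf G0 := fun x hx => X.S0_le_T64 hx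
    have h1 := ((X.S0.subgroupOf G0).subgroupOf (X.T64.subgroupOf G0)).card_mul_index
    rw [Nat.card_congr (subgroupOfEquivOfLe hle).toEquiv, Nat.card_congr (subgroupOfEquivOfLe hS0G).toEquiv,
      X.S0_card, hc] at h1
    omega
  obtain ⟨N, hNn, hNi, hσN⟩ := TwoTransfer.exists_index_two P' (X.S0.subgroupOf G0) hrel ⟨σ, hσG⟩
    (by
      show (⟨σ, hσG⟩ : G0) ∈ (P' : Subgroup G0)
      rw [hP']; exact hσT)
    (fun k g hk _ => by
      rw [invol_pow_two (show (⟨σ, hσG⟩ : G0) * ⟨σ, hσG⟩ = 1 from Subtype.ext hσ2) hk, mul_one, inv_mul_cancel]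
      exact one_mem _)
    (fun g _ hgM => X.sg_not_N1 hσ (X.S0_le_N1 hgM) (isConj_iff.2 ⟨(g : G)⁻¹, by
      rw [inv_inv]; rfl⟩))
  have hsub : X.N1 ≤ N.map G0.subtype := by
    refine X.N1_of_index_two (fun p => ?_) fun p => ?_
    · exact ⟨_, A5_to_small N (by rw [hNi]; norm_num) (h.f.codRestrict G0 fun p => hN1 (X.f_N1 p)) p, rfl⟩
    · exact ⟨_, A5_to_small N (by rw [hNi]; norm_num) (X.g.codRestrict G0 fun p => hN1 (X.g_N1 p)) p, rfl⟩
  exact ⟨{ ex := X, G0 := G0, G0_normal := hn, G0_index := hi2, e_not := he, N1_le := hN1, sg := σ, sg_K4 := hσ,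
           sg_G0 := hσG, N0 := N.map G0.subtype, N0_le := map_subtype_le _,
           N0_conj := fun g hg x hx => by
             obtain ⟨y, hy, rfl⟩ := hx
             exact ⟨_, hNn.conj_mem y hy ⟨g, hg⟩, rfl⟩
           N0_card := by
             rw [card_map_of_injective Subtype.val_injective, show (4 : ℕ) = N.index * 2 by rw [hNi],
               ← mul_assoc, card_mul_index, hG0]
           sg_not := fun hs => by
             obtain ⟨y, hy, e⟩ := hs
             exact hσN ((show y = ⟨σ, hσG⟩ from Subtype.ext e) ▸ hy)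
           N1_le_N0 := hsub }⟩

end Exc

end Cfsg.Agent.S8ThreeLocal
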