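import Cfsg.Agent.S8ThreeLocal.Cases
import Cfsg.Agent.A8ThreeLocal.Klein

/-!
The subgroup of the exceptional configuration.
-/

set_option autoImplicit false
set_option maxRecDepth 20000
set_option synthInstance.maxSize 2000
set_option synthInstance.maxHeartbeats 400000

namespace Cfsg.Agent.S8ThreeLocal

open Equiv Equiv.Perm Subgroup
open Cfsg.Agent.A8ThreeLocal (A5 c5 t5 v5 s5 a1 a2 a3 b1 r3 s3 tau InV1 InV2 tauHom cases_pow_three
  centralizer_card_conj tauHom_sq)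

/-- The four group containing `t5` and `v5`. -/
def K2L : List A5 := [1, t5, v5, t5 * v5]

theorem K2_facts : (∀ a ∈ K2L, ∀ b ∈ K2L, a * b ∈ K2L ∧ a * b = b * a) ∧ (∀ a ∈ K2L, a * a = 1) ∧
    (∀ a ∈ K2L, tauHom a ∈ K2L) ∧ (∀ a : A5, a * t5 = t5 * a → a ∈ K2L) ∧ K2L.Nodup := by decide +kernel

theorem invol_t5 : ∀ p : A5, p * p = 1 → p ≠ 1 → ∃ s : A5, s * t5 * s⁻¹ = p := by decide +kernel

theorem twist_conj : ∀ p : A5, p * tauHom p = 1 → ∃ b : A5, b * tauHom b⁻¹ = p := by decide +kernel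

theorem tau_cube_free : ∀ p : A5, tauHom p = p → p ^ 3 = 1 → ∀ a : A5, tauHom a = a → a * a = 1 → a ≠ 1 →
    p * a = a * p → p = 1 := by decide +kernel

theorem P35_gen : ∀ σ : Perm (Fin 3), ∃ a : Fin 3, ∃ b : Fin 2, σ = r3 ^ (a : ℕ) * s3 ^ (b : ℕ) := by
  decide +kernel

theorem sqrt_t5 : ∃ w : Perm (Fin 5), w * w = (t5 : Perm (Fin 5)) := by decide +kernel

variable {G : Type*} [Group G]

/-- A 2-subgroup of the full 2-part is a Sylow subgroup. -/
theorem sylow_of_card {H : Type*} [Group H] [Finite H] (T : Subgroup H) (k : ℕ) (hT : Nat.card T = 2 ^ k)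
    (hH : ¬ 2 ^ (k + 1) ∣ Nat.card H) : ∃ P : Sylow 2 H, (P : Subgroup H) = T := by
  have : Fact (Nat.Prime 2) := ⟨Nat.prime_two⟩
  obtain ⟨P, hP⟩ := (IsPGroup.of_card (p := 2) (n := k) hT).exists_le_sylow
  refine ⟨P, (eq_of_le_of_card_ge hP ?_).symm⟩
  obtain ⟨n, hn⟩ := IsPGroup.iff_card.1 P.2
  have hnk : n ≤ k := by
    by_contra hlt
    exact hH ((pow_dvd_pow 2 (show k + 1 ≤ n by omega)).trans (hn ▸ card_subgroup_dvd_card _))
  rw [hn, hT]
  exact Nat.pow_le_pow_right (by norm_num) hnk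

/-- The exceptional configuration. -/
structure Exc (h : Hyp G) : Prop where
  hs : h.i * h.t * h.i = h.s
  comm : ∀ p q : A5, Commute (h.f p) (h.i * h.f q * h.i)
  sq : ∀ a ∈ normalizer (h.D : Set G), ∀ b ∈ normalizer (h.D : Set G), a * a ∉ h.D → b * b ∉ h.D →
    (a * a)⁻¹ * (b * b) ∈ h.D

namespace Exc

variable {h : Hyp G} (X : Exc h)

include X in
theorem i_s : h.i * h.s * h.i = h.t := by rw [← X.hs, h.i_i]

/-- The second alternating group. -/
def g (_ : Exc h) : A5 →* G := (MulAut.conj h.i).toMonoidHom.comp h.f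

theorem g_apply (p : A5) : X.g p = h.i * h.f p * h.i := by
  show h.i * h.f p * h.i⁻¹ = _
  rw [h.i_inv]

theorem g_c5 : X.g c5 = h.z := by rw [X.g_apply]; exact h.i_z'
theorem g_t5 : X.g t5 = h.s := by rw [X.g_apply]; exact X.hs
theorem fg (p q : A5) : Commute (h.f p) (X.g q) := by rw [X.g_apply]; exact X.comm p q

theorem g_inj : Function.Injective X.g := (MulAut.conj h.i).injective.comp h.f_inj

/-- The product of the two alternating groups. -/
def Th : A5 × A5 →* G := MonoidHom.noncommCoprod h.f X.g X.fg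

theorem Th_apply (p q : A5) : X.Th (p, q) = h.f p * X.g q := rfl

theorem Th_fst (p : A5) : X.Th (p, 1) = h.f p := by rw [X.Th_apply, map_one, mul_one]
theorem Th_snd (q : A5) : X.Th (1, q) = X.g q := by rw [X.Th_apply, map_one, one_mul]

theorem Th_inj : Function.Injective X.Th := by
  refine (injective_iff_map_eq_one _).2 ?_
  rintro ⟨p, q⟩ hpq
  rw [X.Th_apply] at hpq
  have hp : h.f p = (X.g q)⁻¹ := eq_inv_of_mul_eq_one_left hpq
  have hc : ∀ r, p * r = r * p := fun r => h.f_inj (by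
    rw [map_mul h.f p r, map_mul h.f r p, hp]; exact ((X.fg r q).symm.inv_left).eq)
  have hp1 : p = 1 := center_A5 p (hc _) (hc _) (hc _)
  subst hp1
  rw [map_one, one_mul, ← map_one X.g] at hpq
  rw [X.g_inj hpq]
  rfl

theorem i_Th (p q : A5) : h.i * X.Th (p, q) * h.i = X.Th (q, p) := by
  rw [X.Th_apply, X.Th_apply, h.i_mul, ← X.g_apply, X.g_apply q, h.i_i, (X.fg q p).eq]

theorem e_g (q : A5) : h.e * X.g q * h.e = X.g (tauHom q) := by
  rw [X.g_apply, X.g_apply, ← h.e_f]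
  calc h.e * (h.i * h.f q * h.i) * h.e = h.i * h.e * h.i * (h.i * h.f q * h.i) * (h.i * h.e * h.i) := by
        rw [h.i_e_eq]
    _ = _ := by rw [← h.i_mul, ← h.i_mul]

theorem e_Th (p q : A5) : h.e * X.Th (p, q) * h.e = X.Th (tauHom p, tauHom q) := by
  rw [X.Th_apply, X.Th_apply, ← h.e_f, ← X.e_g,
    show h.e * h.f p * h.e * (h.e * X.g q * h.e) = h.e * h.f p * (h.e * h.e) * X.g q * h.e by group, h.e_sq]
  group

/-- The product `f A5 × g A5`. -/
def N1 : Subgroup G := X.Th.range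

theorem mem_N1 (w : A5 × A5) : X.Th w ∈ X.N1 := ⟨w, rfl⟩
theorem f_N1 (p : A5) : h.f p ∈ X.N1 := X.Th_fst p ▸ X.mem_N1 _
theorem g_N1 (p : A5) : X.g p ∈ X.N1 := X.Th_snd p ▸ X.mem_N1 _

/-- The four group generated by `e` and `i`. -/
def K4 (_ : Exc h) : Subgroup G where
  carrier := {x | x = 1 ∨ x = h.e ∨ x = h.i ∨ x = h.e * h.i}
  one_mem' := Or.inl rfl
  mul_mem' := by
    have e2 : ∀ x, h.e * (h.e * x) = x := fun x => by rw [← mul_assoc, h.e_sq, one_mul]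
    have i2 : ∀ x, h.i * (h.i * x) = x := fun x => by rw [← mul_assoc, h.i_sq, one_mul]
    have ie : h.i * h.e = h.e * h.i := h.i_e_comm
    have ie' : ∀ x, h.i * (h.e * x) = h.e * (h.i * x) := fun x => by rw [← mul_assoc, ie, mul_assoc]
    rintro a b (rfl | rfl | rfl | rfl) (rfl | rfl | rfl | rfl) <;>
      simp [mul_assoc, h.e_sq, h.i_sq, e2, i2, ie, ie']
  inv_mem' := by
    rintro a (rfl | rfl | rfl | rfl)
    · exact Or.inl inv_one
    · exact Or.inr (Or.inl h.e_inv)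
    · exact Or.inr (Or.inr (Or.inl h.i_inv))
    · refine Or.inr (Or.inr (Or.inr ?_))
      rw [mul_inv_rev, h.i_inv, h.e_inv, h.i_e_comm]

theorem K4_conj {k : G} (hk : k ∈ X.K4) (w : A5 × A5) : ∃ w', k * X.Th w * k⁻¹ = X.Th w' := by
  obtain ⟨p, q⟩ := w
  rcases hk with rfl | rfl | rfl | rfl
  · exact ⟨(p, q), by simp⟩
  · exact ⟨_, by rw [h.e_inv]; exact X.e_Th p q⟩
  · exact ⟨_, by rw [h.i_inv]; exact X.i_Th p q⟩
  · refine ⟨(tauHom q, tauHom p), ?_⟩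
    rw [mul_inv_rev, h.i_inv, h.e_inv]
    calc h.e * h.i * X.Th (p, q) * (h.i * h.e) = h.e * (h.i * X.Th (p, q) * h.i) * h.e := by group
      _ = _ := by rw [X.i_Th, X.e_Th]

/-- The subgroup of index four over the product. -/
def M : Subgroup G where
  carrier := {x | ∃ w, ∃ k ∈ X.K4, x = X.Th w * k}
  one_mem' := ⟨1, 1, one_mem _, by rw [map_one, one_mul]⟩
  mul_mem' := by
    rintro a b ⟨w, k, hk, rfl⟩ ⟨w', k', hk', rfl⟩
    obtain ⟨u, hu⟩ := X.K4_conj hk w'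
    refine ⟨w * u, k * k', mul_mem hk hk', ?_⟩
    rw [map_mul, ← hu]
    group
  inv_mem' := by
    rintro a ⟨w, k, hk, rfl⟩
    obtain ⟨u, hu⟩ := X.K4_conj (inv_mem hk) w⁻¹
    refine ⟨u, k⁻¹, inv_mem hk, ?_⟩
    rw [← hu, map_inv]
    group

theorem mem_M {x : G} : x ∈ X.M ↔ ∃ w, ∃ k ∈ X.K4, x = X.Th w * k := Iff.rfl

theorem N1_le_M : X.N1 ≤ X.M := by rintro _ ⟨w, rfl⟩; exact ⟨w, 1, one_mem _, (mul_one _).symm⟩

theorem K4_le_M : X.K4 ≤ X.M := fun k hk => ⟨1, k, hk, by rw [map_one, one_mul]⟩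

theorem e_M : h.e ∈ X.M := X.K4_le_M (Or.inr (Or.inl rfl))
theorem i_M : h.i ∈ X.M := X.K4_le_M (Or.inr (Or.inr (Or.inl rfl)))

theorem M_norm {m : G} (hm : m ∈ X.M) (w : A5 × A5) : ∃ w', m * X.Th w * m⁻¹ = X.Th w' := by
  obtain ⟨u, k, hk, rfl⟩ := hm
  obtain ⟨w', hw'⟩ := X.K4_conj hk w
  refine ⟨u * w' * u⁻¹, ?_⟩
  rw [map_mul, map_mul, map_inv, ← hw']
  group

theorem sq_N1 {m : G} (hm : m ∈ X.M) : m * m ∈ X.N1 := by
  obtain ⟨u, k, hk, rfl⟩ := hm
  obtain ⟨u', hu⟩ := X.K4_conj hk u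
  have hk2 : k * k = 1 := by
    rcases hk with rfl | rfl | rfl | rfl
    · simp
    · exact h.e_sq
    · exact h.i_sq
    · rw [show h.e * h.i * (h.e * h.i) = h.e * (h.i * h.e) * h.i by group, h.i_e_comm, ← mul_assoc, h.e_sq, one_mul, h.i_sq]
  refine ⟨u * u', ?_⟩
  rw [map_mul, ← hu, show X.Th u * k * (X.Th u * k) = X.Th u * (k * X.Th u * k⁻¹) * (k * k) by group, hk2, mul_one]

theorem mem_N1_of_cube {m : G} (hm : m ∈ X.M) (h3 : m ^ 3 = 1) : m ∈ X.N1 := by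
  rw [show m = (m * m) * (m * m) by
    calc m = m ^ 3 * m := by rw [h3, one_mul]
      _ = _ := by rw [pow_succ, pow_two]; group]
  exact mul_mem (X.sq_N1 hm) (X.sq_N1 hm)

theorem r_M (p : Perm (Fin 5)) : h.r p ∈ X.M := by
  rcases Int.units_eq_one_or (sign p) with e | e
  · exact X.N1_le_M (X.f_N1 ⟨p, mem_alternatingGroup.2 e⟩)
  · have := mul_mem (X.N1_le_M (X.f_N1 ⟨p * tau, mem_alternatingGroup.2 (by
      rw [map_mul, e, show sign tau = -1 by decide +kernel]; decide)⟩)) X.e_M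
    rwa [h.f_apply, h.e_r, ← map_mul, mul_assoc, A8ThreeLocal.tau_sq, mul_one] at this

theorem psi_M (k : P35) : h.psi k ∈ X.M := by
  obtain ⟨a, b, hσ⟩ := P35_gen k.1
  have e : k = zP ^ (a : ℕ) * sP ^ (b : ℕ) * inR k.2 := Prod.ext (by simp [zP, sP, inR, hσ]) (by simp [zP, sP, inR])
  rw [e, map_mul, map_mul, map_pow, map_pow]
  have hz : h.z ∈ X.N1 := by rw [← X.g_c5]; exact X.g_N1 c5
  have hs : h.s ∈ X.N1 := by rw [← X.g_t5]; exact X.g_N1 t5
  exact mul_mem (mul_mem (pow_mem (X.N1_le_M hz) _)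
    (pow_mem (X.N1_le_M hs) _)) (X.r_M _)

variable [Finite G]

include X in
theorem C_eq : h.C = normalizer (h.D : Set G) := h.s_norm X.hs

theorem C_le_M : h.C ≤ X.M := by
  rw [X.C_eq]
  intro n hn
  obtain ⟨a, b, hab⟩ := h.mem_D ((Subgroup.mem_normalizer_iff.1 hn h.z).1 h.z_mem)
  have hpos : a = 0 ∨ b = 0 := by
    by_contra hne
    push Not at hne
    have h36 := (h.mixed_cent hne.1 hne.2).1
    rw [← hab, centralizer_card_conj] at h36
    exact absurd (h.card_cz.symm.trans h36) (by norm_num)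
  rw [h.dd_eq] at hab
  rcases hpos with rfl | rfl
  · simp only [Fin.val_zero, pow_zero, one_mul] at hab
    have hr : h.i * n ∈ h.psi.range := by
      refine h.norm_z _ ?_
      show h.i * n * h.z * (h.i * n)⁻¹ = h.z ∨ h.i * n * h.z * (h.i * n)⁻¹ = h.z⁻¹
      rw [mul_inv_rev, h.i_inv, show h.i * n * h.z * (n⁻¹ * h.i) = h.i * (n * h.z * n⁻¹) * h.i by group, hab]
      fin_cases b
      · exact absurd (conj_eq_one_iff.1 (hab.trans (pow_zero _))) h.z_ne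
      · exact Or.inl (by rw [pow_one, h.i_z'])
      · refine Or.inr ?_
        show h.i * h.z' ^ 2 * h.i = h.z⁻¹
        rw [pow_two, h.i_mul, h.i_z']
        exact eq_inv_of_mul_eq_one_left (by rw [← pow_two, ← pow_succ, h.z_cube])
    obtain ⟨k, hk⟩ := hr
    exact (X.M.mul_mem_cancel_left X.i_M).1 (hk ▸ X.psi_M k)
  · simp only [Fin.val_zero, pow_zero, mul_one] at hab
    have hr : n ∈ h.psi.range := by
      refine h.norm_z _ ?_
      show n * h.z * n⁻¹ = h.z ∨ n * h.z * n⁻¹ = h.z⁻¹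
      rw [hab]
      fin_cases a
      · exact absurd (conj_eq_one_iff.1 (hab.trans (pow_zero _))) h.z_ne
      · exact Or.inl (pow_one _)
      · exact Or.inr (eq_inv_of_mul_eq_one_left (by rw [← pow_succ, h.z_cube]))
    obtain ⟨k, hk⟩ := hr
    exact hk ▸ X.psi_M k

/-- The involution `t s`. -/
def II (_ : Exc h) : G := h.t * h.s

theorem II_eq : X.II = X.Th (t5, t5) := by rw [X.Th_apply, X.g_t5]; rfl

theorem zz'_ne (_ : Exc h) : h.z * h.z' ≠ 1 := fun e => by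
  rw [Hyp.z, Hyp.z', Hyp.f, MonoidHom.comp_apply, ← map_mul, ← map_one h.psi] at e
  exact P35_facts.2.2.2.2.2.2.1 (h.psi_inj e)

include X in
theorem zz'_comm : h.i * (h.z * h.z') = h.z * h.z' * h.i ∧ h.e * h.i * (h.z * h.z') = h.z * h.z' * (h.e * h.i) := by
  have he : Commute h.e (h.z * h.z') := (show Commute h.e h.z from h.e_z).mul_right h.e_z'
  have hi : Commute h.i (h.z * h.z') := by
    have e : h.i * (h.z * h.z') * h.i = h.z * h.z' := by
      rw [h.i_mul, h.i_z_eq, h.i_z']; exact h.D_comm _ h.z'_mem _ h.z_mem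
    calc h.i * (h.z * h.z') = h.i * (h.z * h.z') * h.i * h.i := by rw [mul_assoc _ h.i, h.i_sq, mul_one]
      _ = _ := by rw [e]
  exact ⟨hi.eq, (he.mul_left hi).eq⟩

include X in
theorem not_e_i : ¬ IsConj h.e h.i := fun hc => by
  have e := h.conj_e_cent_y hc X.zz'_comm.1
  have e1 := h.i_z_eq
  rw [e, h.e_z, mul_assoc, h.e_sq, mul_one] at e1
  exact (show zP ≠ inA c5 by decide +kernel) (h.psi_inj e1)

include X in
theorem not_e_ei : ¬ IsConj h.e (h.e * h.i) := fun hc =>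
  h.i_ne (mul_eq_left.1 (h.conj_e_cent_y hc X.zz'_comm.2))

include X in
theorem not_t_cent_y {m : G} (hm : m * (h.z * h.z') = h.z * h.z' * m) : ¬ IsConj h.t m := by
  intro hc
  have : Fact (Nat.Prime 3) := ⟨Nat.prime_three⟩
  obtain ⟨k, hk⟩ := isConj_iff.1 hc
  set C := centralizer ({h.t} : Set G)
  have hzC : h.z ∈ C := mem_centralizer_singleton_iff.2 (h.z_f t5)
  set y := h.z * h.z' with hy
  have hyC : k⁻¹ * y * k ∈ C := by
    rw [mem_centralizer_singleton_iff, show h.t = k⁻¹ * m * k by rw [← hk]; group]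
    calc k⁻¹ * y * k * (k⁻¹ * m * k) = k⁻¹ * (y * m) * k := by group
      _ = k⁻¹ * (m * y) * k := by rw [hm]
      _ = _ := by group
  have hyo : orderOf (k⁻¹ * y * k) = 3 := orderOf_eq_prime
    (by
      have := conj_pow (i := 3) (a := k⁻¹) (b := y)
      rw [inv_inv] at this
      rw [this, h.D_cube (mul_mem h.z_mem h.z'_mem : y ∈ h.D)]
      group)
    (fun e => X.zz'_ne (by
      have e' := congrArg (fun x => k * x * k⁻¹) e
      simpa [mul_assoc] using e'))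
  have hsyl : ∀ c : C, orderOf c = 3 → ∃ S : Sylow 3 C, (S : Subgroup C) = zpowers c := by
    intro c hc
    obtain ⟨S, hS⟩ := (IsPGroup.of_card (p := 3) (n := 1) (G := zpowers c)
      (by rw [Nat.card_zpowers, hc, pow_one])).exists_le_sylow
    refine ⟨S, (eq_of_le_of_card_ge hS ?_).symm⟩
    obtain ⟨n, hn⟩ := IsPGroup.iff_card.1 S.2
    rw [Nat.card_zpowers, hc, hn]
    rcases Nat.lt_or_ge n 2 with hlt | hge
    · exact Nat.pow_le_pow_right (by norm_num : 0 < 3) (show n ≤ 1 by omega)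
    · exact absurd (((pow_dvd_pow 3 hge).trans (hn ▸ card_subgroup_dvd_card (S : Subgroup C)))) (by simpa using h.nine_not_dvd_t)
  obtain ⟨S1, hS1⟩ := hsyl ⟨h.z, hzC⟩ (by rw [orderOf_mk]; exact h.order_z)
  obtain ⟨S2, hS2⟩ := hsyl ⟨_, hyC⟩ (by rw [orderOf_mk]; exact hyo)
  obtain ⟨c, hc'⟩ := MulAction.exists_smul_eq C S1 S2
  have hmem : c * ⟨h.z, hzC⟩ * c⁻¹ ∈ (S2 : Subgroup C) := by
    rw [← hc']; exact ⟨⟨h.z, hzC⟩, hS1 ▸ mem_zpowers _, rfl⟩
  rw [hS2] at hmem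
  have hv : (c : G) * h.z * (c : G)⁻¹ ∈ zpowers (k⁻¹ * y * k) := by
    obtain ⟨n, hn⟩ := mem_zpowers_iff.1 hmem
    exact mem_zpowers_iff.2 ⟨n, by simpa using congrArg Subtype.val hn⟩
  have hcz : Nat.card (centralizer ({(c : G) * h.z * (c : G)⁻¹} : Set G)) = 360 := by
    rw [centralizer_card_conj]; exact h.card_cz
  have hcy : Nat.card (centralizer ({k⁻¹ * y * k} : Set G)) = 36 := by
    have := centralizer_card_conj k⁻¹ y
    rw [inv_inv] at this
    rw [this, hy]; exact h.cent_y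
  have hinv : centralizer ({(k⁻¹ * y * k)⁻¹} : Set G) = centralizer ({k⁻¹ * y * k} : Set G) := by
    ext g
    simp only [mem_centralizer_singleton_iff]
    exact ⟨fun e => Commute.inv_right_iff.1 e, fun e => Commute.inv_right e⟩
  rcases cases_pow_three (by rw [← hyo, pow_orderOf_eq_one]) hv with e | e | e
  · exact h.z_ne (conj_eq_one_iff.1 e)
  · rw [e, hcy] at hcz; omega
  · rw [e, hinv, hcy] at hcz; omega

include X in
theorem t_conj_s : IsConj h.t h.s := isConj_iff.2 ⟨h.i, by rw [h.i_inv]; exact X.hs⟩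

theorem not_e_II : ¬ IsConj h.e X.II := by
  intro hc
  obtain ⟨g, hg⟩ := isConj_iff.1 hc
  obtain ⟨w0, hw0⟩ := sqrt_t5
  set w := h.r w0
  have hw : w * w = h.t := by rw [← map_mul, hw0]; rfl
  have hws : Commute w h.s := (h.s_r w0).symm
  have hwt : Commute w h.t := by rw [← hw]; exact (Commute.refl w).mul_right (Commute.refl w)
  set w' := h.i * w * h.i
  have hw' : w' * w' = h.s := by rw [← h.i_mul, hw, X.hs]
  have hwI : Commute w X.II := hwt.mul_right hws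
  have hw'I : Commute w' X.II := by
    have e : h.i * X.II * h.i = X.II := by
      rw [II, h.i_mul, X.hs, X.i_s]; exact h.s_f t5
    show w' * X.II = X.II * w'
    rw [← e, ← h.i_mul, ← h.i_mul, hwI.eq]
  have hN : ∀ x : G, Commute x X.II → g⁻¹ * x * g ∈ normalizer (h.D : Set G) := by
    intro x hx
    rw [← X.C_eq, h.mem_C]
    calc g⁻¹ * x * g * h.e = g⁻¹ * (x * (g * h.e * g⁻¹)) * g := by group
      _ = g⁻¹ * (g * h.e * g⁻¹ * x) * g := by rw [hg, hx.eq]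
      _ = _ := by group
  have hsq : ∀ x : G, g⁻¹ * x * g * (g⁻¹ * x * g) = g⁻¹ * (x * x) * g := fun x => by group
  have hnD : ∀ x : G, x * x = 1 → x ≠ 1 → g⁻¹ * x * g ∉ h.D := by
    intro x h2 h1 hx
    have h3 := h.D_cube hx
    rw [pow_succ, pow_two, hsq, h2, mul_one, inv_mul_cancel, one_mul] at h3
    refine h1 ?_
    calc x = g * (g⁻¹ * x * g) * g⁻¹ := by group
      _ = 1 := by rw [h3]; group
  have ht1 : h.t ≠ 1 := fun e => (show t5 ≠ 1 by decide +kernel) (h.f_inj (e.trans (map_one _).symm))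
  have hs1 : h.s ≠ 1 := fun e => (show sP ≠ 1 by decide +kernel) (h.psi_inj (e.trans (map_one _).symm))
  have hd := X.sq _ (hN w hwI) _ (hN w' hw'I) (by rw [hsq, hw]; exact hnD _ h.t_sq ht1)
    (by rw [hsq, hw']; exact hnD _ h.s_sq hs1)
  rw [hsq, hsq, hw, hw'] at hd
  have e2 : (g⁻¹ * h.t * g)⁻¹ * (g⁻¹ * h.s * g) = h.e := by
    calc (g⁻¹ * h.t * g)⁻¹ * (g⁻¹ * h.s * g) = g⁻¹ * (h.t⁻¹ * h.s) * g := by group
      _ = g⁻¹ * X.II * g := by rw [inv_eq_of_mul_eq_one_right h.t_sq]; rfl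
      _ = h.e := by rw [← hg]; group
  rw [e2] at hd
  have h3 := h.D_cube hd
  rw [pow_succ, pow_two, h.e_sq, one_mul] at h3
  exact h.e_ne h3

/-- The classes of involutions. -/
theorem M_invol {m : G} (hm : m ∈ X.M) (h2 : m * m = 1) (h1 : m ≠ 1) :
    (∃ c ∈ X.N1, c * h.t * c⁻¹ = m ∨ c * h.s * c⁻¹ = m ∨ c * X.II * c⁻¹ = m ∨ c * h.e * c⁻¹ = m ∨
      c * h.i * c⁻¹ = m ∨ c * (h.e * h.i) * c⁻¹ = m) := by
  obtain ⟨⟨p, q⟩, k, hk, rfl⟩ := hm
  have hsplit : ∀ a b : A5, X.Th (a, b) = 1 → a = 1 ∧ b = 1 := fun a b hab =>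
    Prod.ext_iff.1 (X.Th_inj (hab.trans (map_one _).symm))
  rcases hk with rfl | rfl | rfl | rfl
  · rw [mul_one, ← map_mul, Prod.mk_mul_mk] at h2
    obtain ⟨hp, hq⟩ := hsplit _ _ h2
    rw [mul_one] at h1 ⊢
    by_cases hp1 : p = 1
    · subst hp1
      have hq1 : q ≠ 1 := fun e => h1 (by rw [e, ← Prod.one_eq_mk, map_one])
      obtain ⟨b, hb⟩ := invol_t5 q hq hq1
      refine ⟨_, X.g_N1 b, Or.inr (Or.inl ?_)⟩
      rw [← X.g_t5, ← map_inv, ← map_mul, ← map_mul, hb, X.Th_snd]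
    obtain ⟨a, ha⟩ := invol_t5 p hp hp1
    by_cases hq1 : q = 1
    · subst hq1
      refine ⟨_, X.f_N1 a, Or.inl ?_⟩
      rw [Hyp.t, ← map_inv, ← map_mul, ← map_mul, ha, X.Th_fst]
    obtain ⟨b, hb⟩ := invol_t5 q hq hq1
    refine ⟨_, X.mem_N1 (a, b), Or.inr (Or.inr (Or.inl ?_))⟩
    rw [X.II_eq, ← map_inv, ← map_mul, ← map_mul, Prod.inv_mk, Prod.mk_mul_mk, Prod.mk_mul_mk, ha, hb]
  · rw [mul_assoc, ← mul_assoc h.e, X.e_Th, ← map_mul, Prod.mk_mul_mk] at h2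
    obtain ⟨hp, hq⟩ := hsplit _ _ h2
    obtain ⟨a, ha⟩ := twist_conj p hp
    obtain ⟨b, hb⟩ := twist_conj q hq
    refine ⟨_, X.mem_N1 (a, b), Or.inr (Or.inr (Or.inr (Or.inl ?_)))⟩
    rw [← map_inv, Prod.inv_mk, ← ha, ← hb, ← Prod.mk_mul_mk, map_mul, ← X.e_Th,
      show X.Th (a, b) * (h.e * X.Th (a⁻¹, b⁻¹) * h.e) * h.e = X.Th (a, b) * h.e * X.Th (a⁻¹, b⁻¹) * (h.e * h.e) by group,
      h.e_sq, mul_one]
  · rw [mul_assoc, ← mul_assoc h.i, X.i_Th, ← map_mul, Prod.mk_mul_mk] at h2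
    obtain ⟨hp, -⟩ := hsplit _ _ h2
    refine ⟨_, X.f_N1 p, Or.inr (Or.inr (Or.inr (Or.inr (Or.inl ?_))))⟩
    rw [← X.Th_fst, ← map_inv, Prod.inv_mk, inv_one,
      show (p, q) = (p, 1) * ((1 : A5), p⁻¹) by rw [Prod.mk_mul_mk, mul_one, one_mul, inv_eq_of_mul_eq_one_right hp],
      map_mul, ← X.i_Th p⁻¹ 1,
      show X.Th (p, 1) * (h.i * X.Th (p⁻¹, 1) * h.i) * h.i = X.Th (p, 1) * h.i * X.Th (p⁻¹, 1) * (h.i * h.i) by group,
      h.i_sq, mul_one]
  · have e : X.Th (p, q) * (h.e * h.i) * (X.Th (p, q) * (h.e * h.i)) =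
        X.Th (p, q) * (h.e * (h.i * X.Th (p, q) * h.i) * h.e) := by
      calc X.Th (p, q) * (h.e * h.i) * (X.Th (p, q) * (h.e * h.i))
          = X.Th (p, q) * (h.e * h.i * X.Th (p, q) * (h.e * h.i)) := by group
        _ = X.Th (p, q) * (h.e * h.i * X.Th (p, q) * (h.i * h.e)) := by rw [h.i_e_comm]
        _ = _ := by group
    rw [e, X.i_Th, X.e_Th, ← map_mul, Prod.mk_mul_mk] at h2
    obtain ⟨hp, -⟩ := hsplit _ _ h2
    have hq : q = tauHom p⁻¹ := by
      rw [show p⁻¹ = tauHom q from inv_eq_of_mul_eq_one_right hp, tauHom_sq]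
    refine ⟨_, X.f_N1 p, Or.inr (Or.inr (Or.inr (Or.inr (Or.inr ?_))))⟩
    rw [← X.Th_fst, ← map_inv, Prod.inv_mk, inv_one,
      show (p, q) = (p, 1) * ((1 : A5), tauHom p⁻¹) by rw [Prod.mk_mul_mk, mul_one, one_mul, hq],
      map_mul, ← map_one tauHom, ← X.e_Th, ← X.i_Th p⁻¹ 1, map_one tauHom]
    rw [show X.Th (p, 1) * (h.e * (h.i * X.Th (p⁻¹, 1) * h.i) * h.e) * (h.e * h.i) =
      X.Th (p, 1) * (h.e * h.i) * X.Th (p⁻¹, 1) * (h.i * (h.e * h.e) * h.i) by group, h.e_sq, mul_one, h.i_sq, mul_one]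

/-- An involution of `M` conjugate to `e` in `G` is conjugate to it in `M`. -/
theorem e_class {m : G} (hm : m ∈ X.M) (hc : IsConj h.e m) : ∃ c ∈ X.M, c * h.e * c⁻¹ = m := by
  have h2 : m * m = 1 := by
    obtain ⟨g, rfl⟩ := isConj_iff.1 hc
    calc g * h.e * g⁻¹ * (g * h.e * g⁻¹) = g * (h.e * h.e) * g⁻¹ := by group
      _ = 1 := by rw [h.e_sq]; group
  have h1 : m ≠ 1 := fun e => h.e_ne (isConj_one_left.1 (e ▸ hc))
  have key : ∀ {a c : G}, c * a * c⁻¹ = m → IsConj h.e a := fun hca =>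
    hc.trans (isConj_iff.2 ⟨_, hca⟩).symm
  obtain ⟨c, hcN, e | e | e | e | e | e⟩ := X.M_invol hm h2 h1
  · exact absurd (key e) h.e_not_conj_t
  · exact absurd ((key e).trans X.t_conj_s.symm) h.e_not_conj_t
  · exact absurd (key e) X.not_e_II
  · exact ⟨c, X.N1_le_M hcN, e⟩
  · exact absurd (key e) X.not_e_i
  · exact absurd (key e) X.not_e_ei

end Exc

end Cfsg.Agent.S8ThreeLocal
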