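import Cfsg.Agent.S8ThreeLocal.ExcModel

/-!
A Sylow 2-subgroup in the exceptional configuration.
-/

set_option autoImplicit false
set_option maxRecDepth 20000
set_option synthInstance.maxSize 2000
set_option synthInstance.maxHeartbeats 400000

namespace Cfsg.Agent.S8ThreeLocal

open Equiv Equiv.Perm Subgroup
open Cfsg.Agent.A8ThreeLocal (A5 c5 t5 v5 s5 a1 a2 a3 b1 r3 s3 tau InV1 InV2 tauHom cases_pow_three
  centralizer_card_conj tauHom_sq)

theorem tau_outer : ∀ p : A5, p * c5 * p⁻¹ = tauHom c5 → p * a1 * p⁻¹ = tauHom a1 → p * t5 * p⁻¹ = tauHom t5 →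
    False := by decide +kernel

theorem A5_to_small {H : Type*} [Group H] [Finite H] (N : Subgroup H) [N.Normal] (hN : N.index < 60)
    (φ : A5 →* H) (p : A5) : φ p ∈ N := by
  let Λ : A5 →* H ⧸ N := (QuotientGroup.mk' N).comp φ
  have : IsSimpleGroup A5 := alternatingGroup.isSimpleGroup (by simp)
  rcases (MonoidHom.normal_ker Λ).eq_bot_or_eq_top with hk | hk
  · have := Nat.card_le_card_of_injective Λ ((MonoidHom.ker_eq_bot_iff Λ).1 hk)
    rw [← index_eq_card, SelfCentThree.card_alt_five] at this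
    omega
  · exact (QuotientGroup.eq_one_iff _).1 (MonoidHom.mem_ker.1 (hk ▸ mem_top p : p ∈ Λ.ker))

/-- The four group `{1, t5, v5, t5 v5}`. -/
def KK2 : Subgroup A5 where
  carrier := {a | a ∈ K2L}
  one_mem' := by show (1 : A5) ∈ K2L; simp [K2L]
  mul_mem' {a b} ha hb := (K2_facts.1 a ha b hb).1
  inv_mem' {a} ha := by
    show a⁻¹ ∈ K2L
    rw [inv_eq_of_mul_eq_one_right (K2_facts.2.1 a ha)]; exact ha

theorem card_KK2 : Nat.card KK2 = 4 := by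
  have e : Nat.card KK2 = K2L.toFinset.card := Nat.subtype_card _ (fun x => List.mem_toFinset)
  rw [e, List.toFinset_card_of_nodup K2_facts.2.2.2.2]
  rfl

variable {G : Type*} [Group G] [Finite G]

namespace Exc

variable {h : Hyp G} (X : Exc h)

/-- The elementary abelian group of order sixteen. -/
def S0 : Subgroup G := (KK2.prod KK2).map X.Th

theorem mem_S0 {x : G} : x ∈ X.S0 ↔ ∃ a b : A5, a ∈ K2L ∧ b ∈ K2L ∧ X.Th (a, b) = x := by
  constructor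
  · rintro ⟨⟨a, b⟩, hab, rfl⟩
    exact ⟨a, b, (mem_prod.1 hab).1, (mem_prod.1 hab).2, rfl⟩
  · rintro ⟨a, b, ha, hb, rfl⟩
    exact ⟨(a, b), mem_prod.2 ⟨ha, hb⟩, rfl⟩

theorem S0_le_N1 : X.S0 ≤ X.N1 := by rintro _ ⟨w, -, rfl⟩; exact X.mem_N1 w

theorem S0_card : Nat.card X.S0 = 16 := by
  rw [S0, card_map_of_injective X.Th_inj, Nat.card_congr (KK2.prodEquiv KK2).toEquiv, Nat.card_prod, card_KK2]

theorem S0_comm : ∀ a ∈ X.S0, ∀ b ∈ X.S0, a * b = b * a := by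
  intro a ha b hb
  obtain ⟨p, q, hp, hq, rfl⟩ := X.mem_S0.1 ha
  obtain ⟨p', q', hp', hq', rfl⟩ := X.mem_S0.1 hb
  rw [← map_mul, ← map_mul, Prod.mk_mul_mk, Prod.mk_mul_mk, (K2_facts.1 p hp p' hp').2, (K2_facts.1 q hq q' hq').2]

theorem N1_not {k : G} (hk : k ∈ X.K4) (hN : k ∈ X.N1) : k = 1 := by
  have hc5 : c5 ≠ 1 := by decide +kernel
  have swap_case : ∀ x : G, (∀ p, x * h.f p * x⁻¹ = X.g (tauHom p)) ∨ (∀ p, x * h.f p * x⁻¹ = X.g p) →
      x ∉ X.N1 := by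
    rintro x hx ⟨⟨p, q⟩, rfl⟩
    obtain ⟨c, hc⟩ : ∃ c, X.Th (p, q) * h.f c5 * (X.Th (p, q))⁻¹ = X.g c := hx.elim (fun e => ⟨_, e c5⟩) fun e => ⟨_, e c5⟩
    rw [← X.Th_fst, ← X.Th_snd, ← map_inv, ← map_mul, ← map_mul, Prod.inv_mk, Prod.mk_mul_mk, Prod.mk_mul_mk] at hc
    exact hc5 (conj_eq_one_iff.1 (congrArg Prod.fst (X.Th_inj hc)))
  rcases hk with rfl | rfl | rfl | rfl
  · rfl
  · exfalso
    obtain ⟨⟨p, q⟩, hw⟩ := hN
    have key : ∀ x : A5, p * x * p⁻¹ = tauHom x := fun x => by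
      have e : X.Th (p, q) * h.f x * (X.Th (p, q))⁻¹ = h.f (tauHom x) := by rw [hw, h.e_inv, h.e_f]
      rw [← X.Th_fst, ← X.Th_fst, ← map_inv, ← map_mul, ← map_mul, Prod.inv_mk, Prod.mk_mul_mk, Prod.mk_mul_mk] at e
      exact congrArg Prod.fst (X.Th_inj e)
    exact tau_outer p (key _) (key _) (key _)
  · refine absurd hN (swap_case _ (Or.inr fun p => ?_))
    rw [X.g_apply, h.i_inv]
  · refine absurd hN (swap_case _ (Or.inl fun p => ?_))
    rw [mul_inv_rev, h.i_inv, h.e_inv, show h.e * h.i * h.f p * (h.i * h.e) = h.e * (h.i * h.f p * h.i) * h.e by group,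
      ← X.g_apply, X.e_g]

theorem K4_card : Nat.card X.K4 = 4 := by
  have hne : h.e ≠ h.i := fun e => by
    have e1 := h.i_z_eq
    rw [← e, h.e_z, mul_assoc, h.e_sq, mul_one] at e1
    exact (show zP ≠ inA c5 by decide +kernel) (h.psi_inj e1)
  have hei : h.e * h.i ≠ 1 := fun e => hne ((mul_eq_one_iff_eq_inv.1 e).trans h.i_inv)
  let F : Fin 4 → X.K4 := ![⟨1, Or.inl rfl⟩, ⟨h.e, Or.inr (Or.inl rfl)⟩, ⟨h.i, Or.inr (Or.inr (Or.inl rfl))⟩,
    ⟨h.e * h.i, Or.inr (Or.inr (Or.inr rfl))⟩]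
  have hF : Function.Bijective F := by
    refine ⟨?_, ?_⟩
    · intro a b e
      fin_cases a <;> fin_cases b <;>
        simp [F, Subtype.ext_iff, h.e_ne, h.e_ne.symm, h.i_ne, h.i_ne.symm, hne, hne.symm, hei, hei.symm] at e ⊢
    · rintro ⟨x, rfl | rfl | rfl | rfl⟩
      · exact ⟨0, rfl⟩
      · exact ⟨1, rfl⟩
      · exact ⟨2, rfl⟩
      · exact ⟨3, rfl⟩
  rw [← Nat.card_eq_of_bijective F hF, Nat.card_fin]

/-- The group of order sixty-four. -/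
def T64 : Subgroup G where
  carrier := {x | ∃ a ∈ K2L, ∃ b ∈ K2L, ∃ k ∈ X.K4, x = X.Th (a, b) * k}
  one_mem' := ⟨1, by simp [K2L], 1, by simp [K2L], 1, one_mem _, by rw [← Prod.one_eq_mk, map_one, one_mul]⟩
  mul_mem' := by
    rintro x y ⟨a, ha, b, hb, k, hk, rfl⟩ ⟨a', ha', b', hb', k', hk', rfl⟩
    obtain ⟨a'', ha'', b'', hb'', e⟩ : ∃ a'' ∈ K2L, ∃ b'' ∈ K2L, k * X.Th (a', b') * k⁻¹ = X.Th (a'', b'') := by
      rcases hk with rfl | rfl | rfl | rfl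
      · exact ⟨a', ha', b', hb', by simp⟩
      · exact ⟨_, K2_facts.2.2.1 a' ha', _, K2_facts.2.2.1 b' hb', by rw [h.e_inv]; exact X.e_Th a' b'⟩
      · exact ⟨b', hb', a', ha', by rw [h.i_inv]; exact X.i_Th a' b'⟩
      · refine ⟨_, K2_facts.2.2.1 b' hb', _, K2_facts.2.2.1 a' ha', ?_⟩
        rw [mul_inv_rev, h.i_inv, h.e_inv]
        calc h.e * h.i * X.Th (a', b') * (h.i * h.e) = h.e * (h.i * X.Th (a', b') * h.i) * h.e := by group
          _ = _ := by rw [X.i_Th, X.e_Th]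
    refine ⟨a * a'', (K2_facts.1 a ha a'' ha'').1, b * b'', (K2_facts.1 b hb b'' hb'').1, k * k', mul_mem hk hk', ?_⟩
    rw [← Prod.mk_mul_mk, map_mul, ← e]
    group
  inv_mem' := by
    rintro x ⟨a, ha, b, hb, k, hk, rfl⟩
    have ek : k⁻¹ = k := by
      rcases hk with rfl | rfl | rfl | rfl
      · exact inv_one
      · exact h.e_inv
      · exact h.i_inv
      · rw [mul_inv_rev, h.i_inv, h.e_inv, h.i_e_comm]
    rw [mul_inv_rev, ek, ← map_inv, Prod.inv_mk, inv_eq_of_mul_eq_one_right (K2_facts.2.1 a ha),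
      inv_eq_of_mul_eq_one_right (K2_facts.2.1 b hb)]
    rcases hk with rfl | rfl | rfl | rfl
    · exact ⟨a, ha, b, hb, 1, one_mem _, by simp⟩
    · refine ⟨_, K2_facts.2.2.1 a ha, _, K2_facts.2.2.1 b hb, h.e, Or.inr (Or.inl rfl), ?_⟩
      rw [← X.e_Th, mul_assoc (h.e * X.Th (a, b)), h.e_sq, mul_one]
    · refine ⟨b, hb, a, ha, h.i, Or.inr (Or.inr (Or.inl rfl)), ?_⟩
      rw [← X.i_Th a b, mul_assoc (h.i * X.Th (a, b)), h.i_sq, mul_one]
    · refine ⟨_, K2_facts.2.2.1 b hb, _, K2_facts.2.2.1 a ha, _, Or.inr (Or.inr (Or.inr rfl)), ?_⟩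
      rw [← X.e_Th, ← X.i_Th a b,
        show h.e * (h.i * X.Th (a, b) * h.i) * h.e * (h.e * h.i) = h.e * h.i * X.Th (a, b) * (h.i * (h.e * h.e) * h.i) by group,
        h.e_sq, mul_one, h.i_sq, mul_one]

theorem T64_le_M : X.T64 ≤ X.M := by rintro _ ⟨a, -, b, -, k, hk, rfl⟩; exact ⟨(a, b), k, hk, rfl⟩

theorem e_T64 : h.e ∈ X.T64 :=
  ⟨1, by simp [K2L], 1, by simp [K2L], h.e, Or.inr (Or.inl rfl), by rw [← Prod.one_eq_mk, map_one, one_mul]⟩

theorem i_T64 : h.i ∈ X.T64 :=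
  ⟨1, by simp [K2L], 1, by simp [K2L], h.i, Or.inr (Or.inr (Or.inl rfl)), by rw [← Prod.one_eq_mk, map_one, one_mul]⟩

theorem S0_le_T64 : X.S0 ≤ X.T64 := fun x hx => by
  obtain ⟨a, b, ha, hb, rfl⟩ := X.mem_S0.1 hx
  exact ⟨a, ha, b, hb, 1, one_mem _, (mul_one _).symm⟩

theorem pair_inj {w w' : A5 × A5} {k k' : G} (hk : k ∈ X.K4) (hk' : k' ∈ X.K4)
    (e : X.Th w * k = X.Th w' * k') : w = w' ∧ k = k' := by
  have h1 : k' * k⁻¹ = 1 := by
    refine X.N1_not (mul_mem hk' (inv_mem hk)) ?_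
    refine ⟨w'⁻¹ * w, ?_⟩
    rw [map_mul, map_inv, show X.Th w = X.Th w' * k' * k⁻¹ by rw [← e, mul_inv_cancel_right]]
    group
  have hkk : k' = k := mul_inv_eq_one.1 h1
  subst hkk
  exact ⟨X.Th_inj (mul_right_cancel e), rfl⟩

theorem T64_card : Nat.card X.T64 = 64 := by
  have hb : Function.Bijective (fun x : (KK2 × KK2) × X.K4 =>
      (⟨X.Th ((x.1.1 : A5), (x.1.2 : A5)) * x.2, x.1.1, x.1.1.2, x.1.2, x.1.2.2, x.2, x.2.2, rfl⟩ : X.T64)) := by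
    refine ⟨fun x y e => ?_, ?_⟩
    · obtain ⟨e1, e2⟩ := X.pair_inj x.2.2 y.2.2 (congrArg Subtype.val e)
      exact Prod.ext (Prod.ext (Subtype.ext (Prod.ext_iff.1 e1).1) (Subtype.ext (Prod.ext_iff.1 e1).2)) (Subtype.ext e2)
    · rintro ⟨_, a, ha, b, hb, k, hk, rfl⟩
      exact ⟨((⟨a, ha⟩, ⟨b, hb⟩), ⟨k, hk⟩), rfl⟩
  rw [← Nat.card_eq_of_bijective _ hb, Nat.card_prod, Nat.card_prod, card_KK2, X.K4_card]

theorem M_card : Nat.card X.M = 14400 := by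
  have hb : Function.Bijective (fun x : (A5 × A5) × X.K4 =>
      (⟨X.Th x.1 * x.2, x.1, x.2, x.2.2, rfl⟩ : X.M)) := by
    refine ⟨fun x y e => ?_, ?_⟩
    · obtain ⟨e1, e2⟩ := X.pair_inj x.2.2 y.2.2 (congrArg Subtype.val e)
      exact Prod.ext e1 (Subtype.ext e2)
    · rintro ⟨_, w, k, hk, rfl⟩
      exact ⟨(w, ⟨k, hk⟩), rfl⟩
  rw [← Nat.card_eq_of_bijective _ hb, Nat.card_prod, Nat.card_prod, SelfCentThree.card_alt_five, X.K4_card]

theorem T64_pgroup : IsPGroup 2 X.T64 := IsPGroup.of_card (n := 6) (by rw [X.T64_card]; norm_num)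

/-- The group of order sixty-four is a Sylow subgroup. -/
theorem exists_sylow : ∃ P : Sylow 2 G, (P : Subgroup G) = X.T64 := by
  have : Fact (Nat.Prime 2) := ⟨Nat.prime_two⟩
  obtain ⟨P, hP⟩ := X.T64_pgroup.exists_le_sylow
  refine ⟨P, ?_⟩
  by_contra hne
  have hlt : X.T64.subgroupOf P < ⊤ := lt_top_iff_ne_top.2 fun e => hne (le_antisymm (subgroupOf_eq_top.1 e) hP)
  have : Group.IsNilpotent (P : Subgroup G) := P.2.isNilpotent
  obtain ⟨q, hqN, hqQ⟩ := SetLike.exists_of_lt (normalizerCondition_of_isNilpotent _ hlt)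
  have hq : ∀ x ∈ X.T64, (q : G) * x * (q : G)⁻¹ ∈ X.T64 := fun x hx =>
    (Subgroup.mem_normalizer_iff.1 hqN ⟨x, hP hx⟩).1 hx
  obtain ⟨c, hcM, hc⟩ := X.e_class (X.T64_le_M (hq _ X.e_T64)) (isConj_iff.2 ⟨q, rfl⟩)
  have hqM : (q : G) ∈ X.M := by
    have h1 : c⁻¹ * q ∈ X.M := X.C_le_M (h.mem_C.2 (by
      calc c⁻¹ * (q : G) * h.e = c⁻¹ * ((q : G) * h.e * (q : G)⁻¹) * q := by group
        _ = c⁻¹ * (c * h.e * c⁻¹) * q := by rw [hc]
        _ = h.e * (c⁻¹ * q) := by group))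
    exact (X.M.mul_mem_cancel_left (inv_mem hcM)).1 h1
  have hqn : (q : G) ∈ normalizer (X.T64 : Set G) := by
    have hle : X.T64.map (MulAut.conj (q : G)).toMonoidHom ≤ X.T64 := by rintro _ ⟨x, hx, rfl⟩; exact hq x hx
    have heq := eq_of_le_of_card_ge hle (card_map_of_injective (MulAut.conj (q : G)).injective).ge
    rw [Subgroup.mem_normalizer_iff]
    intro x
    refine ⟨hq x, fun hx => ?_⟩
    obtain ⟨w, hw, e⟩ : (q : G) * x * (q : G)⁻¹ ∈ X.T64.map (MulAut.conj (q : G)).toMonoidHom := heq.symm ▸ hx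
    exact (MulAut.conj (q : G)).injective e ▸ hw
  have hqp : IsPGroup 2 (zpowers (q : G)) := by
    obtain ⟨n, hn⟩ := IsPGroup.iff_orderOf.1 P.2 q
    exact IsPGroup.of_card (n := n) (by rw [Nat.card_zpowers, orderOf_coe, hn])
  have hsup : IsPGroup 2 (zpowers (q : G) ⊔ X.T64 : Subgroup G) :=
    IsPGroup.to_sup_of_normal_right' hqp X.T64_pgroup (zpowers_le.2 hqn)
  obtain ⟨n, hn⟩ := IsPGroup.iff_card.1 hsup
  have hd := card_dvd_of_le (sup_le (zpowers_le.2 hqM) X.T64_le_M)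
  rw [hn, X.M_card] at hd
  have hn6 : n ≤ 6 := by
    by_contra hlt
    exact absurd ((pow_dvd_pow 2 (show 7 ≤ n by omega)).trans hd) (by norm_num)
  have heq := eq_of_le_of_card_ge (le_sup_right : X.T64 ≤ zpowers (q : G) ⊔ X.T64) (by
    rw [hn, X.T64_card]; exact (Nat.pow_le_pow_right (by norm_num) hn6).trans (by norm_num))
  exact hqQ (heq.symm ▸ mem_sup_left (mem_zpowers _) : (q : G) ∈ X.T64)

include X in
theorem not_128 : ¬ 128 ∣ Nat.card G := by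
  have : Fact (Nat.Prime 2) := ⟨Nat.prime_two⟩
  intro hd
  obtain ⟨P, hP⟩ := X.exists_sylow
  have := P.pow_dvd_card_of_pow_dvd_card (n := 7) (by simpa using hd)
  rw [hP, X.T64_card] at this
  norm_num at this

theorem T64_cent {x : G} (hx : x ∈ X.T64) : Commute x X.II := by
  obtain ⟨a, ha, b, hb, k, hk, rfl⟩ := hx
  have h1 : Commute (X.Th (a, b)) X.II := by
    rw [X.II_eq]
    show _ * _ = _ * _
    rw [← map_mul, ← map_mul, Prod.mk_mul_mk, Prod.mk_mul_mk,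
      (K2_facts.1 a ha t5 (by simp [K2L])).2, (K2_facts.1 b hb t5 (by simp [K2L])).2]
  have he : Commute h.e X.II := by
    have e : h.e * X.II * h.e = X.II := by rw [X.II_eq, X.e_Th, tau_facts.2.1]
    calc h.e * X.II = h.e * X.II * h.e * h.e := by rw [mul_assoc _ h.e, h.e_sq, mul_one]
      _ = X.II * h.e := by rw [e]
  have hi : Commute h.i X.II := by
    have e : h.i * X.II * h.i = X.II := by rw [X.II_eq, X.i_Th]
    calc h.i * X.II = h.i * X.II * h.i * h.i := by rw [mul_assoc _ h.i, h.i_sq, mul_one]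
      _ = X.II * h.i := by rw [e]
  refine h1.mul_left ?_
  rcases hk with rfl | rfl | rfl | rfl
  · exact Commute.one_left _
  · exact he
  · exact hi
  · exact he.mul_left hi

/-- Separation of the class of `t s`. -/
theorem sep {m x : G} (hm : IsConj X.II m) (hme : m * h.e = h.e * m) (hx : x ^ 3 = 1)
    (hxm : x * m = m * x) (hxe : x * h.e = h.e * x) : x = 1 := by
  have : Fact (Nat.Prime 2) := ⟨Nat.prime_two⟩
  obtain ⟨g, hg⟩ := isConj_iff.1 hm.symm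
  set C := centralizer ({X.II} : Set G)
  have hcomm : ∀ a b : G, a * b = b * a → g * a * g⁻¹ * (g * b * g⁻¹) = g * b * g⁻¹ * (g * a * g⁻¹) := fun a b hab => by
    calc g * a * g⁻¹ * (g * b * g⁻¹) = g * (a * b) * g⁻¹ := by group
      _ = g * (b * a) * g⁻¹ := by rw [hab]
      _ = _ := by group
  have he' : g * h.e * g⁻¹ ∈ C := by
    rw [mem_centralizer_singleton_iff, ← hg]; exact hcomm _ _ hme.symm
  have hTC : X.T64 ≤ C := fun y hy => mem_centralizer_singleton_iff.2 (X.T64_cent hy).eq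
  obtain ⟨PT, hPT⟩ := sylow_of_card (X.T64.subgroupOf C) 6
    (by rw [Nat.card_congr (subgroupOfEquivOfLe hTC).toEquiv, X.T64_card]; norm_num)
    (fun hd => X.not_128 ((show 128 ∣ Nat.card C by simpa using hd).trans (card_subgroup_dvd_card _)))
  obtain ⟨Q, hQ⟩ := (IsPGroup.of_card (p := 2) (n := 1) (G := zpowers (⟨_, he'⟩ : C)) (by
    rw [Nat.card_zpowers, orderOf_mk, pow_one]
    refine orderOf_eq_prime (by rw [conj_pow, pow_two, h.e_sq, mul_one, mul_inv_cancel]) fun e => h.e_ne ?_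
    exact conj_eq_one_iff.1 e)).exists_le_sylow
  obtain ⟨c, hc⟩ := MulAction.exists_smul_eq C Q PT
  have he'' : (c : G) * (g * h.e * g⁻¹) * (c : G)⁻¹ ∈ X.T64 := by
    have : c * ⟨_, he'⟩ * c⁻¹ ∈ (PT : Subgroup C) := by
      rw [← hc]; exact ⟨_, hQ (mem_zpowers _), rfl⟩
    rw [hPT] at this
    exact this
  obtain ⟨d, hdM, hd⟩ := X.e_class (X.T64_le_M he'') (isConj_iff.2 ⟨(c : G) * g, by group⟩)
  -- the transported elements
  set u := d⁻¹ * (c : G) * g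
  have hue : u * h.e * u⁻¹ = h.e := by
    calc u * h.e * u⁻¹ = d⁻¹ * ((c : G) * (g * h.e * g⁻¹) * (c : G)⁻¹) * d := by simp only [u]; group
      _ = d⁻¹ * (d * h.e * d⁻¹) * d := by rw [hd]
      _ = h.e := by group
  have hum : u * m * u⁻¹ = d⁻¹ * X.II * d := by
    calc u * m * u⁻¹ = d⁻¹ * ((c : G) * (g * m * g⁻¹) * (c : G)⁻¹) * d := by simp only [u]; group
      _ = d⁻¹ * X.II * d := by rw [hg, mem_centralizer_singleton_iff.1 c.2, mul_inv_cancel_right]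
  obtain ⟨w, k, hk, hdinv⟩ := inv_mem hdM
  have hkI : k * X.II * k⁻¹ = X.II := by
    rw [(X.T64_cent (x := k) ⟨1, by simp [K2L], 1, by simp [K2L], k, hk, by rw [← Prod.one_eq_mk, map_one, one_mul]⟩).eq,
      mul_inv_cancel_right]
  obtain ⟨w1, w2⟩ := w
  have hI' : d⁻¹ * X.II * d = X.Th (w1 * t5 * w1⁻¹, w2 * t5 * w2⁻¹) := by
    have : d = (d⁻¹)⁻¹ := (inv_inv d).symm
    nth_rw 2 [this]
    rw [hdinv, show X.Th (w1, w2) * k * X.II * (X.Th (w1, w2) * k)⁻¹ = X.Th (w1, w2) * (k * X.II * k⁻¹) * (X.Th (w1, w2))⁻¹ by group,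
      hkI, X.II_eq, ← map_inv, ← map_mul, ← map_mul, Prod.inv_mk, Prod.mk_mul_mk, Prod.mk_mul_mk]
  have huc : ∀ a b : G, a * b = b * a → u * a * u⁻¹ * (u * b * u⁻¹) = u * b * u⁻¹ * (u * a * u⁻¹) := fun a b hab => by
    calc u * a * u⁻¹ * (u * b * u⁻¹) = u * (a * b) * u⁻¹ := by group
      _ = u * (b * a) * u⁻¹ := by rw [hab]
      _ = _ := by group
  have hxe' : (u * x * u⁻¹) * h.e = h.e * (u * x * u⁻¹) := by
    have := huc x h.e hxe
    rwa [hue] at this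
  have hme' : (u * m * u⁻¹) * h.e = h.e * (u * m * u⁻¹) := by
    have := huc m h.e hme
    rwa [hue] at this
  obtain ⟨⟨p, q⟩, hpq⟩ := X.mem_N1_of_cube (X.C_le_M (h.mem_C.2 hxe')) (by rw [conj_pow, hx, mul_one, mul_inv_cancel])
  have hfix : ∀ a b : A5, X.Th (a, b) * h.e = h.e * X.Th (a, b) → tauHom a = a ∧ tauHom b = b := fun a b e => by
    have e' : h.e * X.Th (a, b) * h.e = X.Th (a, b) := by rw [← e, mul_assoc, h.e_sq, mul_one]
    rw [X.e_Th] at e'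
    exact Prod.ext_iff.1 (X.Th_inj e')
  rw [← hpq] at hxe'
  rw [hum, hI'] at hme'
  obtain ⟨hp, hq⟩ := hfix _ _ hxe'
  obtain ⟨ha, hb⟩ := hfix _ _ hme'
  have hc2 := huc x m hxm
  rw [← hpq, hum, hI', ← map_mul, ← map_mul, Prod.mk_mul_mk, Prod.mk_mul_mk] at hc2
  obtain ⟨hpa, hqb⟩ := Prod.ext_iff.1 (X.Th_inj hc2)
  have hp3 : X.Th (p, q) ^ 3 = 1 := by rw [hpq, conj_pow, hx, mul_one, mul_inv_cancel]
  rw [← map_pow, ← map_one X.Th] at hp3
  obtain ⟨hp3', hq3'⟩ := Prod.ext_iff.1 (X.Th_inj hp3)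
  have hinv : ∀ a : A5, a * t5 * a⁻¹ * (a * t5 * a⁻¹) = 1 ∧ a * t5 * a⁻¹ ≠ 1 := fun a => ⟨by
    rw [show a * t5 * a⁻¹ * (a * t5 * a⁻¹) = a * (t5 * t5) * a⁻¹ by group, K2_facts.2.1 t5 (by simp [K2L])]
    group, fun e => (show t5 ≠ 1 by decide +kernel) (conj_eq_one_iff.1 e)⟩
  have hp1 := tau_cube_free p hp hp3' _ ha (hinv w1).1 (hinv w1).2 hpa
  have hq1 := tau_cube_free q hq hq3' _ hb (hinv w2).1 (hinv w2).2 hqb
  rw [hp1, hq1, ← Prod.one_eq_mk, map_one] at hpq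
  exact conj_eq_one_iff.1 hpq.symm

theorem not_II_t : ¬ IsConj X.II h.t := fun hc =>
  h.z_ne (X.sep hc (h.mem_C.1 (by
    refine h.mem_C.2 ?_
    rw [Hyp.t, Hyp.e, Hyp.f, MonoidHom.comp_apply, ← map_mul, ← map_mul, t5_conj.2.2.1])) h.z_cube (h.z_f t5) h.e_z.symm)

theorem not_II_i {m : G} (hme : m * h.e = h.e * m) (hmy : m * (h.z * h.z') = h.z * h.z' * m) : ¬ IsConj X.II m :=
  fun hc => X.zz'_ne (X.sep hc hme (h.D_cube (mul_mem h.z_mem h.z'_mem)) hmy.symm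
    ((show Commute h.e h.z from h.e_z).mul_right h.e_z').eq.symm)

/-- The classes of involutions in the product. -/
theorem N1_invol {x : G} (hx : x ∈ X.N1) (h2 : x * x = 1) (h1 : x ≠ 1) :
    ∃ c ∈ X.N1, c * h.t * c⁻¹ = x ∨ c * h.s * c⁻¹ = x ∨ c * X.II * c⁻¹ = x := by
  obtain ⟨⟨p, q⟩, rfl⟩ := hx
  rw [← map_mul, Prod.mk_mul_mk, ← map_one X.Th] at h2
  obtain ⟨hp, hq⟩ := Prod.ext_iff.1 (X.Th_inj h2)
  by_cases hp1 : p = 1
  · subst hp1
    have hq1 : q ≠ 1 := fun e => h1 (by rw [e, ← Prod.one_eq_mk, map_one])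
    obtain ⟨b, hb⟩ := invol_t5 q hq hq1
    refine ⟨_, X.g_N1 b, Or.inr (Or.inl ?_)⟩
    rw [← X.g_t5, ← map_inv, ← map_mul, ← map_mul, hb, X.Th_snd]
  obtain ⟨a, ha⟩ := invol_t5 p hp hp1
  by_cases hq1 : q = 1
  · subst hq1
    refine ⟨_, X.f_N1 a, Or.inl ?_⟩
    rw [Hyp.t, ← map_inv, ← map_mul, ← map_mul, ha, X.Th_fst]
  obtain ⟨b, hb⟩ := invol_t5 q hq hq1
  refine ⟨_, X.mem_N1 (a, b), Or.inr (Or.inr ?_)⟩
  rw [X.II_eq, ← map_inv, ← map_mul, ← map_mul, Prod.inv_mk, Prod.mk_mul_mk, Prod.mk_mul_mk, ha, hb]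

end Exc

end Cfsg.Agent.S8ThreeLocal
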