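import Cfsg.Agent.S8ThreeLocal.SetupProof
import Cfsg.Agent.A8ThreeLocal.Facts

/-!
First consequences of the normal form.
-/

set_option autoImplicit false
set_option synthInstance.maxSize 2000
set_option synthInstance.maxHeartbeats 400000

namespace Cfsg.Agent.S8ThreeLocal

open Equiv Equiv.Perm Subgroup
open Cfsg.Agent.A8ThreeLocal (A5 c5 t5 v5 a1 a2 a3 b1 r3 s3 tau InV1 InV2 tauHom cases_pow_three
  centralizer_card_conj tau_sq)

variable {G : Type*} [Group G]

theorem sP_inR (p : Perm (Fin 5)) : sP * inR p = inR p * sP :=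
  Prod.ext ((mul_one s3).trans (one_mul s3).symm) ((one_mul p).trans (mul_one p).symm)

theorem eP_inA (p : A5) : eP * inA p * eP = inA (tauHom p) :=
  Prod.ext (show (1 : Perm (Fin 3)) * 1 * 1 = 1 by simp) rfl

theorem P35_facts : sP * sP = 1 ∧ zP ^ 3 = 1 ∧ zP ≠ 1 ∧ eP * zP = zP * eP ∧ eP * sP = sP * eP ∧
    sP * inA c5 = inA c5 * sP ∧ zP * inA c5 ≠ 1 ∧ eP * inA c5 = inA c5 * eP := by decide +kernel

theorem r3_pow_inj : ∀ a b : Fin 3, r3 ^ (a : ℕ) = r3 ^ (b : ℕ) → a = b := by decide +kernel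

theorem three_t5 : ∀ p : Perm (Fin 5), p ^ 3 = 1 → p * (t5 : Perm (Fin 5)) = t5 * p → p = 1 := by
  decide +kernel

namespace Hyp

variable (h : Hyp G)

/-- The given element of order three. -/
def z : G := h.psi zP
/-- The symmetric group of degree five centralising `z`. -/
def r : Perm (Fin 5) →* G := h.psi.comp inR
/-- Its alternating part. -/
def f : A5 →* G := h.psi.comp inA
/-- The partner of `z`. -/
def z' : G := h.f c5
/-- An involution centralising `z` and inverting its partner. -/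
def t : G := h.f t5
/-- An involution inverting `z`. -/
def s : G := h.psi sP
/-- The involution centralising `D`. -/
def e : G := h.psi eP

theorem f_apply (p : A5) : h.f p = h.r p := rfl
theorem f_inj : Function.Injective h.f := h.psi_inj.comp inA_injective
theorem r_inj : Function.Injective h.r := h.psi_inj.comp inR_injective

theorem i_inv : h.i⁻¹ = h.i := inv_eq_of_mul_eq_one_right h.i_sq

theorem i_i (x : G) : h.i * (h.i * x * h.i) * h.i = x := by
  calc h.i * (h.i * x * h.i) * h.i = (h.i * h.i) * x * (h.i * h.i) := by group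
    _ = x := by rw [h.i_sq, one_mul, mul_one]

theorem i_mul (x y : G) : h.i * (x * y) * h.i = (h.i * x * h.i) * (h.i * y * h.i) := by
  calc h.i * (x * y) * h.i = h.i * x * 1 * y * h.i := by group
    _ = h.i * x * (h.i * h.i) * y * h.i := by rw [h.i_sq]
    _ = _ := by group

theorem i_z_eq : h.i * h.z * h.i = h.z' := h.i_z

theorem i_z' : h.i * h.z' * h.i = h.z := by rw [← h.i_z_eq, h.i_i]

theorem i_e_eq : h.i * h.e * h.i = h.e := h.i_e

theorem i_e_comm : h.i * h.e = h.e * h.i := by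
  calc h.i * h.e = h.i * h.e * h.i * h.i := by rw [mul_assoc _ h.i, h.i_sq, mul_one]
    _ = h.e * h.i := by rw [h.i_e_eq]

theorem z_r (p : Perm (Fin 5)) : h.z * h.r p = h.r p * h.z := by
  show h.psi zP * h.psi (inR p) = h.psi (inR p) * h.psi zP
  rw [← map_mul, ← map_mul, inR_zP]

theorem z_f (p : A5) : h.z * h.f p = h.f p * h.z := h.z_r _

theorem s_r (p : Perm (Fin 5)) : h.s * h.r p = h.r p * h.s := by
  show h.psi sP * h.psi (inR p) = h.psi (inR p) * h.psi sP
  rw [← map_mul, ← map_mul, sP_inR]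

theorem s_f (p : A5) : h.s * h.f p = h.f p * h.s := h.s_r _

theorem s_sq : h.s * h.s = 1 := by rw [s, ← map_mul, P35_facts.1, map_one]

theorem s_inv : h.s⁻¹ = h.s := inv_eq_of_mul_eq_one_right h.s_sq

theorem s_z : h.s * h.z * h.s = h.z⁻¹ := by
  have := congrArg h.psi sP_zP
  simp only [map_mul, map_inv] at this
  rw [← h.s_inv]
  nth_rw 1 [h.s_inv]
  exact this

theorem e_sq : h.e * h.e = 1 := by rw [e, ← map_mul, t5_conj.2.2.2.2.1, map_one]

theorem e_inv : h.e⁻¹ = h.e := inv_eq_of_mul_eq_one_right h.e_sq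

theorem e_ne : h.e ≠ 1 := fun e => t5_conj.2.2.2.2.2.1 (h.psi_inj (e.trans (map_one h.psi).symm))

theorem e_z : h.e * h.z = h.z * h.e := by rw [e, z, ← map_mul, ← map_mul, P35_facts.2.2.2.1]

theorem e_s : h.e * h.s = h.s * h.e := by rw [e, s, ← map_mul, ← map_mul, P35_facts.2.2.2.2.1]

theorem e_f (p : A5) : h.e * h.f p * h.e = h.f (tauHom p) := by
  show h.psi eP * h.psi (inA p) * h.psi eP = h.psi (inA (tauHom p))
  rw [← map_mul, ← map_mul, eP_inA]

theorem e_r : h.e = h.r tau := rfl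

theorem e_z' : h.e * h.z' = h.z' * h.e := by
  show h.psi eP * h.psi (inA c5) = h.psi (inA c5) * h.psi eP
  rw [← map_mul, ← map_mul, P35_facts.2.2.2.2.2.2.2]

theorem s_z' : h.s * h.z' = h.z' * h.s := h.s_f c5

theorem z_cube : h.z ^ 3 = 1 := by rw [z, ← map_pow, P35_facts.2.1, map_one]

theorem z_ne : h.z ≠ 1 := fun e => P35_facts.2.2.1 (h.psi_inj (e.trans (map_one h.psi).symm))

theorem order_z : orderOf h.z = 3 :=
  haveI : Fact (Nat.Prime 3) := ⟨Nat.prime_three⟩
  orderOf_eq_prime h.z_cube h.z_ne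

theorem t_sq : h.t * h.t = 1 := by
  rw [t, ← map_mul, show t5 * t5 = 1 by decide +kernel, map_one]

theorem cent_cases {g : G} (hg : g * h.z = h.z * g) :
    ∃ a : Fin 3, ∃ p : Perm (Fin 5), g = h.z ^ (a : ℕ) * h.r p := by
  obtain ⟨k, rfl⟩ := h.norm_z g (Or.inl (show g * h.z * g⁻¹ = h.z by rw [hg, mul_inv_cancel_right]))
  have hk : k * zP = zP * k := h.psi_inj (by rw [map_mul, map_mul]; exact hg)
  obtain ⟨a, p, rfl⟩ := cent_zP k hk
  exact ⟨a, p, by rw [map_mul, map_pow]; rfl⟩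

theorem coord_inj {a : Fin 3} {p : Perm (Fin 5)} {b : Fin 3} {q : Perm (Fin 5)}
    (e : h.z ^ (a : ℕ) * h.r p = h.z ^ (b : ℕ) * h.r q) : a = b ∧ p = q := by
  have e' : zP ^ (a : ℕ) * inR p = zP ^ (b : ℕ) * inR q :=
    h.psi_inj (by rw [map_mul, map_mul, map_pow, map_pow]; exact e)
  have h1 : r3 ^ (a : ℕ) = r3 ^ (b : ℕ) := by simpa [zP, inR] using congrArg Prod.fst e'
  refine ⟨?_, by simpa [zP, inR] using congrArg Prod.snd e'⟩
  exact r3_pow_inj a b h1

theorem cent_cases_prime {g : G} (hg : g * h.z = h.z * g) {m : ℕ} (hm : g ^ m = 1) (h3 : ¬ 3 ∣ m) :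
    ∃ p : Perm (Fin 5), g = h.r p := by
  obtain ⟨a, p, rfl⟩ := h.cent_cases hg
  refine ⟨p, ?_⟩
  rw [((show Commute h.z (h.r p) from h.z_r p).pow_left (a : ℕ)).mul_pow, ← pow_mul, ← map_pow] at hm
  have hmod : ∀ n : ℕ, h.z ^ (n % 3) = h.z ^ n := fun n => by
    have := pow_mod_orderOf h.z n
    rwa [h.order_z] at this
  have hz : h.z ^ ((a : ℕ) * m) = h.z ^ (0 : ℕ) := by
    have hd : ((a : ℕ) * m) % 3 < 3 := Nat.mod_lt _ (by norm_num)
    obtain ⟨h0, -⟩ := h.coord_inj (a := ⟨((a : ℕ) * m) % 3, hd⟩) (b := 0) (p := p ^ m) (q := 1)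
      (by rw [map_one, Fin.val_zero, pow_zero, one_mul, show (h.z ^ (((a : ℕ) * m) % 3)) = h.z ^ ((a : ℕ) * m) from hmod _, hm])
    have h0' : ((a : ℕ) * m) % 3 = 0 := congrArg Fin.val h0
    rw [← hmod, h0']
  have hdvd : 3 ∣ (a : ℕ) * m := by
    have := orderOf_dvd_of_pow_eq_one (hz.trans (pow_zero _))
    rwa [h.order_z] at this
  rcases Nat.prime_three.dvd_mul.1 hdvd with e | e
  · have : (a : ℕ) = 0 := by have := a.isLt; omega
    rw [this, pow_zero, one_mul]
  · exact absurd e h3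

theorem dd_eq (a b : Fin 3) : dd h.psi a b = h.z ^ (a : ℕ) * h.z' ^ (b : ℕ) := by
  rw [dd, map_mul, map_pow, map_pow]; rfl

theorem dd_mem (a b : Fin 3) : dd h.psi a b ∈ h.D := by
  rw [dd, map_mul, map_pow, map_pow]
  exact mul_mem (pow_mem h.z_mem _) (pow_mem h.z'_mem _)

variable [Finite G]

theorem mem_D {x : G} (hx : x ∈ h.D) : ∃ a b : Fin 3, x = dd h.psi a b := by
  have hbij : Function.Bijective (fun p : Fin 3 × Fin 3 => (⟨dd h.psi p.1 p.2, h.dd_mem _ _⟩ : h.D)) := by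
    rw [Nat.bijective_iff_injective_and_card]
    refine ⟨fun p q e => ?_, by simp [h.card_D]⟩
    exact dd_inj (h.psi_inj (congrArg Subtype.val e))
  obtain ⟨p, hp⟩ := hbij.2 ⟨x, hx⟩
  exact ⟨p.1, p.2, (congrArg Subtype.val hp).symm⟩

theorem D_cube {x : G} (hx : x ∈ h.D) : x ^ 3 = 1 := by
  obtain ⟨a, b, rfl⟩ := h.mem_D hx
  rw [dd, ← map_pow, cube_dd a b, map_one]

theorem e_D {d : G} (hd : d ∈ h.D) : h.e * d = d * h.e := by
  obtain ⟨a, b, rfl⟩ := h.mem_D hd
  rw [h.dd_eq]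
  exact ((Commute.pow_right (show Commute h.e h.z from h.e_z) _).mul_right
    (Commute.pow_right (show Commute h.e h.z' from h.e_z') _)).eq

theorem cent_D_invol {m : G} (h2 : m * m = 1) (h1 : m * h.z = h.z * m) (h1' : m * h.z' = h.z' * m) :
    m = 1 ∨ m = h.e := by
  rcases h.cent_D m h1 h1' with hd | hd
  · left
    have := h.D_cube hd
    rwa [pow_succ, pow_two, h2, one_mul] at this
  · right
    set d := m * h.psi eP
    have hm : m = d * h.e := by
      show m = m * h.e * h.e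
      rw [mul_assoc, h.e_sq, mul_one]
    have hd2 : d * d = 1 := by
      rw [hm, show d * h.e * (d * h.e) = d * (h.e * d) * h.e by group, h.e_D hd, ← mul_assoc,
        mul_assoc (d * d), h.e_sq, mul_one] at h2
      exact h2
    have hd3 := h.D_cube hd
    rw [pow_succ, pow_two, hd2, one_mul] at hd3
    rw [hm, hd3, one_mul]

theorem norm_cent_e {n : G} (hn : n ∈ normalizer (h.D : Set G)) : n * h.e = h.e * n := by
  set m := n * h.e * n⁻¹ with hm
  have key : ∀ x ∈ h.D, m * x = x * m := by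
    intro x hx
    have hx' := (Subgroup.mem_normalizer_iff.1 (inv_mem hn) x).1 hx
    rw [inv_inv] at hx'
    calc m * x = n * (h.e * (n⁻¹ * x * n)) * n⁻¹ := by rw [hm]; group
      _ = n * ((n⁻¹ * x * n) * h.e) * n⁻¹ := by rw [h.e_D hx']
      _ = x * m := by rw [hm]; group
  have h2 : m * m = 1 := by
    calc m * m = n * (h.e * h.e) * n⁻¹ := by rw [hm]; group
      _ = 1 := by rw [h.e_sq]; group
  rcases h.cent_D_invol h2 (key _ h.z_mem) (key _ h.z'_mem) with e | e
  · exact absurd (conj_eq_one_iff.1 e) h.e_ne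
  · exact mul_inv_eq_iff_eq_mul.1 e

theorem psi_mem_norm {k : P35} (h1 : h.psi k * h.z * (h.psi k)⁻¹ ∈ h.D) (h2 : h.psi k * h.z' * (h.psi k)⁻¹ ∈ h.D) :
    h.psi k ∈ normalizer (h.D : Set G) := by
  have hle : h.D.map (MulAut.conj (h.psi k)).toMonoidHom ≤ h.D := by
    rintro _ ⟨x, hx, rfl⟩
    obtain ⟨a, b, rfl⟩ := h.mem_D hx
    simp only [MulEquiv.coe_toMonoidHom, MulAut.conj_apply, h.dd_eq]
    rw [show h.psi k * (h.z ^ (a : ℕ) * h.z' ^ (b : ℕ)) * (h.psi k)⁻¹ =
      (h.psi k * h.z * (h.psi k)⁻¹) ^ (a : ℕ) * (h.psi k * h.z' * (h.psi k)⁻¹) ^ (b : ℕ) by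
        rw [conj_pow, conj_pow]; group]
    exact mul_mem (pow_mem h1 _) (pow_mem h2 _)
  have heq := eq_of_le_of_card_ge hle (card_map_of_injective (MulAut.conj (h.psi k)).injective).ge
  rw [Subgroup.mem_normalizer_iff]
  intro x
  refine ⟨fun hx => hle ⟨x, hx, rfl⟩, fun hx => ?_⟩
  obtain ⟨w, hw, e⟩ : h.psi k * x * (h.psi k)⁻¹ ∈ h.D.map (MulAut.conj (h.psi k)).toMonoidHom := heq.symm ▸ hx
  exact (MulAut.conj (h.psi k)).injective e ▸ hw

/-- A mixed element of `D` has a small centraliser. -/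
theorem mixed_cent {a b : Fin 3} (ha : a ≠ 0) (hb : b ≠ 0) :
    Nat.card (centralizer ({dd h.psi a b} : Set G)) = 36 ∧
      centralizer ({dd h.psi a b} : Set G) ≤ normalizer (h.D : Set G) := by
  obtain ⟨k, -, hk, hkz, hkc⟩ := mixed_conj a b ha hb
  have hkN : h.psi k ∈ normalizer (h.D : Set G) := by
    refine h.psi_mem_norm ?_ ?_
    · show h.psi k * h.psi zP * (h.psi k)⁻¹ ∈ h.D
      rw [← map_inv, ← map_mul, ← map_mul]
      simp only [List.mem_cons, List.not_mem_nil, or_false] at hkz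
      rcases hkz with e | e <;> rw [e]
      · exact h.z_mem
      · rw [map_inv]; exact inv_mem h.z_mem
    · show h.psi k * h.psi (inA c5) * (h.psi k)⁻¹ ∈ h.D
      rw [← map_inv, ← map_mul, ← map_mul]
      simp only [List.mem_cons, List.not_mem_nil, or_false] at hkc
      rcases hkc with e | e <;> rw [e]
      · exact h.z'_mem
      · rw [map_inv]; exact inv_mem h.z'_mem
  have e : h.psi zP * h.psi (inA c5) = h.psi k * dd h.psi a b * (h.psi k)⁻¹ := by
    rw [dd, ← map_mul h.psi zP, ← hk, map_mul, map_mul, map_inv]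
  refine ⟨by rw [← centralizer_card_conj (h.psi k), ← e, h.cent_y], fun g hg => ?_⟩
  rw [mem_centralizer_singleton_iff] at hg
  have hg' : h.psi k * g * (h.psi k)⁻¹ ∈ centralizer ({h.psi zP * h.psi (inA c5)} : Set G) := by
    rw [mem_centralizer_singleton_iff, e]
    calc h.psi k * g * (h.psi k)⁻¹ * (h.psi k * dd h.psi a b * (h.psi k)⁻¹)
        = h.psi k * (g * dd h.psi a b) * (h.psi k)⁻¹ := by group
      _ = h.psi k * (dd h.psi a b * g) * (h.psi k)⁻¹ := by rw [hg]
      _ = _ := by group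
  have := mul_mem (mul_mem (inv_mem hkN) (h.cent_y_le hg')) hkN
  simpa [mul_assoc] using this

theorem i_norm : h.i ∈ normalizer (h.D : Set G) := by
  refine h.cent_y_le (mem_centralizer_singleton_iff.2 ?_)
  show h.i * (h.z * h.z') = h.z * h.z' * h.i
  have e : h.i * (h.z * h.z') * h.i = h.z * h.z' := by
    rw [h.i_mul, h.i_z_eq, h.i_z']
    exact h.D_comm _ h.z'_mem _ h.z_mem
  calc h.i * (h.z * h.z') = h.i * (h.z * h.z') * h.i * h.i := by rw [mul_assoc _ h.i, h.i_sq, mul_one]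
    _ = _ := by rw [e]

theorem cent_z_e {g : G} (hz : g * h.z = h.z * g) (he : g * h.e = h.e * g) :
    g ∈ normalizer (h.D : Set G) := by
  obtain ⟨a, p, rfl⟩ := h.cent_cases hz
  refine mul_mem (pow_mem (le_normalizer h.z_mem) _) ?_
  have hc : h.r p * h.e = h.e * h.r p := by
    refine mul_left_cancel (a := h.z ^ (a : ℕ)) ?_
    rw [← mul_assoc, he, ← mul_assoc, ← mul_assoc,
      ((show Commute h.e h.z from h.e_z).pow_right (a : ℕ)).eq]
  have hpt : p * tau = tau * p := h.r_inj (by rw [map_mul, map_mul]; exact hc)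
  refine h.psi_mem_norm ?_ ?_
  · show h.r p * h.z * (h.r p)⁻¹ ∈ h.D
    rw [← h.z_r, mul_inv_cancel_right]
    exact h.z_mem
  · show h.r p * h.r (c5 : Perm (Fin 5)) * (h.r p)⁻¹ ∈ h.D
    rw [← map_inv, ← map_mul, ← map_mul]
    rcases tau_norm_c5 p hpt with e | e <;> rw [e]
    · exact h.z'_mem
    · rw [map_inv]; exact inv_mem h.z'_mem

/-- Centralisers in `C(e)` of the elements of `D`. -/
theorem cent_e_D {d : G} (hd : d ∈ h.D) (hd1 : d ≠ 1) {g : G} (hg : g * d = d * g) (he : g * h.e = h.e * g) :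
    g ∈ normalizer (h.D : Set G) := by
  obtain ⟨a, b, rfl⟩ := h.mem_D hd
  by_cases hmix : a ≠ 0 ∧ b ≠ 0
  · exact (h.mixed_cent hmix.1 hmix.2).2 (mem_centralizer_singleton_iff.2 hg)
  have hpow : ∀ (x : G) (n : Fin 3), n ≠ 0 → x ^ 3 = 1 → g * x ^ (n : ℕ) = x ^ (n : ℕ) * g → g * x = x * g := by
    intro x n hn hx hgx
    fin_cases n
    · exact absurd rfl hn
    · simpa using hgx
    · have := (show Commute g (x ^ 2) from hgx).pow_right 2
      rw [← pow_mul, pow_succ, hx, one_mul] at this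
      exact this
  rw [h.dd_eq] at hg hd1
  rcases not_and_or.1 hmix with ha | hb
  · rw [not_not] at ha
    subst ha
    simp only [Fin.val_zero, pow_zero, one_mul] at hg hd1
    have hb : b ≠ 0 := by rintro rfl; simp at hd1
    have hgz' : g * h.z' = h.z' * g := hpow h.z' b hb (h.D_cube h.z'_mem) hg
    have h1 : h.i * g * h.i ∈ normalizer (h.D : Set G) := by
      refine h.cent_z_e ?_ ?_
      · rw [← h.i_z', ← h.i_mul, ← h.i_mul, hgz']
      · rw [← h.i_e_eq, ← h.i_mul, ← h.i_mul, he]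
    rw [← h.i_i g]
    exact mul_mem (mul_mem h.i_norm h1) h.i_norm
  · rw [not_not] at hb
    subst hb
    simp only [Fin.val_zero, pow_zero, mul_one] at hg hd1
    have ha : a ≠ 0 := by rintro rfl; simp at hd1
    exact h.cent_z_e (hpow _ a ha h.z_cube hg) he

include h in
theorem nine_dvd : 9 ∣ Nat.card G := h.card_D ▸ card_subgroup_dvd_card h.D

include h in
theorem card_three {Q : Subgroup G} (hQ : IsPGroup 3 Q) (h9 : 9 ∣ Nat.card Q) : Nat.card Q = 9 := by
  have : Fact (Nat.Prime 3) := ⟨Nat.prime_three⟩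
  obtain ⟨n, hn⟩ := IsPGroup.iff_card.1 hQ
  have h2 := card_subgroup_dvd_card Q
  rw [hn] at h9 h2 ⊢
  have h1' := (Nat.pow_dvd_pow_iff_le_right (by norm_num : 1 < 3)).1 (show 3 ^ 2 ∣ 3 ^ n by simpa using h9)
  have h3 : n ≤ 2 := by
    by_contra hlt
    exact h.not_27 ((pow_dvd_pow 3 (show 3 ≤ n by omega)).trans h2)
  rw [show n = 2 by omega]; norm_num

include h in
/-- A Sylow 3-subgroup of a centraliser. -/
theorem exists_sylow_cent {m x : G} (h9 : 9 ∣ Nat.card (centralizer ({m} : Set G))) (hx : x ^ 3 = 1)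
    (hxm : x * m = m * x) : ∃ Q : Subgroup G, Nat.card Q = 9 ∧ x ∈ Q ∧ (∀ a ∈ Q, ∀ b ∈ Q, a * b = b * a) ∧
      IsPGroup 3 Q ∧ ∀ q ∈ Q, q * m = m * q := by
  have : Fact (Nat.Prime 3) := ⟨Nat.prime_three⟩
  set C := centralizer ({m} : Set G)
  let xC : C := ⟨x, mem_centralizer_singleton_iff.2 hxm⟩
  have hxp : IsPGroup 3 (zpowers xC) := fun ⟨w, hw⟩ => ⟨1, Subtype.ext (by
    obtain ⟨n, rfl⟩ := mem_zpowers_iff.1 hw
    show (xC ^ n) ^ (3 ^ 1) = 1
    rw [pow_one, ← zpow_natCast, ← zpow_mul, mul_comm, zpow_mul, zpow_natCast,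
      show xC ^ 3 = 1 from Subtype.ext hx, one_zpow])⟩
  obtain ⟨S, hS⟩ := hxp.exists_le_sylow
  have hp : IsPGroup 3 ((S : Subgroup C).map C.subtype) := S.2.map _
  have hcard : Nat.card ((S : Subgroup C).map C.subtype) = 9 := by
    refine h.card_three hp ?_
    rw [card_map_of_injective Subtype.val_injective]
    exact S.pow_dvd_card_of_pow_dvd_card (n := 2) (by simpa using h9)
  obtain ⟨k, hk⟩ := h.conj_D _ hcard
  refine ⟨_, hcard, ⟨xC, hS (mem_zpowers _), rfl⟩, fun a ha b hb => ?_, hp, ?_⟩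
  · have := h.D_comm _ (hk a ha) _ (hk b hb)
    calc a * b = k⁻¹ * (k * a * k⁻¹ * (k * b * k⁻¹)) * k := by group
      _ = k⁻¹ * (k * b * k⁻¹ * (k * a * k⁻¹)) * k := by rw [this]
      _ = b * a := by group
  · rintro _ ⟨q, -, rfl⟩
    exact mem_centralizer_singleton_iff.1 q.2

theorem nine_dvd_conj_e {m : G} (hm : IsConj h.e m) : 9 ∣ Nat.card (centralizer ({m} : Set G)) := by
  obtain ⟨g, rfl⟩ := isConj_iff.1 hm
  rw [centralizer_card_conj, ← h.card_D]
  exact card_dvd_of_le fun d hd => mem_centralizer_singleton_iff.2 (h.e_D hd).symm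

/-- An involution conjugate to `e` centralising `y` is `e`. -/
theorem conj_e_cent_y {m : G} (hm : IsConj h.e m) (hy : m * (h.z * h.z') = h.z * h.z' * m) : m = h.e := by
  have hyD : h.z * h.z' ∈ h.D := mul_mem h.z_mem h.z'_mem
  obtain ⟨Q, hQ, hxQ, hQc, hQp, hQm⟩ := h.exists_sylow_cent (h.nine_dvd_conj_e hm) (h.D_cube hyD) hy.symm
  have hQN : Q ≤ normalizer (h.D : Set G) := fun q hq =>
    h.cent_y_le (mem_centralizer_singleton_iff.2 (hQc q hq _ hxQ))
  have hDp : IsPGroup 3 h.D := IsPGroup.of_card (n := 2) (by rw [h.card_D]; norm_num)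
  have hs : IsPGroup 3 (Q ⊔ h.D : Subgroup G) := IsPGroup.to_sup_of_normal_right' hQp hDp hQN
  have hc9 := h.card_three hs (h.card_D ▸ card_dvd_of_le le_sup_right)
  have hD : h.D = Q ⊔ h.D := eq_of_le_of_card_ge le_sup_right (by rw [hc9, h.card_D])
  have hQD : Q = h.D := eq_of_le_of_card_ge (hD.symm ▸ le_sup_left) (by rw [hQ, h.card_D])
  have h2 : m * m = 1 := by
    obtain ⟨g, rfl⟩ := isConj_iff.1 hm
    calc g * h.e * g⁻¹ * (g * h.e * g⁻¹) = g * (h.e * h.e) * g⁻¹ := by group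
      _ = 1 := by rw [h.e_sq]; group
  rcases h.cent_D_invol h2 (hQm _ (hQD ▸ h.z_mem)).symm (hQm _ (hQD ▸ h.z'_mem)).symm with e | e
  · subst e
    exact absurd (isConj_one_left.1 hm) h.e_ne
  · exact e

theorem nine_not_dvd_t : ¬ 9 ∣ Nat.card (centralizer ({h.t} : Set G)) := by
  intro h9
  obtain ⟨Q, hQ, hzQ, hQc, -, hQt⟩ := h.exists_sylow_cent h9 h.z_cube (h.z_f t5)
  obtain ⟨k, hk⟩ := h.conj_D Q hQ
  have hle : Q ≤ zpowers h.z := by
    intro q hq
    obtain ⟨a, p, rfl⟩ := h.cent_cases (hQc q hq _ hzQ)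
    have h3 : (h.z ^ (a : ℕ) * h.r p) ^ 3 = 1 := by
      have e := h.D_cube (hk _ hq)
      rw [conj_pow] at e
      exact conj_eq_one_iff.1 e
    rw [((show Commute h.z (h.r p) from h.z_r p).pow_left (a : ℕ)).mul_pow, ← pow_mul, mul_comm (a : ℕ) 3,
      pow_mul, h.z_cube, one_pow, one_mul] at h3
    have hc := hQt _ hq
    have hpt : h.r p * h.t = h.t * h.r p := by
      refine mul_left_cancel (a := h.z ^ (a : ℕ)) ?_
      rw [← mul_assoc, hc, ← mul_assoc, ← mul_assoc,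
        ((show Commute h.t h.z from (h.z_f t5).symm).pow_right (a : ℕ)).eq]
    rw [three_t5 p (h.r_inj (by rw [map_pow, h3, map_one])) (h.r_inj (by rw [map_mul, map_mul]; exact hpt)),
      map_one, mul_one]
    exact pow_mem (mem_zpowers _) _
  have := Subgroup.card_le_of_le hle
  rw [hQ, Nat.card_zpowers, h.order_z] at this
  norm_num at this

theorem e_not_conj_t : ¬ IsConj h.e h.t := fun hc => h.nine_not_dvd_t (h.nine_dvd_conj_e hc)

end Hyp

end Cfsg.Agent.S8ThreeLocal
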