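import Cfsg.Agent.S8ThreeLocal.CentE
import Cfsg.Agent.A8ThreeLocal.Klein
import Cfsg.Agent.Coprime.Generation

/-!
The centraliser of the four group `f V1`.
-/

set_option autoImplicit false
set_option maxRecDepth 20000
set_option synthInstance.maxSize 2000
set_option synthInstance.maxHeartbeats 400000

namespace Cfsg.Agent.S8ThreeLocal

open Equiv Equiv.Perm Subgroup
open scoped Pointwise
open Cfsg.Agent.A8ThreeLocal (A5 c5 t5 v5 a1 a2 a3 b1 b2 b3 r3 s3 tau InV1 InV2 tauHom cases_pow_three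
  centralizer_card_conj tau_sq c5_klein klein_cube a1_inV1 cube_conj klein_mixed)

theorem three_two_trivial : ∀ r a : Perm (Fin 3), r ^ 3 = 1 → r ≠ 1 → a ^ 2 = 1 →
    (a * (r * a * r⁻¹)) ^ 2 = 1 → a = 1 := by decide +kernel

theorem r3_double : ∀ a : Fin 3, r3 ^ (2 * (a : ℕ)) = 1 → a = 0 := by decide +kernel

theorem sixty_five : ∀ p : Perm (Fin 5), p ^ 60 = 1 := by decide +kernel

theorem three_gen : ∀ r σ : Perm (Fin 3), r ^ 3 = 1 → r ≠ 1 → σ * σ = 1 → σ * r * σ = r⁻¹ →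
    ∀ a : Perm (Fin 3), a = 1 ∨ a = r ∨ a = r⁻¹ ∨ a = σ ∨ a = σ * r ∨ a = σ * r⁻¹ := by decide +kernel

theorem eight_invol : ∀ w : A5, w ^ 8 = 1 → w * w = 1 := by decide +kernel

theorem klein_of_invol : ∀ w : A5, w * w = 1 → w * (c5 * w * c5⁻¹) = c5 * w * c5⁻¹ * w →
    InV1 w ∨ InV2 w := by decide +kernel

theorem klein_facts : InV1 a1 ∧ ¬ InV2 a1 ∧ InV2 b1 ∧ ¬ InV1 b1 ∧
    (∀ p : A5, InV1 p → p * p = 1) ∧ (∀ p : A5, InV2 p → p * p = 1) ∧
    (∀ p : A5, InV1 p → p * a1 = a1 * p ∧ p * a3 = a3 * p) ∧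
    ¬ (tauHom a1 * a1⁻¹ = 1) := by decide +kernel

theorem gen_A5_klein : ∀ p : A5, ∃ k ∈ [1, c5, c5⁻¹], ∃ a ∈ [1, a1, a2, a3], ∃ b ∈ [1, b1, b2, b3],
    ∃ c ∈ [1, a1, a2, a3], ∃ d ∈ [1, b1, b2, b3], p = k * a * b * c * d := by decide +kernel

theorem SE_shape : ∀ p ∈ SE, ∃ n : Fin 3, p = (c5 : Perm (Fin 5)) ^ (n : ℕ) ∨
    p = (t5 : Perm (Fin 5)) * tau * (c5 : Perm (Fin 5)) ^ (n : ℕ) := by decide +kernel

theorem SS_shape : ∀ p ∈ SS, ∃ n : Fin 3, p = (c5 : Perm (Fin 5)) ^ (n : ℕ) ∨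
    p = (t5 : Perm (Fin 5)) * (c5 : Perm (Fin 5)) ^ (n : ℕ) := by decide +kernel

/-- A subgroup inside the union of the two four groups lies in one of them. -/
theorem klein_one {W : Subgroup A5} (h : ∀ w ∈ W, InV1 w ∨ InV2 w) :
    (∀ w ∈ W, InV1 w) ∨ ∀ w ∈ W, InV2 w := by
  by_contra hc
  push Not at hc
  obtain ⟨⟨x, hx, hx1⟩, y, hy, hy2⟩ := hc
  have hx2 := (h x hx).resolve_left hx1
  have hy1 := (h y hy).resolve_right hy2
  rcases klein_mixed y hy1 x hx2 with e | e | ⟨e1, e2⟩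
  · exact hy2 (e ▸ Or.inl rfl)
  · exact hx1 (e ▸ Or.inl rfl)
  · rcases h _ (mul_mem hy hx) with e | e
    · exact e1 e
    · exact e2 e

variable {G : Type*} [Group G] (h : Hyp G)

namespace Hyp

/-- The centraliser of the four group `f V1`. -/
def X : Subgroup G := centralizer ({h.f a1, h.f a3} : Set G)

theorem mem_X {x : G} : x ∈ h.X ↔ x * h.f a1 = h.f a1 * x ∧ x * h.f a3 = h.f a3 * x := by
  rw [X, mem_centralizer_iff]
  simp [eq_comm]

theorem z_X : h.z ∈ h.X := h.mem_X.2 ⟨h.z_f a1, h.z_f a3⟩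
theorem s_X : h.s ∈ h.X := h.mem_X.2 ⟨h.s_f a1, h.s_f a3⟩

theorem X_f {x : G} (hx : x ∈ h.X) : ∀ p, InV1 p → x * h.f p = h.f p * x := by
  obtain ⟨h1, h3⟩ := h.mem_X.1 hx
  rintro p (rfl | rfl | rfl | rfl)
  · simp
  · exact h1
  · rw [← a1_inV1.2.2, map_mul]
    exact ((show Commute x _ from h1).mul_right h3).eq
  · exact h3

theorem f_X {p : A5} (hp : InV1 p) : h.f p ∈ h.X := by
  obtain ⟨e1, e3⟩ := klein_facts.2.2.2.2.2.2.1 p hp
  exact h.mem_X.2 ⟨by rw [← map_mul, ← map_mul, e1], by rw [← map_mul, ← map_mul, e3]⟩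

/-- The four group `f V1`. -/
def V : Subgroup G := A8ThreeLocal.V1.map h.f

theorem mem_V {x : G} : x ∈ h.V ↔ ∃ p, InV1 p ∧ h.f p = x := Iff.rfl

theorem V_le_X : h.V ≤ h.X := by
  rintro _ ⟨p, hp, rfl⟩
  exact h.f_X hp

theorem z'_X {x : G} (hx : x ∈ h.X) : h.z' * x * h.z'⁻¹ ∈ h.X := by
  have key : ∀ q : A5, InV1 q → h.z' * x * h.z'⁻¹ * h.f q = h.f q * (h.z' * x * h.z'⁻¹) := by
    intro q hq
    have e : h.f q = h.z' * h.f (c5 * (c5 * q * c5⁻¹) * c5⁻¹) * h.z'⁻¹ := by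
      rw [z', ← map_inv, ← map_mul, ← map_mul]
      have e3 : c5 * c5 * c5 = 1 := by decide +kernel
      congr 1
      calc q = (c5 * c5 * c5) * q * (c5 * c5 * c5)⁻¹ := by rw [e3]; simp
        _ = _ := by group
    set w := h.f (c5 * (c5 * q * c5⁻¹) * c5⁻¹)
    have hw : x * w = w * x := h.X_f hx _ (c5_klein _ (c5_klein _ hq))
    rw [e]
    calc h.z' * x * h.z'⁻¹ * (h.z' * w * h.z'⁻¹) = h.z' * (x * w) * h.z'⁻¹ := by group
      _ = h.z' * (w * x) * h.z'⁻¹ := by rw [hw]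
      _ = _ := by group
  exact h.mem_X.2 ⟨key a1 a1_inV1.1, key a3 a1_inV1.2.1⟩

theorem e_not_X : h.e ∉ h.X := fun hx => by
  have h1 : h.e * h.f a1 * h.e = h.f a1 := by
    rw [(h.mem_X.1 hx).1, mul_assoc, h.e_sq, mul_one]
  rw [h.e_f] at h1
  exact klein_facts.2.2.2.2.2.2.2 (by rw [h.f_inj h1, mul_inv_cancel])

theorem X_cent_z {x : G} (hx : x ∈ h.X) (hz : x * h.z = h.z * x) :
    ∃ (a : Fin 3) (q : A5), InV1 q ∧ x = h.z ^ (a : ℕ) * h.f q := by
  obtain ⟨a, p, hp⟩ := h.cent_cases hz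
  have hrX : h.r p ∈ h.X := by
    rw [show h.r p = (h.z ^ (a : ℕ))⁻¹ * x by rw [hp]; group]
    exact mul_mem (inv_mem (pow_mem h.z_X _)) hx
  obtain ⟨e1, e3⟩ := h.mem_X.1 hrX
  obtain ⟨q, hq, rfl⟩ := cent_V1 p (h.r_inj (by rw [map_mul, map_mul]; exact e1))
    (h.r_inj (by rw [map_mul, map_mul]; exact e3))
  exact ⟨a, q, hq, hp⟩

/-- The part of `X` centralising the partner of `z`, together with `f V1`. -/
def L : Subgroup G := h.V ⊔ (h.X ⊓ centralizer ({h.z'} : Set G))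

theorem L_form {x : G} (hx : x ∈ h.L) : ∃ q, InV1 q ∧ ∃ w ∈ h.X, w * h.z' = h.z' * w ∧ x = h.f q * w := by
  have hle : h.V ≤ normalizer ((h.X ⊓ centralizer ({h.z'} : Set G) : Subgroup G) : Set G) := by
    refine le_trans ?_ (centralizer_le_normalizer _)
    rintro _ ⟨p, hp, rfl⟩
    exact mem_centralizer_iff.2 fun w hw => h.X_f (mem_inf.1 hw).1 p hp
  rw [L, ← SetLike.mem_coe, Subgroup.coe_mul_of_left_le_normalizer_right _ _ hle] at hx
  obtain ⟨_, ⟨q, hq, rfl⟩, w, hw, rfl⟩ := hx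
  obtain ⟨hw1, hw2⟩ := mem_inf.1 hw
  exact ⟨q, hq, w, hw1, mem_centralizer_singleton_iff.1 hw2, rfl⟩

theorem mem_L_right {x : G} (hx : x ∈ h.X) (hz : x * h.z' = h.z' * x) : x ∈ h.L :=
  mem_sup_right (mem_inf.2 ⟨hx, mem_centralizer_singleton_iff.2 hz⟩)

variable [Finite G]

theorem z'_cube : h.z' ^ 3 = 1 := h.D_cube h.z'_mem

theorem nine_not_dvd_X : ¬ 9 ∣ Nat.card h.X := by
  intro h9
  have : Fact (Nat.Prime 3) := ⟨Nat.prime_three⟩
  let zX : h.X := ⟨h.z, h.z_X⟩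
  obtain ⟨P, hP⟩ := (IsPGroup.of_card (p := 3) (n := 1) (G := zpowers zX)
    (by rw [Nat.card_zpowers, orderOf_mk, h.order_z, pow_one])).exists_le_sylow
  have hcard : Nat.card ((P : Subgroup h.X).map h.X.subtype) = 9 := by
    refine h.card_three (P.2.map _) ?_
    rw [card_map_of_injective Subtype.val_injective]
    exact P.pow_dvd_card_of_pow_dvd_card (n := 2) (by simpa using h9)
  obtain ⟨k, hk⟩ := h.conj_D _ hcard
  have hsub : (P : Subgroup h.X).map h.X.subtype ≤ zpowers h.z := by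
    rintro _ ⟨x, hx, rfl⟩
    have hc := h.D_comm _ (hk x ⟨x, hx, rfl⟩) _ (hk h.z ⟨zX, hP (mem_zpowers zX), rfl⟩)
    have hxz : (x : G) * h.z = h.z * x := by
      have e := congrArg (fun w => k⁻¹ * w * k) hc
      simpa [mul_assoc] using e
    have hx3 : (x : G) ^ 3 = 1 := by
      have e := h.D_cube (hk x ⟨x, hx, rfl⟩)
      rw [conj_pow] at e
      exact conj_eq_one_iff.1 e
    obtain ⟨a, q, hq, e⟩ := h.X_cent_z x.2 hxz
    rw [e, ((show Commute h.z (h.f q) from h.z_f q).pow_left (a : ℕ)).mul_pow, ← pow_mul, mul_comm (a : ℕ) 3,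
      pow_mul, h.z_cube, one_pow, one_mul, ← map_pow] at hx3
    show (x : G) ∈ zpowers h.z
    rw [e, klein_cube q hq (h.f_inj (hx3.trans (map_one _).symm)), map_one, mul_one]
    exact pow_mem (mem_zpowers _) _
  have := Subgroup.card_le_of_le hsub
  rw [hcard, Nat.card_zpowers, h.order_z] at this
  norm_num at this

/-- Invariant subgroups of order prime to three. -/
theorem invariant_le_L (S : Subgroup G) (hSX : S ≤ h.X) (h3 : ¬ 3 ∣ Nat.card S)
    (hzS : ∀ w ∈ S, h.z * w * h.z⁻¹ ∈ S) (hz'S : ∀ w ∈ S, h.z' * w * h.z'⁻¹ ∈ S) : S ≤ h.L := by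
  have hDS : h.D ≤ normalizer (S : Set G) := by
    have gen : ∀ d : G, (∀ w ∈ S, d * w * d⁻¹ ∈ S) → d ∈ normalizer (S : Set G) := by
      intro d hd
      have hle : S.map (MulAut.conj d).toMonoidHom ≤ S := by rintro _ ⟨w, hw, rfl⟩; exact hd w hw
      have heq := eq_of_le_of_card_ge hle (card_map_of_injective (MulAut.conj d).injective).ge
      rw [Subgroup.mem_normalizer_iff]
      intro x
      refine ⟨hd x, fun hx => ?_⟩
      obtain ⟨w, hw, e⟩ : d * x * d⁻¹ ∈ S.map (MulAut.conj d).toMonoidHom := heq.symm ▸ hx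
      exact (MulAut.conj d).injective e ▸ hw
    intro d hd
    obtain ⟨a, b, rfl⟩ := h.mem_D hd
    rw [h.dd_eq]
    exact mul_mem (pow_mem (gen _ hzS) _) (pow_mem (gen _ hz'S) _)
  have hcop : (Nat.card h.D).Coprime (Nat.card S) := by
    rw [h.card_D, show 9 = 3 ^ 2 by norm_num]
    exact Nat.Coprime.pow_left 2 ((Nat.prime_three.coprime_iff_not_dvd).2 h3)
  have hnc : ¬ IsCyclic h.D := by
    intro hc
    obtain ⟨g, hg⟩ := IsCyclic.exists_ofOrder_eq_natCard (α := h.D)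
    have h3' : orderOf g ∣ 3 := orderOf_dvd_of_pow_eq_one (Subtype.ext (h.D_cube g.2))
    rw [hg, h.card_D] at h3'
    norm_num at h3'
  have : IsMulCommutative h.D := ⟨⟨fun a b => Subtype.ext (h.D_comm _ a.2 _ b.2)⟩⟩
  rw [← Coprime.iSup_centralizer_eq hnc hDS hcop]
  refine iSup₂_le fun d hd w hw => ?_
  obtain ⟨hdD, hd1⟩ := hd
  obtain ⟨hwS, hwd⟩ := mem_inf.1 hw
  rw [mem_centralizer_singleton_iff] at hwd
  have hwm : w ^ Nat.card S = 1 := congrArg Subtype.val (pow_card_eq_one' (x := (⟨w, hwS⟩ : S)))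
  obtain ⟨a, b, rfl⟩ := h.mem_D hdD
  rw [h.dd_eq] at hwd hd1
  have hpow : ∀ (x : G) (n : Fin 3), n ≠ 0 → x ^ 3 = 1 → w * x ^ (n : ℕ) = x ^ (n : ℕ) * w → w * x = x * w := by
    intro x n hn hx hgx
    fin_cases n
    · exact absurd rfl hn
    · simpa using hgx
    · have := (show Commute w (x ^ 2) from hgx).pow_right 2
      rw [← pow_mul, pow_succ, hx, one_mul] at this
      exact this
  by_cases hb : b = 0
  · subst hb
    simp only [Fin.val_zero, pow_zero, mul_one] at hwd hd1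
    have ha : a ≠ 0 := by rintro rfl; simp at hd1
    have hwz := hpow h.z a ha h.z_cube hwd
    obtain ⟨p, hp⟩ := h.cent_cases_prime hwz hwm h3
    obtain ⟨a', q, hq, hq'⟩ := h.X_cent_z (hSX hwS) hwz
    have := (h.coord_inj (a := 0) (p := p) (b := a') (q := (q : Perm (Fin 5)))
      (by rw [Fin.val_zero, pow_zero, one_mul, ← hp]; exact hq')).1
    subst this
    rw [hq', Fin.val_zero, pow_zero, one_mul]
    exact mem_sup_left ⟨q, hq, rfl⟩
  by_cases ha : a = 0
  · subst ha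
    simp only [Fin.val_zero, pow_zero, one_mul] at hwd
    exact h.mem_L_right (hSX hwS) (hpow h.z' b hb h.z'_cube hwd)
  have hwN : w ∈ normalizer (h.D : Set G) :=
    (h.mixed_cent ha hb).2 (mem_centralizer_singleton_iff.2 (by rw [h.dd_eq]; exact hwd))
  have key : ∀ d ∈ h.D, w * d = d * w := by
    intro d hd
    have m1 : w * d * w⁻¹ * d⁻¹ ∈ h.D := mul_mem ((Subgroup.mem_normalizer_iff.1 hwN d).1 hd) (inv_mem hd)
    have m2 : w * d * w⁻¹ * d⁻¹ ∈ S := by
      have := mul_mem hwS ((Subgroup.mem_normalizer_iff.1 (hDS hd) w⁻¹).1 (inv_mem hwS))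
      simpa [mul_assoc] using this
    have e1 : w * d * w⁻¹ * d⁻¹ = 1 := by
      have d3 : orderOf (w * d * w⁻¹ * d⁻¹) ∣ 3 := orderOf_dvd_of_pow_eq_one (h.D_cube m1)
      rcases (Nat.dvd_prime Nat.prime_three).1 d3 with e | e
      · exact orderOf_eq_one_iff.1 e
      · have := _root_.orderOf_dvd_natCard (⟨_, m2⟩ : S)
        rw [← orderOf_coe, e] at this
        exact absurd this h3
    exact mul_inv_eq_iff_eq_mul.1 (mul_inv_eq_one.1 e1)
  have hsmall : ∀ g : G, g ∈ h.D → g ^ Nat.card S = 1 → g = 1 := by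
    intro g hg hgm
    have d3 : orderOf g ∣ 3 := orderOf_dvd_of_pow_eq_one (h.D_cube hg)
    rcases (Nat.dvd_prime Nat.prime_three).1 d3 with e | e
    · exact orderOf_eq_one_iff.1 e
    · exact absurd (e ▸ orderOf_dvd_of_pow_eq_one hgm) h3
  rcases h.cent_D w (key _ h.z_mem) (key _ h.z'_mem) with hwD | hwe
  · rw [hsmall w hwD hwm]; exact one_mem _
  · exfalso
    set d := w * h.psi eP with hd'
    have hw' : w = d * h.e := by
      show w = w * h.e * h.e
      rw [mul_assoc, h.e_sq, mul_one]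
    have hc : Commute d h.e := (h.e_D hwe).symm
    have h1 : d ^ (2 * Nat.card S) = 1 := by
      have e2 : w ^ (2 * Nat.card S) = 1 := by rw [mul_comm, pow_mul, hwm, one_pow]
      rw [hw', hc.mul_pow, pow_mul h.e, pow_two, h.e_sq, one_pow, mul_one] at e2
      exact e2
    have hd1' : d = 1 := by
      have d3 : orderOf d ∣ 3 := orderOf_dvd_of_pow_eq_one (h.D_cube hwe)
      rcases (Nat.dvd_prime Nat.prime_three).1 d3 with e | e
      · exact orderOf_eq_one_iff.1 e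
      · have := e ▸ orderOf_dvd_of_pow_eq_one h1
        rcases Nat.prime_three.dvd_mul.1 this with e' | e'
        · norm_num at e'
        · exact absurd e' h3
    rw [hd1', one_mul] at hw'
    exact h.e_not_X (hw' ▸ hSX hwS)

theorem seven_not : ¬ ∃ Q : Subgroup G, Nat.card Q = 7 ∧
    ∀ d ∈ h.D, ∀ q ∈ Q, d * q * d⁻¹ ∈ Q := by
  rintro ⟨Q, hQ, hDQ⟩
  obtain ⟨q, hq, hq1⟩ := (Subgroup.bot_or_exists_ne_one Q).resolve_left fun e => by
    rw [e, card_bot] at hQ; omega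
  obtain ⟨d, d', hne, hdd⟩ : ∃ d d' : h.D, d ≠ d' ∧ (d : G) * q * (d : G)⁻¹ = (d' : G) * q * (d' : G)⁻¹ := by
    by_contra! hc
    have hinj : Function.Injective (fun d : h.D => (⟨(d : G) * q * (d : G)⁻¹, hDQ d d.2 q hq⟩ : Q)) :=
      fun a b e => by_contra fun hab => hc a b hab (congrArg Subtype.val e)
    have := Nat.card_le_card_of_injective _ hinj
    rw [h.card_D, hQ] at this
    omega
  set r := (d' : G)⁻¹ * d with hr
  have hrD : r ∈ h.D := mul_mem (inv_mem d'.2) d.2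
  have hr1 : r ≠ 1 := fun e => hne (Subtype.ext (inv_mul_eq_one.1 e).symm)
  have hqr : q ∈ centralizer ({r} : Set G) := by
    rw [mem_centralizer_singleton_iff]
    calc q * r = (d' : G)⁻¹ * ((d' : G) * q * (d' : G)⁻¹) * d := by rw [hr]; group
      _ = (d' : G)⁻¹ * ((d : G) * q * (d : G)⁻¹) * d := by rw [hdd]
      _ = r * q := by rw [hr]; group
  have : Fact (Nat.Prime 7) := ⟨by norm_num⟩
  have hoq : orderOf q = 7 := by
    rcases (Nat.dvd_prime (by norm_num : Nat.Prime 7)).1 (hQ ▸ Subgroup.orderOf_dvd_natCard Q hq) with e | e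
    · exact absurd (orderOf_eq_one_iff.1 e) hq1
    · exact e
  have h7 := Subgroup.orderOf_dvd_natCard _ hqr
  rw [hoq] at h7
  obtain ⟨a, b, hab⟩ := h.mem_D hrD
  by_cases hmix : a ≠ 0 ∧ b ≠ 0
  · rw [hab, (h.mixed_cent hmix.1 hmix.2).1] at h7
    norm_num at h7
  have hsq : ∀ w : G, w ^ 3 = 1 → centralizer ({w ^ 2} : Set G) = centralizer ({w} : Set G) := by
    intro w hw
    ext g
    simp only [mem_centralizer_singleton_iff]
    exact ⟨fun hg => by
      have := Commute.pow_right hg 2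
      rwa [← pow_mul, pow_succ, hw, one_mul] at this, fun hg => Commute.pow_right hg 2⟩
  have h360 : Nat.card (centralizer ({r} : Set G)) = 360 := by
    have hcz : Nat.card (centralizer ({h.z} : Set G)) = 360 := h.card_cz
    have hz' : Nat.card (centralizer ({h.z'} : Set G)) = 360 := by
      rw [← h.i_z_eq]; nth_rw 2 [← h.i_inv]; rw [centralizer_card_conj]; exact h.card_cz
    rw [h.dd_eq] at hab
    rcases not_and_or.1 hmix with ha | hb
    · rw [not_not] at ha; subst ha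
      fin_cases b
      · exact absurd (by simpa using hab) hr1
      · simpa [hab] using hz'
      · simpa [hab, hsq _ h.z'_cube] using hz'
    · rw [not_not] at hb; subst hb
      fin_cases a
      · exact absurd (by simpa using hab) hr1
      · simpa [hab] using hcz
      · simpa [hab, hsq _ h.z_cube] using hcz
  rw [h360] at h7
  norm_num at h7

/-- `X` is `f V1` times its part centralising the partner of `z`. -/
theorem X_le_L : h.X ≤ h.L := by
  classical
  set Vs : Subgroup h.X := h.V.subgroupOf h.X with hVs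
  have hVc : ∀ v ∈ Vs, v * v = 1 ∧ ∀ x : h.X, x * v = v * x := by
    rintro v ⟨p, hp, e⟩
    refine ⟨Subtype.ext ?_, fun x => Subtype.ext ?_⟩
    · show (v : G) * v = 1
      rw [show (v : G) = h.f p from e.symm, ← map_mul, klein_facts.2.2.2.2.1 p hp, map_one]
    · show (x : G) * v = v * x
      rw [show (v : G) = h.f p from e.symm]
      exact h.X_f x.2 p hp
  have hVn : Vs.Normal := ⟨fun v hv x => by rw [(hVc v hv).2 x, mul_inv_cancel_right]; exact hv⟩
  let zX : h.X := ⟨h.z, h.z_X⟩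
  let sX : h.X := ⟨h.s, h.s_X⟩
  have hzX3 : zX ^ 3 = 1 := Subtype.ext h.z_cube
  have hsc : SelfCentThree.Sc (QuotientGroup.mk' Vs zX) := by
    refine sc_mk Vs hVc hzX3 (fun e => h.z_ne (congrArg Subtype.val e)) fun y hy => ?_
    obtain ⟨a, q, hq, e⟩ := h.X_cent_z y.2 (congrArg Subtype.val hy)
    exact ⟨a, ⟨h.f q, h.f_X hq⟩, ⟨q, hq, rfl⟩, Subtype.ext e⟩
  let cz : h.X →* h.X :=
    { toFun := fun x => ⟨h.z' * x * h.z'⁻¹, h.z'_X x.2⟩
      map_one' := Subtype.ext (by simp)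
      map_mul' := fun a b => Subtype.ext (by simp [mul_assoc]) }
  have hczz : cz zX = zX := Subtype.ext (by
    show h.z' * h.z * h.z'⁻¹ = h.z
    rw [show h.z' * h.z = h.z * h.z' from h.D_comm _ h.z'_mem _ h.z_mem, mul_inv_cancel_right])
  have hzL : h.z ∈ h.L := h.mem_L_right h.z_X (h.D_comm _ h.z_mem _ h.z'_mem)
  have hsL : h.s ∈ h.L := h.mem_L_right h.s_X h.s_z'
  have hsub : ∀ S : Subgroup h.X, ¬ 3 ∣ Nat.card S → (∀ w ∈ S, zX * w * zX⁻¹ ∈ S) → (∀ w ∈ S, cz w ∈ S) →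
      ∀ w ∈ S, (w : G) ∈ h.L := by
    intro S hS3 hz hz' w hw
    refine h.invariant_le_L (S.map h.X.subtype) (map_subtype_le _)
      (by rwa [card_map_of_injective Subtype.val_injective]) ?_ ?_ ⟨w, hw, rfl⟩
    · rintro _ ⟨u, hu, rfl⟩; exact ⟨_, hz u hu, rfl⟩
    · rintro _ ⟨u, hu, rfl⟩; exact ⟨_, hz' u hu, rfl⟩
  set π := QuotientGroup.mk' Vs
  have hV4 : Nat.card Vs ∣ 4 := by
    rw [hVs, Nat.card_congr (subgroupOfEquivOfLe h.V_le_X).toEquiv, V, card_map_of_injective h.f_inj]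
    have e : Nat.card A8ThreeLocal.V1 = ([1, a1, a2, a3] : List A5).toFinset.card :=
      Nat.subtype_card _ (fun x => by simp [A8ThreeLocal.V1, InV1])
    rw [e]
    decide +kernel
  have hcomap : ∀ N : Subgroup (h.X ⧸ Vs), Nat.card (N.comap π) = Nat.card N * Nat.card Vs := by
    intro N
    have h1 := (N.comap π).card_mul_index
    rw [index_comap_of_surjective _ (QuotientGroup.mk'_surjective Vs),
      card_eq_card_quotient_mul_card_subgroup Vs, ← N.card_mul_index] at h1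
    exact Nat.eq_of_mul_eq_mul_right (Nat.pos_of_ne_zero N.index_ne_zero_of_finite) (by rw [h1]; ring)
  have hz3 : π zX ^ 3 = 1 := hsc.cube
  have hss : π sX * π sX = 1 := by rw [← map_mul, show sX * sX = 1 from Subtype.ext h.s_sq, map_one]
  have hinv : π sX * π zX * π sX = (π zX)⁻¹ := by
    rw [← map_mul, ← map_mul, show sX * zX * sX = zX⁻¹ from Subtype.ext h.s_z, map_inv]
  rcases SelfCentThree.concl _ (h.X ⧸ Vs) rfl (π zX) hsc with
      ⟨N, hN, -, hcop, h3 | ⟨⟨e3⟩⟩⟩ | ⟨N, hN, -, hNsq, ⟨e5⟩⟩ | ⟨⟨e7⟩⟩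
  · exact (no_index_three N hcop h3 hz3 hsc.ne hss hinv).elim
  · -- the quotient is the symmetric group of degree three
    set φ : h.X →* Perm (Fin 3) := (e3.toMonoidHom.comp (QuotientGroup.mk' N)).comp π
    set S := N.comap π with hS
    have hker : ∀ w, w ∈ S ↔ φ w = 1 := fun w => by
      show π w ∈ N ↔ e3 (QuotientGroup.mk' N (π w)) = 1
      rw [map_eq_one_iff _ e3.injective, QuotientGroup.mk'_apply N, QuotientGroup.eq_one_iff]
    have hS3 : ¬ 3 ∣ Nat.card S := by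
      rw [hS, hcomap]
      intro hd
      rcases Nat.prime_three.dvd_mul.1 hd with e | e
      · have h31 : 3 ∣ Nat.gcd (Nat.card N) 3 := Nat.dvd_gcd e dvd_rfl
        rw [hcop] at h31
        norm_num at h31
      · have := e.trans hV4; norm_num at this
    have hr3 : φ zX ^ 3 = 1 := by rw [← map_pow, hzX3, map_one]
    have hr1 : φ zX ≠ 1 := by
      intro e
      have hz := (hker zX).2 e
      have := Subgroup.orderOf_dvd_natCard S hz
      have ho : orderOf zX = 3 := by rw [orderOf_mk]; exact h.order_z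
      rw [ho] at this
      exact hS3 this
    have hnS : ∀ w ∈ S, ∀ g, g * w * g⁻¹ ∈ S := fun w hw g => (hker _).2 (by
      rw [map_mul, map_mul, map_inv, (hker w).1 hw, mul_one, mul_inv_cancel])
    have hinvS : ∀ w ∈ S, cz w ∈ S := by
      have h2 : ∀ w ∈ S, φ (cz w) ^ 2 = 1 := by
        intro w hw
        have hm : w ^ Nat.card S = 1 := congrArg Subtype.val (pow_card_eq_one' (x := (⟨w, hw⟩ : S)))
        have h6 : orderOf (φ (cz w)) ∣ 6 := by
          have := _root_.orderOf_dvd_natCard (φ (cz w))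
          rwa [Nat.card_perm, Nat.card_fin] at this
        have hd : orderOf (φ (cz w)) ∣ Nat.card S := orderOf_dvd_of_pow_eq_one (by rw [← map_pow, ← map_pow, hm, map_one, map_one])
        refine orderOf_dvd_iff_pow_eq_one.1 ?_
        have h36 : Nat.gcd 6 (Nat.card S) ∣ 2 := by
          have hc : Nat.Coprime (Nat.card S) 3 := ((Nat.prime_three.coprime_iff_not_dvd).2 hS3).symm
          rw [show 6 = 2 * 3 from rfl, Nat.gcd_comm, Nat.Coprime.gcd_mul_right_cancel_right 2 hc.symm]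
          exact Nat.gcd_dvd_right _ _
        exact (Nat.dvd_gcd h6 hd).trans h36
      intro w hw
      have hw' : w * (zX * w * zX⁻¹) ∈ S := mul_mem hw (hnS w hw zX)
      have hb := h2 _ hw'
      rw [map_mul cz, map_mul cz, map_mul cz, map_inv cz, hczz, map_mul φ, map_mul φ, map_mul φ, map_inv φ] at hb
      exact (hker _).2 (three_two_trivial _ _ hr3 hr1 (h2 w hw) hb)
    have hSL := hsub S hS3 (fun w hw => hnS w hw zX) hinvS
    intro x hx
    have hgen := three_gen (φ zX) (φ sX) hr3 hr1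
      (by rw [← map_mul, show sX * sX = 1 from Subtype.ext h.s_sq, map_one])
      (by rw [← map_mul, ← map_mul, show sX * zX * sX = zX⁻¹ from Subtype.ext h.s_z, map_inv]) (φ ⟨x, hx⟩)
    have key : ∀ c : h.X, (c : G) ∈ h.L → φ ⟨x, hx⟩ = φ c → x ∈ h.L := by
      intro c hc e
      have hm : c⁻¹ * ⟨x, hx⟩ ∈ S := (hker _).2 (by rw [map_mul, map_inv, e, inv_mul_cancel])
      have := mul_mem hc (hSL _ hm)
      simpa using this
    rcases hgen with e | e | e | e | e | e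
    · exact key 1 (one_mem _) (by rw [e, map_one])
    · exact key zX hzL e
    · exact key zX⁻¹ (inv_mem hzL) (by rw [e, map_inv])
    · exact key sX hsL e
    · exact key (sX * zX) (mul_mem hsL hzL) (by rw [e, map_mul])
    · exact key (sX * zX⁻¹) (mul_mem hsL (inv_mem hzL)) (by rw [e, map_mul, map_inv])
  · -- the quotient is the alternating group of degree five
    set φ0 : h.X →* A5 := (e5.toMonoidHom.comp (QuotientGroup.mk' N)).comp π
    have hφ0s : Function.Surjective φ0 :=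
      (e5.surjective.comp (QuotientGroup.mk'_surjective N)).comp (QuotientGroup.mk'_surjective Vs)
    have hker4 : ∀ w, φ0 w = 1 → w ^ 4 = 1 := by
      intro w hw
      have hwN : π w ∈ N := by
        have : QuotientGroup.mk' N (π w) = 1 := e5.injective (hw.trans (map_one e5).symm)
        exact (QuotientGroup.eq_one_iff _).1 this
      have h2 := hNsq _ hwN
      rw [← map_pow] at h2
      have h2' : w ^ 2 ∈ Vs := (QuotientGroup.eq_one_iff _).1 h2
      rw [show w ^ 4 = w ^ 2 * w ^ 2 by rw [← pow_add], (hVc _ h2').1]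
    have hne : φ0 zX ≠ 1 := fun e => by
      have := hker4 _ e
      rw [pow_succ, hzX3, one_mul] at this
      exact h.z_ne (congrArg Subtype.val this)
    obtain ⟨σ, hσ⟩ := cube_conj (φ0 zX) (by rw [← map_pow, hzX3, map_one]) hne
    set φ : h.X →* A5 := (MulAut.conj σ⁻¹).toMonoidHom.comp φ0 with hφ
    have hφs : Function.Surjective φ := (MulAut.conj σ⁻¹).surjective.comp hφ0s
    have hφk : ∀ w, φ w = 1 → w ^ 4 = 1 := fun w hw =>
      hker4 w ((MulAut.conj σ⁻¹).injective (hw.trans (map_one _).symm))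
    have hφz : φ zX = c5 := by
      show σ⁻¹ * φ0 zX * σ⁻¹⁻¹ = c5
      rw [← hσ]; group
    set P1 := A8ThreeLocal.V1.comap φ
    set P2 := A8ThreeLocal.V2.comap φ
    have h8 : ∀ w ∈ P1, w ^ 8 = 1 := by
      intro w hw
      have : φ (w ^ 2) = 1 := by rw [map_pow, pow_two]; exact klein_facts.2.2.2.2.1 _ hw
      rw [show w ^ 8 = (w ^ 2) ^ 4 by rw [← pow_mul], hφk _ this]
    have h8' : ∀ w ∈ P2, w ^ 8 = 1 := by
      intro w hw
      have : φ (w ^ 2) = 1 := by rw [map_pow, pow_two]; exact klein_facts.2.2.2.2.2.1 _ hw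
      rw [show w ^ 8 = (w ^ 2) ^ 4 by rw [← pow_mul], hφk _ this]
    have hconj : ∀ q : A5, (InV1 q → InV1 (c5 * q * c5⁻¹)) ∧ (InV2 q → InV2 (c5 * q * c5⁻¹)) := by decide +kernel
    have hzP1 : ∀ w ∈ P1, zX * w * zX⁻¹ ∈ P1 := fun w hw => by
      show InV1 (φ (zX * w * zX⁻¹))
      rw [map_mul, map_mul, map_inv, hφz]; exact (hconj _).1 hw
    have hzP2 : ∀ w ∈ P2, zX * w * zX⁻¹ ∈ P2 := fun w hw => by
      show InV2 (φ (zX * w * zX⁻¹))
      rw [map_mul, map_mul, map_inv, hφz]; exact (hconj _).2 hw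
    have himage : ∀ P : Subgroup h.X, (∀ w ∈ P, w ^ 8 = 1) → (∀ w ∈ P, zX * w * zX⁻¹ ∈ P) →
        (∀ w ∈ P, cz w ∈ P1) ∨ ∀ w ∈ P, cz w ∈ P2 := by
      intro P hP8 hPz
      have hW : ∀ q ∈ P.map (φ.comp cz), InV1 q ∨ InV2 q := by
        rintro _ ⟨w, hw, rfl⟩
        have e1 : φ (cz w) * φ (cz w) = 1 := eight_invol _ (by rw [← map_pow, ← map_pow, hP8 w hw, map_one, map_one])
        have hw2 := hPz w hw
        have e2 : φ (cz (zX * w * zX⁻¹)) * φ (cz (zX * w * zX⁻¹)) = 1 :=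
          eight_invol _ (by rw [← map_pow, ← map_pow, hP8 _ hw2, map_one, map_one])
        have e3 : φ (cz (w * (zX * w * zX⁻¹))) * φ (cz (w * (zX * w * zX⁻¹))) = 1 :=
          eight_invol _ (by rw [← map_pow, ← map_pow, hP8 _ (mul_mem hw hw2), map_one, map_one])
        have e4 : φ (cz (zX * w * zX⁻¹)) = c5 * φ (cz w) * c5⁻¹ := by
          simp only [map_mul, map_inv, hczz, hφz]
        rw [map_mul, map_mul, e4] at e3
        rw [e4] at e2
        refine klein_of_invol _ e1 ?_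
        show φ (cz w) * (c5 * φ (cz w) * c5⁻¹) = c5 * φ (cz w) * c5⁻¹ * φ (cz w)
        have := inv_eq_of_mul_eq_one_right e3
        rw [← this, mul_inv_rev, inv_eq_of_mul_eq_one_right e1, inv_eq_of_mul_eq_one_right e2]
      rcases klein_one hW with e | e
      · exact Or.inl fun w hw => e _ ⟨w, hw, rfl⟩
      · exact Or.inr fun w hw => e _ ⟨w, hw, rfl⟩
    have hcz3 : ∀ w, cz (cz (cz w)) = w := fun w => Subtype.ext (by
      show h.z' * (h.z' * (h.z' * w * h.z'⁻¹) * h.z'⁻¹) * h.z'⁻¹ = w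
      calc h.z' * (h.z' * (h.z' * (w : G) * h.z'⁻¹) * h.z'⁻¹) * h.z'⁻¹ = h.z' ^ 3 * w * (h.z' ^ 3)⁻¹ := by
            rw [pow_succ, pow_two]; group
        _ = w := by rw [h.z'_cube]; simp)
    have hnot : ¬ (∀ w ∈ P1, w ∈ P2) ∧ ¬ (∀ w ∈ P2, w ∈ P1) := by
      constructor
      · intro hle
        obtain ⟨w, hw⟩ := hφs a1
        exact klein_facts.2.1 (hw ▸ hle w (show InV1 (φ w) from hw ▸ klein_facts.1))
      · intro hle
        obtain ⟨w, hw⟩ := hφs b1
        exact klein_facts.2.2.2.1 (hw ▸ hle w (show InV2 (φ w) from hw ▸ klein_facts.2.2.1))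
    have i1 := himage P1 h8 hzP1
    have i2 := himage P2 h8' hzP2
    have hfix : (∀ w ∈ P1, cz w ∈ P1) ∧ ∀ w ∈ P2, cz w ∈ P2 := by
      constructor
      · rcases i1 with e | e
        · exact e
        · rcases i2 with e' | e'
          · intro w hw
            have := e _ (e' _ (e w hw))
            have h2 := e' _ this
            rwa [hcz3] at h2
          · exfalso
            refine hnot.1 fun w hw => ?_
            have := e' _ (e' _ (e w hw))
            rwa [hcz3] at this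
      · rcases i2 with e | e
        · rcases i1 with e' | e'
          · exfalso
            refine hnot.2 fun w hw => ?_
            have := e' _ (e' _ (e w hw))
            rwa [hcz3] at this
          · intro w hw
            have := e _ (e' _ (e w hw))
            have h2 := e' _ this
            rwa [hcz3] at h2
        · exact e
    have h3P : ∀ P : Subgroup h.X, (∀ w ∈ P, w ^ 8 = 1) → ¬ 3 ∣ Nat.card P := by
      intro P hP8 hd
      have : Fact (Nat.Prime 3) := ⟨Nat.prime_three⟩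
      obtain ⟨w, hw⟩ := exists_prime_orderOf_dvd_card' (G := P) 3 hd
      have h1 : w ^ 8 = 1 := Subtype.ext (hP8 w w.2)
      have := orderOf_dvd_of_pow_eq_one h1
      rw [hw] at this
      norm_num at this
    have L1 := hsub P1 (h3P P1 h8) hzP1 hfix.1
    have L2 := hsub P2 (h3P P2 h8') hzP2 hfix.2
    intro x hx
    obtain ⟨k, hk, a, ha, b, hb, c, hc, d, hd, e⟩ := gen_A5_klein (φ ⟨x, hx⟩)
    have hL : ∀ q : A5, InV1 q ∨ InV2 q → ∃ w : h.X, (w : G) ∈ h.L ∧ φ w = q := by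
      intro q hq
      obtain ⟨w, rfl⟩ := hφs q
      exact ⟨w, hq.elim (L1 w) (L2 w), rfl⟩
    obtain ⟨k', hk', ek⟩ : ∃ w : h.X, (w : G) ∈ h.L ∧ φ w = k := by
      simp only [List.mem_cons, List.not_mem_nil, or_false] at hk
      rcases hk with rfl | rfl | rfl
      · exact ⟨1, one_mem _, map_one _⟩
      · exact ⟨zX, hzL, hφz⟩
      · exact ⟨zX⁻¹, inv_mem hzL, by rw [map_inv, hφz]⟩
    obtain ⟨a', ha', ea⟩ := hL a (Or.inl (by simpa [InV1] using ha))
    obtain ⟨b', hb', eb⟩ := hL b (Or.inr (by simpa [InV2] using hb))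
    obtain ⟨c', hc', ec⟩ := hL c (Or.inl (by simpa [InV1] using hc))
    obtain ⟨d', hd', ed⟩ := hL d (Or.inr (by simpa [InV2] using hd))
    set w := k' * a' * b' * c' * d'
    have hw : φ (w⁻¹ * ⟨x, hx⟩) = 1 := by
      rw [map_mul, map_inv, e]; simp only [w, map_mul, ek, ea, eb, ec, ed, inv_mul_cancel]
    have hwL : (w : G) ∈ h.L := by
      simp only [w, Subgroup.coe_mul]
      exact mul_mem (mul_mem (mul_mem (mul_mem hk' ha') hb') hc') hd'
    have := mul_mem hwL (L1 _ (show InV1 (φ (w⁻¹ * ⟨x, hx⟩)) from Or.inl hw))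
    simpa using this
  · -- the simple group of order 168
    exfalso
    have hcard : Nat.card h.X ∣ 168 * 4 := by
      rw [card_eq_card_quotient_mul_card_subgroup Vs, Nat.card_congr e7.toEquiv, SelfCentThree.psl_seven.2]
      exact Nat.mul_dvd_mul_left 168 hV4
    have h7 : 7 ∣ Nat.card h.X := by
      refine dvd_trans ?_ (card_quotient_dvd_card Vs)
      rw [Nat.card_congr e7.toEquiv, SelfCentThree.psl_seven.2]; norm_num
    have : Fact (Nat.Prime 7) := ⟨by norm_num⟩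
    have : Fact (Nat.Prime 3) := ⟨Nat.prime_three⟩
    have hDX : ∀ d : h.D, ∀ x ∈ h.X, (d : G) * x * (d : G)⁻¹ ∈ h.X := by
      intro d x hx
      obtain ⟨a, b, hab⟩ := h.mem_D d.2
      rw [hab, h.dd_eq]
      have hz' : ∀ n : ℕ, ∀ x ∈ h.X, h.z' ^ n * x * (h.z' ^ n)⁻¹ ∈ h.X := by
        intro n
        induction n with
        | zero => intro x hx; simpa using hx
        | succ n ih =>
          intro x hx
          have := h.z'_X (ih x hx)
          rw [show h.z' ^ (n + 1) * x * (h.z' ^ (n + 1))⁻¹ = h.z' * (h.z' ^ n * x * (h.z' ^ n)⁻¹) * h.z'⁻¹ by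
            rw [pow_succ']; group]
          exact this
      have := mul_mem (mul_mem (pow_mem h.z_X (a : ℕ)) (hz' b x hx)) (inv_mem (pow_mem h.z_X (a : ℕ)))
      rw [show h.z ^ (a : ℕ) * h.z' ^ (b : ℕ) * x * (h.z ^ (a : ℕ) * h.z' ^ (b : ℕ))⁻¹ =
        h.z ^ (a : ℕ) * (h.z' ^ (b : ℕ) * x * (h.z' ^ (b : ℕ))⁻¹) * (h.z ^ (a : ℕ))⁻¹ by group]
      exact this
    let act : h.D →* MulAut h.X :=
      { toFun := fun d =>
          { toFun := fun x => ⟨(d : G) * x * (d : G)⁻¹, hDX d x x.2⟩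
            invFun := fun x => ⟨((d⁻¹ : h.D) : G) * x * ((d⁻¹ : h.D) : G)⁻¹, hDX d⁻¹ x x.2⟩
            left_inv := fun x => Subtype.ext (by simp [mul_assoc])
            right_inv := fun x => Subtype.ext (by simp [mul_assoc])
            map_mul' := fun a b => Subtype.ext (by simp [mul_assoc]) }
        map_one' := MulEquiv.ext fun x => Subtype.ext (by simp)
        map_mul' := fun a b => MulEquiv.ext fun x => Subtype.ext (by simp [mul_assoc]) }
    let _ : MulDistribMulAction h.D h.X := MulDistribMulAction.compHom h.X act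
    have hn : ¬ 3 ∣ Nat.card (Sylow 7 h.X) := by
      obtain ⟨P⟩ := (inferInstance : Nonempty (Sylow 7 h.X))
      have h1 := card_sylow_modEq_one 7 h.X
      have h2 := P.card_dvd_index
      have hP7 : 7 ∣ Nat.card (P : Subgroup h.X) := P.pow_dvd_card_of_pow_dvd_card (n := 1) (by simpa using h7)
      have h3 : Nat.card (Sylow 7 h.X) ∣ 96 := by
        refine h2.trans (Nat.dvd_of_mul_dvd_mul_left (by norm_num : 0 < 7) ?_)
        refine dvd_trans (Nat.mul_dvd_mul_right hP7 _) ?_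
        rw [(P : Subgroup h.X).card_mul_index]
        exact hcard
      intro hd
      have hpos : Nat.card (Sylow 7 h.X) ≤ 96 := Nat.le_of_dvd (by norm_num) h3
      have hm : Nat.card (Sylow 7 h.X) % 7 = 1 := h1
      obtain ⟨k, hk⟩ := h3
      interval_cases hc : Nat.card (Sylow 7 h.X) <;> omega
    have hDp : IsPGroup 3 h.D := IsPGroup.of_card (n := 2) (by rw [h.card_D]; norm_num)
    obtain ⟨Q, hQ⟩ := hDp.nonempty_fixed_point_of_prime_not_dvd_card (Sylow 7 h.X) hn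
    refine h.seven_not ⟨(Q : Subgroup h.X).map h.X.subtype, ?_, ?_⟩
    · rw [card_map_of_injective Subtype.val_injective]
      obtain ⟨n, hn'⟩ := IsPGroup.iff_card.1 Q.2
      have h1 : 7 ∣ Nat.card (Q : Subgroup h.X) := Q.pow_dvd_card_of_pow_dvd_card (n := 1) (by simpa using h7)
      have h2 : Nat.card (Q : Subgroup h.X) ∣ 168 * 4 := (card_subgroup_dvd_card _).trans hcard
      rw [hn'] at h1 h2 ⊢
      rcases (show n = 0 ∨ n = 1 ∨ 2 ≤ n by omega) with rfl | rfl | hge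
      · norm_num at h1
      · rfl
      · have := (pow_dvd_pow 7 hge).trans h2
        norm_num at this
    · rintro d hd _ ⟨q, hq, rfl⟩
      have e : (⟨d, hd⟩ : h.D) • Q = Q := hQ ⟨d, hd⟩
      refine ⟨(⟨d, hd⟩ : h.D) • q, ?_, rfl⟩
      rw [← e]
      exact ⟨q, hq, rfl⟩

/-- The group of permutations whose image under `i` lies in `X`. -/
def B : Subgroup (Perm (Fin 5)) := h.X.comap ((MulAut.conj h.i).toMonoidHom.comp h.r)

theorem mem_B {p : Perm (Fin 5)} : p ∈ h.B ↔ h.i * h.r p * h.i ∈ h.X := by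
  show h.i * h.r p * h.i⁻¹ ∈ h.X ↔ _
  rw [h.i_inv]

theorem c5_B : (c5 : Perm (Fin 5)) ∈ h.B := h.mem_B.2 (by
  show h.i * h.z' * h.i ∈ h.X
  rw [h.i_z']; exact h.z_X)

theorem tau_B : tau ∉ h.B := fun hb => h.e_not_X (by
  have := h.mem_B.1 hb
  rwa [← h.e_r, h.i_e_eq] at this)

/-- The shape of the elements of `X`. -/
theorem X_form {x : G} (hx : x ∈ h.X) : ∃ q, InV1 q ∧ ∃ p ∈ h.B, x = h.f q * (h.i * h.r p * h.i) := by
  obtain ⟨q, hq, w, hwX, hwz, rfl⟩ := h.L_form (h.X_le_L hx)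
  refine ⟨q, hq, ?_⟩
  have key : ∀ w ∈ h.X, w * h.z' = h.z' * w → ∃ a : Fin 3, ∃ p, w = h.z' ^ (a : ℕ) * (h.i * h.r p * h.i) := by
    intro w _ hw
    obtain ⟨a, p, hp⟩ := h.cent_cases (g := h.i * w * h.i) (by rw [← h.i_z', ← h.i_mul, ← h.i_mul, hw])
    refine ⟨a, p, ?_⟩
    rw [← h.i_i w, hp, h.i_mul, ← h.i_z_eq]
    congr 1
    induction (a : ℕ) with
    | zero => rw [pow_zero, pow_zero, mul_one, h.i_sq]
    | succ n ih => rw [pow_succ, pow_succ, h.i_mul, ih]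
  obtain ⟨a, p, hp⟩ := key w hwX hwz
  have hcw : Commute h.z' (h.i * h.r p * h.i) := by
    show h.z' * (h.i * h.r p * h.i) = h.i * h.r p * h.i * h.z'
    rw [← h.i_z_eq, ← h.i_mul, ← h.i_mul, h.z_r]
  suffices a = 0 by
    subst this
    rw [Fin.val_zero, pow_zero, one_mul] at hp
    exact ⟨p, h.mem_B.2 (hp ▸ hwX), by rw [hp]⟩
  by_contra ha
  have h60 := sixty_five
  have hw20 : w ^ 20 = h.z' ^ (2 * (a : ℕ)) * (h.i * h.r (p ^ 20) * h.i) := by
    rw [hp, (hcw.pow_left (a : ℕ)).mul_pow, ← pow_mul, show (a : ℕ) * 20 = 2 * (a : ℕ) + 3 * (6 * (a : ℕ)) by ring,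
      pow_add, pow_mul h.z' 3, h.z'_cube, one_pow, mul_one, map_pow]
    congr 1
    have e : h.i * h.r p * h.i = MulAut.conj h.i (h.r p) := by rw [MulAut.conj_apply, h.i_inv]
    rw [e, ← map_pow, MulAut.conj_apply, h.i_inv]
  set W := h.X ⊓ centralizer ({h.z'} : Set G)
  set y := w ^ 20 with hy
  have hyW : y ∈ W := mem_inf.2 ⟨pow_mem hwX _, mem_centralizer_singleton_iff.2 ((show Commute w h.z' from hwz).pow_left 20).eq⟩
  have hy3 : y ^ 3 = 1 := by
    rw [hy, ← pow_mul, show 20 * 3 = 60 from rfl, hp, (hcw.pow_left (a : ℕ)).mul_pow, ← pow_mul,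
      show (a : ℕ) * 60 = 3 * (20 * (a : ℕ)) by ring, pow_mul, h.z'_cube, one_pow, one_mul]
    have e : h.i * h.r p * h.i = MulAut.conj h.i (h.r p) := by rw [MulAut.conj_apply, h.i_inv]
    rw [e, ← map_pow, ← map_pow, h60, map_one, map_one]
  have : Fact (Nat.Prime 3) := ⟨Nat.prime_three⟩
  have h9 : ¬ 9 ∣ Nat.card W := fun h9 => h.nine_not_dvd_X (h9.trans (card_dvd_of_le inf_le_left))
  have hzW : h.z ∈ W := mem_inf.2 ⟨h.z_X, mem_centralizer_singleton_iff.2 (h.D_comm _ h.z_mem _ h.z'_mem)⟩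
  obtain ⟨S, hS⟩ := (IsPGroup.of_card (p := 3) (n := 1) (G := zpowers (⟨h.z, hzW⟩ : W))
    (by rw [Nat.card_zpowers, orderOf_mk, h.order_z, pow_one])).exists_le_sylow
  have hSz : zpowers (⟨h.z, hzW⟩ : W) = S := eq_of_le_of_card_ge hS (by
    obtain ⟨n, hn⟩ := IsPGroup.iff_card.1 S.2
    rw [Nat.card_zpowers, orderOf_mk, h.order_z, hn]
    have hn1 : n ≤ 1 := by
      by_contra hlt
      exact h9 ((pow_dvd_pow 3 (show 2 ≤ n by omega)).trans (hn ▸ card_subgroup_dvd_card _))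
    exact (Nat.pow_le_pow_right (by norm_num : 0 < 3) hn1).trans (by norm_num))
  have hyp : IsPGroup 3 (zpowers (⟨y, hyW⟩ : W)) := fun ⟨u, hu⟩ => ⟨1, Subtype.ext (by
    obtain ⟨n, rfl⟩ := mem_zpowers_iff.1 hu
    show ((⟨y, hyW⟩ : W) ^ n) ^ (3 ^ 1) = 1
    rw [pow_one, ← zpow_natCast, ← zpow_mul, mul_comm, zpow_mul, zpow_natCast,
      show (⟨y, hyW⟩ : W) ^ 3 = 1 from Subtype.ext hy3, one_zpow])⟩
  obtain ⟨S', hS'⟩ := hyp.exists_le_sylow
  obtain ⟨c, hc⟩ := MulAction.exists_smul_eq W S' S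
  have hmem : c * ⟨y, hyW⟩ * c⁻¹ ∈ zpowers (⟨h.z, hzW⟩ : W) := by
    rw [hSz, ← hc]; exact ⟨_, hS' (mem_zpowers _), rfl⟩
  obtain ⟨n, hn⟩ := mem_zpowers_iff.1 hmem
  have hn' : h.z ^ n = (c : G) * y * (c : G)⁻¹ := by simpa using congrArg Subtype.val hn
  obtain ⟨b, q', hq'⟩ := key c (mem_inf.1 c.2).1 (mem_centralizer_singleton_iff.1 (mem_inf.1 c.2).2)
  set C := MulAut.conj h.i with hC
  have hCe : ∀ g, C g = h.i * g * h.i := fun g => by rw [hC, MulAut.conj_apply, h.i_inv]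
  have hCx : ∀ (k : ℕ) (u : Perm (Fin 5)),
      C (h.z' ^ k * (h.i * h.r u * h.i)) = h.psi (zP ^ k * inR u) := by
    intro k u
    rw [map_mul C, map_pow C, hCe h.z', hCe (h.i * h.r u * h.i), h.i_i, h.i_z', map_mul h.psi, map_pow h.psi]
    rfl
  have e1 := congrArg C hn'
  rw [hq', hw20, map_mul C, map_mul C, map_inv C, hCx, hCx, map_zpow C, hCe h.z, h.i_z_eq] at e1
  have e2 : h.psi (inA c5 ^ n) = h.psi ((zP ^ (b : ℕ) * inR q') * (zP ^ (2 * (a : ℕ)) * inR (p ^ 20)) *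
      (zP ^ (b : ℕ) * inR q')⁻¹) := by
    simp only [map_zpow, map_mul h.psi, map_inv] at e1 ⊢
    exact e1
  have e3 := congrArg Prod.fst (h.psi_inj e2)
  refine ha (r3_double a ?_)
  have e4 := congrArg (fun u => (r3 ^ (b : ℕ))⁻¹ * u * r3 ^ (b : ℕ)) e3
  simpa [zP, inR, inA, mul_assoc] using e4.symm

theorem i_c5_pow (n : ℕ) : h.i * h.r ((c5 : Perm (Fin 5)) ^ n) * h.i = h.z ^ n := by
  induction n with
  | zero => simp [h.i_sq]
  | succ n ih =>
    rw [pow_succ, map_mul, h.i_mul, ih, pow_succ]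
    congr 1
    exact h.i_z'

theorem norm_of_form (q : A5) (n : ℕ) :
    h.f q * h.z ^ n * h.z * (h.f q * h.z ^ n)⁻¹ = h.z ∧
      h.f q * (h.s * h.z ^ n) * h.z * (h.f q * (h.s * h.z ^ n))⁻¹ = h.z⁻¹ := by
  have hq : Commute (h.f q) h.z := (h.z_f q).symm
  constructor
  · rw [show h.f q * h.z ^ n * h.z = h.f q * h.z * h.z ^ n by rw [mul_assoc, ← pow_succ, pow_succ', ← mul_assoc],
      hq.eq]
    group
  · calc h.f q * (h.s * h.z ^ n) * h.z * (h.f q * (h.s * h.z ^ n))⁻¹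
        = h.f q * (h.s * (h.z ^ n * h.z * (h.z ^ n)⁻¹) * h.s⁻¹) * (h.f q)⁻¹ := by group
      _ = h.f q * h.z⁻¹ * (h.f q)⁻¹ := by
        rw [((Commute.refl h.z).pow_left n).eq, mul_inv_cancel_right, h.s_inv, h.s_z]
      _ = h.z⁻¹ := by rw [hq.inv_right.eq, mul_inv_cancel_right]

theorem SE_case (hse : h.i * h.t * h.i = h.s * h.e) :
    (∀ x ∈ h.X, x * h.z * x⁻¹ = h.z ∨ x * h.z * x⁻¹ = h.z⁻¹) ∨
      (a1 : Perm (Fin 5)) ∈ h.B ∨ (b1 : Perm (Fin 5)) ∈ h.B := by
  have hsB : (t5 : Perm (Fin 5)) * tau ∈ h.B := h.mem_B.2 (by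
    rw [map_mul, h.i_mul, ← h.f_apply]
    show h.i * h.t * h.i * (h.i * h.e * h.i) ∈ h.X
    rw [hse, h.i_e_eq, mul_assoc, h.e_sq, mul_one]
    exact h.s_X)
  have h6 : ∀ p ∈ SE, p ∈ h.B := by
    intro p hp
    obtain ⟨n, e | e⟩ := SE_shape p hp <;> rw [e]
    · exact pow_mem h.c5_B _
    · exact mul_mem hsB (pow_mem h.c5_B _)
  by_cases hout : ∃ p ∈ h.B, p ∉ SE
  · obtain ⟨p, hp, hpS⟩ := hout
    refine Or.inr ?_
    have hT : ∀ x, x ∈ [(a1 : Perm (Fin 5)), b1, tau] → x ∈ h.B → (a1 : Perm (Fin 5)) ∈ h.B ∨ (b1 : Perm (Fin 5)) ∈ h.B := by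
      intro x hx hxB
      simp only [List.mem_cons, List.not_mem_nil, or_false] at hx
      rcases hx with rfl | rfl | rfl
      · exact Or.inl hxB
      · exact Or.inr hxB
      · exact absurd hxB h.tau_B
    rcases words_SE p with e | ⟨a, ha, b, hb, e | ⟨d, hd, e | e⟩⟩
    · exact absurd e hpS
    · exact hT _ e (mul_mem (mul_mem (h6 a ha) hp) (h6 b hb))
    · exact hT _ e (mul_mem (mul_mem (mul_mem (mul_mem (h6 a ha) hp) (h6 b hb)) hp) (h6 d hd))
    · exact hT _ e (mul_mem (mul_mem (mul_mem (mul_mem (h6 a ha) hp) (h6 b hb)) (inv_mem hp)) (h6 d hd))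
  · push Not at hout
    refine Or.inl fun x hx => ?_
    obtain ⟨q, hq, p, hp, rfl⟩ := h.X_form hx
    obtain ⟨n, e | e⟩ := SE_shape p (hout p hp) <;> rw [e]
    · rw [h.i_c5_pow]
      exact Or.inl (h.norm_of_form q n).1
    · have es : h.i * h.r ((t5 : Perm (Fin 5)) * tau) * h.i = h.s := by
        rw [map_mul, h.i_mul, ← h.f_apply]
        show h.i * h.t * h.i * (h.i * h.e * h.i) = h.s
        rw [hse, h.i_e_eq, mul_assoc, h.e_sq, mul_one]
      rw [map_mul h.r _ ((c5 : Perm (Fin 5)) ^ (n : ℕ)), h.i_mul, es, h.i_c5_pow]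
      exact Or.inr (h.norm_of_form q n).2

theorem SS_case (hs : h.i * h.t * h.i = h.s) :
    (∀ x ∈ h.X, x * h.z * x⁻¹ = h.z ∨ x * h.z * x⁻¹ = h.z⁻¹) ∨ (a1 : Perm (Fin 5)) ∈ h.B := by
  have htB : (t5 : Perm (Fin 5)) ∈ h.B := h.mem_B.2 (by
    show h.i * h.t * h.i ∈ h.X
    rw [hs]; exact h.s_X)
  have h6 : ∀ p ∈ SS, p ∈ h.B := by
    intro p hp
    obtain ⟨n, e | e⟩ := SS_shape p hp <;> rw [e]
    · exact pow_mem h.c5_B _
    · exact mul_mem htB (pow_mem h.c5_B _)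
  by_cases hout : ∃ p ∈ h.B, p ∉ SS
  · obtain ⟨p, hp, hpS⟩ := hout
    refine Or.inr ?_
    have hT : ∀ x, x ∈ [(a1 : Perm (Fin 5)), tau] → x ∈ h.B → (a1 : Perm (Fin 5)) ∈ h.B := by
      intro x hx hxB
      simp only [List.mem_cons, List.not_mem_nil, or_false] at hx
      rcases hx with rfl | rfl
      · exact hxB
      · exact absurd hxB h.tau_B
    rcases words_SS p with e | ⟨a, ha, b, hb, e | ⟨d, hd, e | e⟩⟩
    · exact absurd e hpS
    · exact hT _ e (mul_mem (mul_mem (h6 a ha) hp) (h6 b hb))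
    · exact hT _ e (mul_mem (mul_mem (mul_mem (mul_mem (h6 a ha) hp) (h6 b hb)) hp) (h6 d hd))
    · exact hT _ e (mul_mem (mul_mem (mul_mem (mul_mem (h6 a ha) hp) (h6 b hb)) (inv_mem hp)) (h6 d hd))
  · push Not at hout
    refine Or.inl fun x hx => ?_
    obtain ⟨q, hq, p, hp, rfl⟩ := h.X_form hx
    obtain ⟨n, e | e⟩ := SS_shape p (hout p hp) <;> rw [e]
    · rw [h.i_c5_pow]
      exact Or.inl (h.norm_of_form q n).1
    · have es : h.i * h.r (t5 : Perm (Fin 5)) * h.i = h.s := hs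
      rw [map_mul h.r _ ((c5 : Perm (Fin 5)) ^ (n : ℕ)), h.i_mul, es, h.i_c5_pow]
      exact Or.inr (h.norm_of_form q n).2

end Hyp

end Cfsg.Agent.S8ThreeLocal
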