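import Cfsg.Agent.S8ThreeLocal.Small

/-!
The normal form of the hypotheses of the 3-local characterisation of the symmetric group of degree
eight.
-/

set_option autoImplicit false
set_option synthInstance.maxSize 2000
set_option synthInstance.maxHeartbeats 400000

namespace Cfsg.Agent.S8ThreeLocal

open Equiv Equiv.Perm Subgroup
open Cfsg.Agent.A8ThreeLocal (A5 c5 t5 v5 a1 a2 a3 b1 r3 s3 tau InV1 InV2 tauHom)

/-- The model of the normaliser of `⟨z⟩`. -/
abbrev P35 := Perm (Fin 3) × Perm (Fin 5)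

/-- The three-cycle of the first factor. -/
def zP : P35 := (r3, 1)
/-- The involution of the first factor. -/
def sP : P35 := (s3, 1)

/-- The second factor. -/
def inR : Perm (Fin 5) →* P35 := MonoidHom.inr (Perm (Fin 3)) (Perm (Fin 5))

/-- The alternating part of the second factor. -/
def inA : A5 →* P35 := inR.comp (alternatingGroup (Fin 5)).subtype

/-- The transposition of the second factor centralising `D`. -/
def eP : P35 := inR tau

theorem inR_injective : Function.Injective inR := fun _ _ h => congrArg Prod.snd h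

theorem inA_injective : Function.Injective inA := inR_injective.comp Subtype.val_injective

theorem inR_zP (p : Perm (Fin 5)) : inR p * zP = zP * inR p :=
  Prod.ext ((one_mul r3).trans (mul_one r3).symm) ((mul_one p).trans (one_mul p).symm)

/-- The centraliser of `zP`. -/
theorem cent_zP (k : P35) (h : k * zP = zP * k) : ∃ a : Fin 3, ∃ p : Perm (Fin 5), k = zP ^ (a : ℕ) * inR p := by
  obtain ⟨a, ha⟩ := r3_cases k.1 (congrArg Prod.fst h)
  exact ⟨a, k.2, Prod.ext (ha.trans (mul_one _).symm) (by simp [zP, inR])⟩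

variable {G : Type*} [Group G]

/-- The normal form. -/
structure Hyp (G : Type*) [Group G] where
  /-- An embedding of the normaliser of `⟨z⟩`. -/
  psi : P35 →* G
  psi_inj : Function.Injective psi
  norm_z : ∀ g : G, (g * psi zP * g⁻¹ = psi zP ∨ g * psi zP * g⁻¹ = (psi zP)⁻¹) → g ∈ psi.range
  /-- An involution exchanging `z` and its partner. -/
  i : G
  i_sq : i * i = 1
  i_ne : i ≠ 1
  i_z : i * psi zP * i = psi (inA c5)
  i_e : i * psi eP * i = psi eP
  i_t : i * psi (inA t5) * i = psi sP ∨ i * psi (inA t5) * i = psi (sP * eP)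
  D : Subgroup G
  z_mem : psi zP ∈ D
  z'_mem : psi (inA c5) ∈ D
  card_D : Nat.card D = 9
  D_comm : ∀ a ∈ D, ∀ b ∈ D, a * b = b * a
  cent_D : ∀ g : G, g * psi zP = psi zP * g → g * psi (inA c5) = psi (inA c5) * g →
    g ∈ D ∨ g * psi eP ∈ D
  conj_D : ∀ Q : Subgroup G, Nat.card Q = 9 → ∃ k : G, ∀ a, a ∈ Q → k * a * k⁻¹ ∈ D
  not_27 : ¬ 27 ∣ Nat.card G
  norm_D : Nat.card (normalizer (D : Set G)) = 144
  d8 : ∃ φ : normalizer (D : Set G) →* DihedralGroup 4, Function.Surjective φ ∧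
    ∀ n : normalizer (D : Set G), φ n = 1 ↔ (n : G) ∈ centralizer (D : Set G)
  cent_y : Nat.card (centralizer ({psi zP * psi (inA c5)} : Set G)) = 36
  cent_y_le : centralizer ({psi zP * psi (inA c5)} : Set G) ≤ normalizer (D : Set G)
  card_cz : Nat.card (centralizer ({psi zP} : Set G)) = 360

/-- Coordinates on a group of order nine. -/
def dd (ψ : P35 →* G) (a b : Fin 3) : G := ψ (zP ^ (a : ℕ) * inA c5 ^ (b : ℕ))

theorem dd_inj : Function.Injective (fun p : Fin 3 × Fin 3 => zP ^ (p.1 : ℕ) * inA c5 ^ (p.2 : ℕ)) := by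
  decide +kernel

theorem cube_dd : ∀ a b : Fin 3, (zP ^ (a : ℕ) * inA c5 ^ (b : ℕ)) ^ 3 = 1 := by decide +kernel

/-- Any of the four mixed pairs is moved to `(1, 1)`. -/
theorem mixed_conj : ∀ a b : Fin 3, a ≠ 0 → b ≠ 0 → ∃ k ∈ [1, inA t5, sP, inA t5 * sP],
    k * (zP ^ (a : ℕ) * inA c5 ^ (b : ℕ)) * k⁻¹ = zP * inA c5 ∧ k * zP * k⁻¹ ∈ [zP, zP⁻¹] ∧
      k * inA c5 * k⁻¹ ∈ [inA c5, (inA c5)⁻¹] := by decide +kernel

theorem pair_cases : ∀ a b a' b' : Fin 3, (a = 0 ↔ ¬ b = 0) → (a' = 0 ↔ ¬ b' = 0) →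
    (zP ^ (a : ℕ) * inA c5 ^ (b : ℕ)) * (zP ^ (a' : ℕ) * inA c5 ^ (b' : ℕ)) = zP * inA c5 →
    (a = 1 ∧ b = 0 ∧ a' = 0 ∧ b' = 1) ∨ (a = 0 ∧ b = 1 ∧ a' = 1 ∧ b' = 0) := by decide +kernel

end Cfsg.Agent.S8ThreeLocal
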