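import Cfsg.Agent.S8ThreeLocal.Setup

/-!
The hypotheses give the normal form.
-/

set_option autoImplicit false
set_option synthInstance.maxSize 2000
set_option synthInstance.maxHeartbeats 400000
set_option maxHeartbeats 1000000

namespace Cfsg.Agent.S8ThreeLocal

open Equiv Equiv.Perm Subgroup
open Cfsg.Agent.A8ThreeLocal (A5 c5 t5 v5 a1 a2 a3 b1 r3 s3 tau InV1 InV2 tauHom cases_pow_three
  centralizer_card_conj inverts_r3)

variable {G : Type*} [Group G]

/-- A five-cycle. -/
def g5 : P35 := inR (finRotate 5)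

theorem normal_order_three (k : P35) (h3 : k ^ 3 = 1) (h1 : k ≠ 1)
    (hn : g5 * k * g5⁻¹ = k ∨ g5 * k * g5⁻¹ = k⁻¹) : k = zP ∨ k = zP⁻¹ := by
  have hp : k.2 = 1 := A8ThreeLocal.cube_five _ (congrArg Prod.snd h3)
    (hn.imp (fun e => congrArg Prod.snd e) (fun e => congrArg Prod.snd e))
  rcases A8ThreeLocal.cube_s3 _ (congrArg Prod.fst h3) with e | e | e
  · exact absurd (Prod.ext e hp) h1
  · exact Or.inl (Prod.ext e hp)
  · exact Or.inr (Prod.ext e (hp.trans inv_one.symm))

theorem sP_zP : sP * zP * sP⁻¹ = zP⁻¹ := by decide +kernel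

/-- The parametrisation of `N(⟨z⟩)` with `z` at `zP`. -/
structure Pre (z : G) where
  psi : P35 →* G
  inj : Function.Injective psi
  val : psi zP = z
  norm : ∀ g : G, (g * z * g⁻¹ = z ∨ g * z * g⁻¹ = z⁻¹) → g ∈ psi.range

theorem Pre.twist {z : G} (P : Pre z) (k : P35) (hk : k * zP * k⁻¹ = zP) :
    ∃ P' : Pre z, ∀ x, P'.psi x = P.psi (k * x * k⁻¹) :=
  ⟨⟨P.psi.comp (MulAut.conj k).toMonoidHom, P.inj.comp (MulAut.conj k).injective,
    (congrArg P.psi hk).trans P.val, fun g hg => by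
      obtain ⟨x, hx⟩ := P.norm g hg
      exact ⟨k⁻¹ * x * k, (congrArg P.psi (show k * (k⁻¹ * x * k) * k⁻¹ = x by group)).trans hx⟩⟩,
    fun _ => rfl⟩

theorem exists_pre [Finite G] (z : G) (hz3 : z ^ 3 = 1) (hz1 : z ≠ 1)
    (eL : normalizer (zpowers z : Set G) ≃* P35) : Nonempty (Pre z) := by
  set N := normalizer (zpowers z : Set G)
  have hzN : z ∈ N := le_normalizer (mem_zpowers z)
  have hmem : ∀ g : G, (g * z * g⁻¹ = z ∨ g * z * g⁻¹ = z⁻¹) → g ∈ N := by
    intro g hg
    have hle : ∀ x ∈ zpowers z, g * x * g⁻¹ ∈ zpowers z := by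
      intro x hx
      obtain ⟨n, rfl⟩ := mem_zpowers_iff.1 hx
      rw [← conj_zpow]
      rcases hg with e | e <;> rw [e]
      · exact zpow_mem (mem_zpowers z) n
      · exact zpow_mem (inv_mem (mem_zpowers z)) n
    exact (Subgroup.mem_normalizer_iff).2 fun x => ⟨hle x, fun hx => by
      have hmap : (zpowers z).map (MulAut.conj g).toMonoidHom = zpowers z :=
        eq_of_le_of_card_ge (by rintro _ ⟨w, hw, rfl⟩; exact hle w hw)
          (card_map_of_injective (MulAut.conj g).injective).ge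
      obtain ⟨w, hw, e⟩ : g * x * g⁻¹ ∈ (zpowers z).map (MulAut.conj g).toMonoidHom := hmap.symm ▸ hx
      exact (MulAut.conj g).injective e ▸ hw⟩
  let ψ : P35 →* G := N.subtype.comp eL.symm.toMonoidHom
  have hinj : Function.Injective ψ := Subtype.val_injective.comp eL.symm.injective
  have hr : ∀ g ∈ N, g ∈ ψ.range := fun g hg => ⟨eL ⟨g, hg⟩, by simp [ψ]⟩
  obtain ⟨k, hk⟩ := hr z hzN
  have hk3 : k ^ 3 = 1 := hinj (by rw [map_pow, hk, hz3, map_one])
  have hk1 : k ≠ 1 := fun e => hz1 (by rw [← hk, e, map_one])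
  have hgN : ψ g5 ∈ N := (eL.symm g5).2
  have hz' : ψ g5 * z * (ψ g5)⁻¹ ∈ zpowers z := (Subgroup.mem_normalizer_iff.1 hgN z).1 (mem_zpowers z)
  have hn : g5 * k * g5⁻¹ = k ∨ g5 * k * g5⁻¹ = k⁻¹ := by
    rcases cases_pow_three hz3 hz' with e | e | e
    · exact absurd (conj_eq_one_iff.1 e) hz1
    · exact Or.inl (hinj (by rw [map_mul, map_mul, map_inv, hk, e]))
    · exact Or.inr (hinj (by rw [map_mul, map_mul, map_inv, hk, e, map_inv, hk]))
  rcases normal_order_three k hk3 hk1 hn with e | e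
  · exact ⟨⟨ψ, hinj, by rw [← e, hk], fun g hg => hr g (hmem g hg)⟩⟩
  · refine ⟨⟨ψ.comp (MulAut.conj sP).toMonoidHom, hinj.comp (MulAut.conj sP).injective, ?_, fun g hg => ?_⟩⟩
    · show ψ (sP * zP * sP⁻¹) = z
      rw [sP_zP, ← e, hk]
    · obtain ⟨x, hx⟩ := hr g (hmem g hg)
      exact ⟨sP⁻¹ * x * sP, (congrArg ψ (show sP * (sP⁻¹ * x * sP) * sP⁻¹ = x by group)).trans hx⟩

theorem t5_conj : inA t5 * inA c5 * (inA t5)⁻¹ = (inA c5)⁻¹ ∧ inA t5 * zP * (inA t5)⁻¹ = zP ∧
    inA t5 * eP = eP * inA t5 ∧ inA t5 * inA t5 = 1 ∧ eP * eP = 1 ∧ eP ≠ 1 ∧ eP * zP = zP * eP ∧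
    eP * inA c5 = inA c5 * eP := by decide +kernel

theorem u_shape (k : P35) (h2 : k * k = 1) (hz : k * zP * k⁻¹ = zP⁻¹) (hc : k * inA c5 = inA c5 * k) :
    ∃ a : P35, (∀ p, a * inR p * a⁻¹ = inR p) ∧ a * zP * a⁻¹ = zP ∧
      (a * sP * a⁻¹ = k ∨ a * (sP * eP) * a⁻¹ = k) := by
  obtain ⟨-, -, a, -, har, hconj⟩ := inverts_r3 k.1 (congrArg Prod.fst hz)
  refine ⟨(a, 1), fun p => Prod.ext (show a * 1 * a⁻¹ = 1 by simp) (show 1 * p * (1 : Perm (Fin 5))⁻¹ = p by simp),
    Prod.ext (show a * r3 * a⁻¹ = r3 by rw [har, mul_inv_cancel_right]) (show (1 : Perm (Fin 5)) * 1 * 1⁻¹ = 1 by simp), ?_⟩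
  rcases inv_c5_cent k.2 (congrArg Prod.snd h2) (congrArg Prod.snd hc) with e | e
  · exact Or.inl (Prod.ext hconj (show (1 : Perm (Fin 5)) * 1 * 1⁻¹ = k.2 by simp [e]))
  · exact Or.inr (Prod.ext (show a * (s3 * 1) * a⁻¹ = k.1 by rw [mul_one, hconj])
      (show (1 : Perm (Fin 5)) * (1 * tau) * 1⁻¹ = k.2 by simp [e]))

theorem tau_cube : ∀ b : Fin 3, ((c5 : Perm (Fin 5)) ^ (b : ℕ) * tau) ^ 3 ≠ 1 := by decide +kernel

theorem stab_count : (Finset.univ.filter fun q : P35 =>
    q.2 * c5 * q.2⁻¹ = (c5 : Perm (Fin 5)) ∨ q.2 * c5 * q.2⁻¹ = (c5 : Perm (Fin 5)) ^ 2).card = 72 := by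
  decide +kernel

theorem exists_hyp [Finite G] (P : Sylow 3 G) (D : Subgroup G) (hDP : D = P) (y z : G)
    (hgen : closure {y, z} = D) (hcomm : IsMulCommutative D) (hcard : Nat.card D = 9)
    (hexp : ∀ a ∈ D, a ^ 3 = 1) (hC : Nat.card (centralizer (D : Set G)) = 18)
    (hNcard : Nat.card (normalizer (D : Set G) ⧸ D.subgroupOf (normalizer (D : Set G))) = 16)
    [hcn : ((centralizer (D : Set G)).subgroupOf (normalizer (D : Set G))).Normal]
    (eNC : normalizer (D : Set G) ⧸ (centralizer (D : Set G)).subgroupOf (normalizer (D : Set G)) ≃* DihedralGroup 4)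
    (hyn : (D.subgroupOf (centralizer ({y} : Set G))).Normal)
    (hycard : Nat.card (centralizer ({y} : Set G)) = 36)
    (hysq : ∀ g ∈ centralizer ({y} : Set G), g ^ 2 ∈ D)
    (hzcard : Nat.card (centralizer ({z} : Set G)) = 360)
    (eL : normalizer (zpowers z : Set G) ≃* P35) : Nonempty (Hyp G) := by
  classical
  have : Fact (Nat.Prime 3) := ⟨Nat.prime_three⟩
  have hyD : y ∈ D := hgen ▸ subset_closure (Set.mem_insert _ _)
  have hzD : z ∈ D := hgen ▸ subset_closure (Set.mem_insert_of_mem _ rfl)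
  have hDc : ∀ a ∈ D, ∀ b ∈ D, a * b = b * a := fun a ha b hb =>
    congrArg Subtype.val (hcomm.is_comm.comm (⟨a, ha⟩ : D) ⟨b, hb⟩)
  have hz3 : z ^ 3 = 1 := hexp z hzD
  have hone : centralizer ({1} : Set G) = ⊤ := top_unique fun g _ =>
    mem_centralizer_singleton_iff.2 (by simp)
  have hz1 : z ≠ 1 := by
    rintro rfl
    rw [hone, card_top] at hzcard
    have h8 : Nat.card (normalizer (D : Set G) ⧸ D.subgroupOf (normalizer (D : Set G))) ∣ Nat.card G :=
      (card_quotient_dvd_card _).trans (card_subgroup_dvd_card _)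
    rw [hNcard, hzcard] at h8
    omega
  have hN144 : Nat.card (normalizer (D : Set G)) = 144 := by
    rw [card_eq_card_quotient_mul_card_subgroup (D.subgroupOf (normalizer (D : Set G))), hNcard,
      Nat.card_congr (subgroupOfEquivOfLe le_normalizer).toEquiv, hcard]
  have hNC8 : Nat.card (normalizer (D : Set G) ⧸ (centralizer (D : Set G)).subgroupOf (normalizer (D : Set G))) = 8 := by
    rw [Nat.card_congr eNC.toEquiv, DihedralGroup.nat_card]
  obtain ⟨P0⟩ := exists_pre z hz3 hz1 eL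
  have hmix : ∀ {Q : Pre z} {d : G}, d ∈ D → ∃ a : Fin 3, ∃ p : Perm (Fin 5), d = z ^ (a : ℕ) * Q.psi (inR p) := by
    intro Q d hd
    have hcd : d * z * d⁻¹ = z := by rw [hDc d hd z hzD, mul_inv_cancel_right]
    obtain ⟨k, hk⟩ := Q.norm d (Or.inl hcd)
    have hk0 : k * zP = zP * k := Q.inj (by rw [map_mul, map_mul, hk, Q.val]; exact hDc d hd z hzD)
    obtain ⟨a, p, hp⟩ := cent_zP k hk0
    exact ⟨a, p, by rw [← hk, hp, map_mul, map_pow, Q.val]⟩
  obtain ⟨d, hd, hdz⟩ : ∃ d ∈ D, d ∉ zpowers z := by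
    by_contra! hle
    have h2 := Subgroup.card_le_of_le (show D ≤ zpowers z from hle)
    rw [Nat.card_zpowers, orderOf_eq_prime hz3 hz1, hcard] at h2
    omega
  obtain ⟨ad, p, hp⟩ := hmix (Q := P0) hd
  have hfpD : P0.psi (inR p) ∈ D := by
    rw [show P0.psi (inR p) = (z ^ (ad : ℕ))⁻¹ * d by rw [hp]; group]
    exact mul_mem (inv_mem (pow_mem hzD _)) hd
  have hp1 : p ≠ 1 := fun e => hdz (by
    rw [hp, e, map_one, map_one, mul_one]; exact pow_mem (mem_zpowers z) _)
  obtain ⟨s, hs⟩ := cube_five' p (inR_injective (P0.inj (by rw [map_pow, map_pow, hexp _ hfpD, map_one, map_one]))) hp1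
  obtain ⟨P1, hP1⟩ := P0.twist (inR s) (by rw [inR_zP, mul_inv_cancel_right])
  have hz'D : P1.psi (inA c5) ∈ D := by
    rw [hP1, show inR s * inA c5 * (inR s)⁻¹ = inR p by
      rw [← hs, map_mul, map_mul, map_inv]; rfl]
    exact hfpD
  have hz'3 : P1.psi (inA c5) ^ 3 = 1 := hexp _ hz'D
  have hdd : ∀ x ∈ D, ∃ a b : Fin 3, x = dd P1.psi a b := by
    intro x hx
    obtain ⟨a, q, hq⟩ := hmix (Q := P1) hx
    have hqD : P1.psi (inR q) ∈ D := by
      rw [show P1.psi (inR q) = (z ^ (a : ℕ))⁻¹ * x by rw [hq]; group]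
      exact mul_mem (inv_mem (pow_mem hzD _)) hx
    have hqc : inR q * inA c5 = inA c5 * inR q :=
      P1.inj (by rw [map_mul, map_mul]; exact hDc _ hqD _ hz'D)
    obtain ⟨b, e | e⟩ := comm_c5 q (congrArg Prod.snd hqc)
    · exact ⟨a, b, by rw [hq, e, map_pow, dd, map_mul, map_pow, map_pow, P1.val, map_pow]; rfl⟩
    · exfalso
      have h3 := hexp _ hqD
      rw [← map_pow, ← map_pow, ← map_one P1.psi, ← map_one inR] at h3
      have := inR_injective (P1.inj h3)
      rw [e] at this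
      exact tau_cube b this
  have hmemD : ∀ a b, dd P1.psi a b ∈ D := fun a b => by
    simp only [dd, map_mul, map_pow, P1.val]; exact mul_mem (pow_mem hzD _) (pow_mem hz'D _)
  obtain ⟨ht1, ht2, hte, htt, he2, he1, hez, hec⟩ := t5_conj
  have hcentD : ∀ g : G, g * z = z * g → g * P1.psi (inA c5) = P1.psi (inA c5) * g →
      g ∈ D ∨ g * P1.psi eP ∈ D := by
    intro g h1 h2
    obtain ⟨k, hk⟩ := P1.norm g (Or.inl (by rw [h1, mul_inv_cancel_right]))
    have hk0 : k * zP = zP * k := P1.inj (by rw [map_mul, map_mul, hk, P1.val]; exact h1)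
    obtain ⟨a, q, hq⟩ := cent_zP k hk0
    have hqc : k * inA c5 = inA c5 * k := P1.inj (by rw [map_mul, map_mul, hk]; exact h2)
    have hq2 : q * (c5 : Perm (Fin 5)) = c5 * q := by
      have e := congrArg Prod.snd hqc
      rw [hq] at e
      simpa [zP, inR, inA] using e
    obtain ⟨b, e | e⟩ := comm_c5 q hq2
    · refine Or.inl ?_
      rw [← hk, hq, e, map_pow]
      exact hmemD a b
    · refine Or.inr ?_
      rw [← hk, hq, e, map_mul inR, map_pow inR, ← map_mul P1.psi]
      rw [show zP ^ (a : ℕ) * (inR (c5 : Perm (Fin 5)) ^ (b : ℕ) * inR tau) * eP =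
        zP ^ (a : ℕ) * inR (c5 : Perm (Fin 5)) ^ (b : ℕ) * (eP * eP) by rw [eP]; group, he2, mul_one]
      exact hmemD a b
  have heC : P1.psi eP ∈ centralizer (D : Set G) := by
    rw [mem_centralizer_iff]
    intro x hx
    obtain ⟨a, b, rfl⟩ := hdd x hx
    rw [dd, ← map_mul, ← map_mul]
    exact congrArg P1.psi (((Commute.pow_right hez _).mul_right (Commute.pow_right hec _)).eq).symm
  have htN : ∀ k ∈ [(1 : P35), inA t5, sP, inA t5 * sP], P1.psi k ∈ normalizer (D : Set G) := by
    have key : ∀ k : P35, (∃ a b : Fin 3, k * zP * k⁻¹ = zP ^ (a : ℕ) * inA c5 ^ (b : ℕ)) →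
        (∃ a b : Fin 3, k * inA c5 * k⁻¹ = zP ^ (a : ℕ) * inA c5 ^ (b : ℕ)) →
        P1.psi k ∈ normalizer (D : Set G) := by
      rintro k ⟨a, b, h1⟩ ⟨a', b', h2⟩
      have hle : D.map (MulAut.conj (P1.psi k)).toMonoidHom ≤ D := by
        rintro _ ⟨x, hx, rfl⟩
        obtain ⟨c, e, rfl⟩ := hdd x hx
        simp only [MulEquiv.coe_toMonoidHom, MulAut.conj_apply, dd]
        rw [← map_inv, ← map_mul, ← map_mul, show k * (zP ^ (c : ℕ) * inA c5 ^ (e : ℕ)) * k⁻¹ = (k * zP * k⁻¹) ^ (c : ℕ) * (k * inA c5 * k⁻¹) ^ (e : ℕ) by rw [conj_pow, conj_pow]; group, h1, h2, map_mul, map_pow, map_pow]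
        exact mul_mem (pow_mem (hmemD a b) _) (pow_mem (hmemD a' b') _)
      have heq := eq_of_le_of_card_ge hle (card_map_of_injective (MulAut.conj (P1.psi k)).injective).ge
      rw [Subgroup.mem_normalizer_iff]
      intro x
      refine ⟨fun hx => hle ⟨x, hx, rfl⟩, fun hx => ?_⟩
      obtain ⟨w, hw, e⟩ : P1.psi k * x * (P1.psi k)⁻¹ ∈ D.map (MulAut.conj (P1.psi k)).toMonoidHom := heq.symm ▸ hx
      exact (MulAut.conj (P1.psi k)).injective e ▸ hw
    intro k hk
    fin_cases hk <;> refine key _ ?_ ?_ <;> decide +kernel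
  have hmixcard : ∀ a b : Fin 3, a ≠ 0 → b ≠ 0 →
      Nat.card (centralizer ({dd P1.psi a b} : Set G)) = Nat.card (centralizer ({z * P1.psi (inA c5)} : Set G)) := by
    intro a b ha hb
    obtain ⟨k, -, hk, -, -⟩ := mixed_conj a b ha hb
    rw [← centralizer_card_conj (P1.psi k), show z * P1.psi (inA c5) = P1.psi (zP * inA c5) by rw [map_mul, P1.val], ← hk]
    simp [dd, map_mul, map_inv]
  have hsq2 : ∀ w : G, w ^ 3 = 1 → centralizer ({w ^ 2} : Set G) = centralizer ({w} : Set G) := by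
    intro w hw
    ext g
    simp only [mem_centralizer_singleton_iff]
    exact ⟨fun h => by
      have := Commute.pow_right h 2
      rwa [← pow_mul, pow_succ, hw, one_mul] at this, fun h => Commute.pow_right h 2⟩
  have hz2 : z ^ 2 = z⁻¹ := eq_inv_of_mul_eq_one_left (by rw [← pow_succ, hz3])
  -- the partner of `z` has a large centraliser
  have hz'card : Nat.card (centralizer ({P1.psi (inA c5)} : Set G)) = 360 := by
    by_contra hne
    let O : Set G := {w | ∃ g ∈ normalizer (D : Set G), g * z * g⁻¹ = w}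
    have hOcard : ∀ w ∈ O, Nat.card (centralizer ({w} : Set G)) = 360 := by
      rintro w ⟨g, -, rfl⟩; rw [centralizer_card_conj, hzcard]
    by_cases hmixO : ∃ g ∈ normalizer (D : Set G), g * z * g⁻¹ ≠ z ∧ g * z * g⁻¹ ≠ z⁻¹
    · obtain ⟨g, hg, hg1, hg2⟩ := hmixO
      obtain ⟨a, b, hab⟩ := hdd _ ((Subgroup.mem_normalizer_iff.1 hg z).1 hzD)
      have hb : b ≠ 0 := by
        rintro rfl
        fin_cases a
        · exact absurd (conj_eq_one_iff.1 (hab.trans (by simp [dd]))) hz1
        · exact hg1 (hab.trans (by simp [dd, P1.val]))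
        · exact hg2 (hab.trans (by simp [dd, map_pow, P1.val, hz2]))
      have ha : a ≠ 0 := by
        rintro rfl
        have h180 := hOcard _ ⟨g, hg, hab⟩
        fin_cases b
        · exact hb rfl
        · exact hne (by simpa [dd] using h180)
        · exact hne (hsq2 _ hz'3 ▸ (by simpa [dd, map_pow] using h180))
      have hO6 : O = Set.range (fun p : Fin 2 × Fin 3 => dd P1.psi p.1.succ p.2) := by
        have hOconj : ∀ k : P35, k ∈ [(1 : P35), inA t5, sP, inA t5 * sP] → ∀ w ∈ O,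
            P1.psi k * w * (P1.psi k)⁻¹ ∈ O ∧ (P1.psi k)⁻¹ * w * P1.psi k ∈ O := by
          rintro k hk w ⟨g', hg', rfl⟩
          refine ⟨⟨P1.psi k * g', mul_mem (htN k hk) hg', by group⟩,
            ⟨(P1.psi k)⁻¹ * g', mul_mem (inv_mem (htN k hk)) hg', by group⟩⟩
        have hpair : ∀ a b : Fin 3, a ≠ 0 → b ≠ 0 → dd P1.psi a b ∈ O := by
          intro a' b' ha' hb'
          obtain ⟨k, hk, h1, -⟩ := mixed_conj a b ha hb
          obtain ⟨k', hk', h1', -⟩ := mixed_conj a' b' ha' hb'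
          have h11 := (hOconj k hk _ ⟨g, hg, hab⟩).1
          rw [dd, ← map_inv, ← map_mul, ← map_mul, h1] at h11
          have h12 := (hOconj k' hk' _ h11).2
          rw [← map_inv, ← map_mul, ← map_mul] at h12
          rwa [dd, show zP ^ (a' : ℕ) * inA c5 ^ (b' : ℕ) = k'⁻¹ * (zP * inA c5) * k' by rw [← h1']; group]
        apply Set.Subset.antisymm
        · rintro w ⟨g', hg', rfl⟩
          obtain ⟨a', b', hab'⟩ := hdd _ ((Subgroup.mem_normalizer_iff.1 hg' z).1 hzD)
          have ha' : a' ≠ 0 := by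
            rintro rfl
            have h180 := hOcard _ ⟨g', hg', hab'⟩
            fin_cases b'
            · exact hz1 (conj_eq_one_iff.1 (hab'.trans (by simp [dd])))
            · exact hne (by simpa [dd] using h180)
            · exact hne (hsq2 _ hz'3 ▸ (by simpa [dd, map_pow] using h180))
          exact ⟨(a'.pred ha', b'), by simp [hab']⟩
        · rintro _ ⟨⟨a', b'⟩, rfl⟩
          by_cases hb' : b' = 0
          · subst hb'
            fin_cases a'
            · exact ⟨1, one_mem _, by simp [dd, P1.val]⟩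
            · refine ⟨P1.psi sP, htN sP (by simp), ?_⟩
              have e := congrArg P1.psi sP_zP
              simp only [map_mul, map_inv, P1.val] at e
              simpa [dd, map_pow, P1.val, hz2] using e
          · exact hpair _ _ (Fin.succ_ne_zero _) hb'
      let N := normalizer (D : Set G)
      letI : MulAction N G := MulAction.compHom G (MulAut.conj.comp N.subtype)
      have horb : MulAction.orbit N z = O := by
        ext w
        exact ⟨fun ⟨g', e⟩ => ⟨g'.1, g'.2, e⟩, fun ⟨g', hg', e⟩ => ⟨⟨g', hg'⟩, e⟩⟩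
      have hst : (centralizer (D : Set G)).subgroupOf N ≤ MulAction.stabilizer N z := fun g' hg' => by
        show (g' : G) * z * (g' : G)⁻¹ = z
        rw [← mem_centralizer_iff.1 (mem_subgroupOf.1 hg') z hzD, mul_inv_cancel_right]
      have hdvd := index_dvd_of_le hst
      rw [MulAction.index_stabilizer, horb, index_eq_card, hNC8, hO6, ← Nat.card_coe_set_eq,
        Nat.card_range_of_injective] at hdvd
      · simp at hdvd
      · intro p q h
        have := (P1.inj.comp dd_inj) (a₁ := (p.1.succ, p.2)) (a₂ := (q.1.succ, q.2)) h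
        simpa [Prod.ext_iff] using this
    · push Not at hmixO
      have hsub : ∀ g ∈ normalizer (D : Set G), ∃ k : P35, P1.psi k = g ∧
          (k.2 * c5 * k.2⁻¹ = (c5 : Perm (Fin 5)) ∨ k.2 * c5 * k.2⁻¹ = (c5 : Perm (Fin 5)) ^ 2) := by
        intro g hg
        obtain ⟨k, rfl⟩ := P1.norm g (or_iff_not_imp_left.2 (hmixO g hg))
        refine ⟨k, rfl, ?_⟩
        obtain ⟨a, b, hab⟩ := hdd _ ((Subgroup.mem_normalizer_iff.1 hg _).1 hz'D)
        have e : k * inA c5 * k⁻¹ = zP ^ (a : ℕ) * inA c5 ^ (b : ℕ) :=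
          P1.inj (by rw [map_mul, map_mul, map_inv]; exact hab)
        have e2 : k.2 * (c5 : Perm (Fin 5)) * k.2⁻¹ = (c5 : Perm (Fin 5)) ^ (b : ℕ) := by
          simpa [zP, inR, inA] using congrArg Prod.snd e
        fin_cases b
        · exact absurd (conj_eq_one_iff.1 (e2.trans (pow_zero _))) (by decide +kernel)
        · exact Or.inl (e2.trans (pow_one _))
        · exact Or.inr e2
      let E : Finset P35 := Finset.univ.filter fun q : P35 =>
        q.2 * c5 * q.2⁻¹ = (c5 : Perm (Fin 5)) ∨ q.2 * c5 * q.2⁻¹ = (c5 : Perm (Fin 5)) ^ 2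
      have hle : Nat.card (normalizer (D : Set G)) ≤ Nat.card E := by
        choose F hF using hsub
        refine Nat.card_le_card_of_injective (fun g => (⟨F g.1 g.2, by simp [E, (hF g.1 g.2).2]⟩ : E)) fun g g' h => ?_
        have h' := congrArg (fun x : E => P1.psi x.1) h
        simp only [(hF g.1 g.2).1, (hF g'.1 g'.2).1] at h'
        exact Subtype.ext h'
      rw [Nat.card_eq_finsetCard, hN144] at hle
      exact absurd (stab_count ▸ hle) (by norm_num)
  -- `y` is mixed
  obtain ⟨ya, yb, hy⟩ := hdd y hyD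
  have hymix : ya ≠ 0 ∧ yb ≠ 0 := by
    have hy1 : y ≠ 1 := by
      rintro rfl
      rw [hone, card_top] at hycard
      have h := card_subgroup_dvd_card (centralizer ({z} : Set G))
      rw [hzcard, hycard] at h
      omega
    constructor
    · rintro rfl
      rw [hy] at hycard
      fin_cases yb
      · exact hy1 (hy.trans (by simp [dd]))
      · simp [dd, hz'card] at hycard
      · simp [dd, map_pow, hsq2 _ hz'3, hz'card] at hycard
    · rintro rfl
      rw [hy] at hycard
      fin_cases ya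
      · exact hy1 (hy.trans (by simp [dd]))
      · simp [dd, P1.val, hzcard] at hycard
      · simp [dd, map_pow, P1.val, hsq2 _ hz3, hzcard] at hycard
  set w := z * P1.psi (inA c5) with hw
  have hwD : w ∈ D := mul_mem hzD hz'D
  have hwcard : Nat.card (centralizer ({w} : Set G)) = 36 := by
    rw [← hmixcard ya yb hymix.1 hymix.2, ← hy, hycard]
  obtain ⟨k, hk, hk1, -⟩ := mixed_conj ya yb hymix.1 hymix.2
  have hky : P1.psi k * y * (P1.psi k)⁻¹ = w := by
    rw [hy, dd, ← map_inv, ← map_mul, ← map_mul, hk1, map_mul, P1.val]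
  have hback : ∀ g ∈ centralizer ({w} : Set G), (P1.psi k)⁻¹ * g * P1.psi k ∈ centralizer ({y} : Set G) := by
    intro g hg
    rw [mem_centralizer_singleton_iff, show y = (P1.psi k)⁻¹ * w * P1.psi k by rw [← hky]; group]
    calc (P1.psi k)⁻¹ * g * P1.psi k * ((P1.psi k)⁻¹ * w * P1.psi k) = (P1.psi k)⁻¹ * (g * w) * P1.psi k := by group
      _ = (P1.psi k)⁻¹ * (w * g) * P1.psi k := by rw [mem_centralizer_singleton_iff.1 hg]
      _ = _ := by group
  have hDy : D ≤ centralizer ({y} : Set G) := fun a ha =>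
    mem_centralizer_singleton_iff.2 (hDc a ha y hyD)
  have hCy : centralizer ({y} : Set G) ≤ normalizer (D : Set G) := by
    intro g hg
    rw [Subgroup.mem_normalizer_iff]
    intro x
    constructor
    · intro hx
      exact hyn.conj_mem ⟨x, hDy hx⟩ hx ⟨g, hg⟩
    · intro hx
      have := hyn.conj_mem ⟨g * x * g⁻¹, hDy hx⟩ hx ⟨g⁻¹, inv_mem hg⟩
      have e : g⁻¹ * (g * x * g⁻¹) * g = x := by group
      simpa [mem_subgroupOf, e] using this
  have hwN : centralizer ({w} : Set G) ≤ normalizer (D : Set G) := by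
    intro g hg
    have := mul_mem (mul_mem (htN k hk) (hCy (hback g hg))) (inv_mem (htN k hk))
    simpa [mul_assoc] using this
  have hwsq : ∀ g ∈ centralizer ({w} : Set G), g * g ∈ D := by
    intro g hg
    have h1 := hysq _ (hback g hg)
    have h2 := (Subgroup.mem_normalizer_iff.1 (htN k hk) _).1 h1
    rwa [pow_two, show P1.psi k * ((P1.psi k)⁻¹ * g * P1.psi k * ((P1.psi k)⁻¹ * g * P1.psi k)) * (P1.psi k)⁻¹ = g * g by group] at h2
  -- the exchanging involution
  obtain ⟨g, hgw, hgC⟩ : ∃ g ∈ centralizer ({w} : Set G), g ∉ centralizer (D : Set G) := by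
    by_contra! hle
    have := Subgroup.card_le_of_le (show centralizer ({w} : Set G) ≤ centralizer (D : Set G) from hle)
    omega
  obtain ⟨i, hidef⟩ : ∃ i, i = g * g * g := ⟨_, rfl⟩
  have hiw : i ∈ centralizer ({w} : Set G) := hidef ▸ mul_mem (mul_mem hgw hgw) hgw
  have hi2 : i * i = 1 := by
    rw [← hexp _ (hwsq g hgw), pow_succ, pow_two, hidef]; group
  have hDC : D ≤ centralizer (D : Set G) := fun a ha => mem_centralizer_iff.2 fun b hb => hDc b hb a ha
  have hiC : i ∉ centralizer (D : Set G) := fun h => hgC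
    (((centralizer (D : Set G)).mul_mem_cancel_left (hDC (hwsq g hgw))).1 (hidef ▸ h))
  have hi1 : i ≠ 1 := fun e => hiC (e ▸ one_mem _)
  have hinv : i⁻¹ = i := inv_eq_of_mul_eq_one_right hi2
  have himg : ∀ x ∈ D, i * x * i ∈ D := fun x hx => by
    have := (Subgroup.mem_normalizer_iff.1 (hwN hiw) x).1 hx
    rwa [hinv] at this
  obtain ⟨a, b, hab⟩ := hdd _ (himg z hzD)
  obtain ⟨a', b', hab'⟩ := hdd _ (himg _ hz'D)
  have hpure : ∀ a b : Fin 3, Nat.card (centralizer ({dd P1.psi a b} : Set G)) = 360 →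
      dd P1.psi a b ≠ 1 → (a = 0 ↔ ¬ b = 0) := by
    intro a b h180 hne
    by_cases ha : a = 0 <;> by_cases hb : b = 0
    · subst ha hb; exact absurd (by simp [dd]) hne
    · simp [ha, hb]
    · simp [ha, hb]
    · rw [hmixcard a b ha hb, hwcard] at h180; omega
  have h1 := hpure a b (by rw [← hab]; nth_rw 2 [← hinv]; rw [centralizer_card_conj, hzcard]) (by
    rw [← hab]; nth_rw 2 [← hinv]; exact fun e => hz1 (conj_eq_one_iff.1 e))
  have hz'1 : P1.psi (inA c5) ≠ 1 := fun e => by
    rw [← map_one P1.psi] at e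
    exact (show (inA c5 : P35) ≠ 1 by decide +kernel) (P1.inj e)
  have h2 := hpure a' b' (by rw [← hab']; nth_rw 2 [← hinv]; rw [centralizer_card_conj, hz'card]) (by
    rw [← hab']; nth_rw 2 [← hinv]; exact fun e => hz'1 (conj_eq_one_iff.1 e))
  have hprod : dd P1.psi a b * dd P1.psi a' b' = w := by
    rw [← hab, ← hab']
    calc i * z * i * (i * P1.psi (inA c5) * i) = i * z * (i * i) * P1.psi (inA c5) * i := by group
      _ = i * w * i := by rw [hi2]; simp [w, mul_assoc]
      _ = w * (i * i) := by rw [mem_centralizer_singleton_iff.1 hiw, mul_assoc]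
      _ = w := by rw [hi2, mul_one]
  have hprod' : (zP ^ (a : ℕ) * inA c5 ^ (b : ℕ)) * (zP ^ (a' : ℕ) * inA c5 ^ (b' : ℕ)) = zP * inA c5 :=
    P1.inj (by rw [map_mul, map_mul P1.psi zP, P1.val]; exact hprod)
  have hiz : i * z * i = P1.psi (inA c5) ∧ i * P1.psi (inA c5) * i = z := by
    rcases pair_cases a b a' b' h1 h2 hprod' with ⟨rfl, rfl, rfl, rfl⟩ | ⟨rfl, rfl, rfl, rfl⟩
    · refine absurd ?_ hiC
      have c1 : Commute i z := by
        calc i * z = i * z * i * i := by rw [mul_assoc _ i i, hi2, mul_one]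
          _ = z * i := by rw [hab]; simp [dd, P1.val]
      have c2 : Commute i (P1.psi (inA c5)) := by
        calc i * P1.psi (inA c5) = i * P1.psi (inA c5) * i * i := by rw [mul_assoc _ i i, hi2, mul_one]
          _ = P1.psi (inA c5) * i := by rw [hab']; simp [dd]
      rw [mem_centralizer_iff]
      intro x hx
      obtain ⟨a, b, rfl⟩ := hdd x hx
      simp only [dd, map_mul, map_pow, P1.val]
      exact ((c1.pow_right _).mul_right (c2.pow_right _)).eq.symm
    · exact ⟨hab.trans (by simp [dd]), hab'.trans (by simp [dd, P1.val])⟩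
  have himul : ∀ x y : G, i * (x * y) * i = (i * x * i) * (i * y * i) := fun x y => by
    calc i * (x * y) * i = i * x * 1 * y * i := by group
      _ = i * x * (i * i) * y * i := by rw [hi2]
      _ = _ := by group
  have hswap : ∀ x : G, i * (i * x * i) * i = x := fun x => by
    calc i * (i * x * i) * i = (i * i) * x * (i * i) := by group
      _ = x := by rw [hi2, one_mul, mul_one]
  -- `i` fixes `e`
  set e := P1.psi eP with hedef
  have hee : e * e = 1 := by rw [hedef, ← map_mul, he2, map_one]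
  have hene : e ≠ 1 := fun h => he1 (P1.inj (h.trans (map_one _).symm))
  have hez' : e * z = z * e := by simpa [P1.val] using congrArg P1.psi hez
  have hec' : e * P1.psi (inA c5) = P1.psi (inA c5) * e := by rw [hedef, ← map_mul, ← map_mul, hec]
  have hie : i * e * i = e := by
    have hsq : i * e * i * (i * e * i) = 1 := by rw [← himul, hee, mul_one, hi2]
    rcases hcentD (i * e * i) (by rw [← hiz.2, ← himul, hec', himul]) (by rw [← hiz.1, ← himul, hez', himul]) with h | h
    · exfalso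
      have h3 := hexp _ h
      rw [pow_succ, pow_two, hsq, one_mul] at h3
      refine hene ?_
      rw [← hswap e, h3, mul_one, hi2]
    · have h3 := hexp _ h
      have hc : Commute (i * e * i) e := by
        have h' : e * (i * e * i * e) = i * e * i * e * e :=
          (mem_centralizer_iff.1 heC _ h).symm
        show i * e * i * e = e * (i * e * i)
        calc i * e * i * e = i * e * i * e * e * e := by rw [mul_assoc (i * e * i * e) e e, hee, mul_one]
          _ = e * (i * e * i * e) * e := by rw [← h']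
          _ = e * (i * e * i) * (e * e) := by group
          _ = _ := by rw [hee, mul_one]
      rw [hc.mul_pow, pow_succ, pow_two, hsq, one_mul, pow_succ, pow_two, hee, one_mul] at h3
      exact mul_left_injective e (h3.trans hee.symm)
  -- the image of `t` under the exchange
  set t := P1.psi (inA t5)
  set u := i * t * i with hu
  have hu_conj : ∀ x, u * x * u⁻¹ = i * (t * (i * x * i) * t⁻¹) * i := by
    intro x
    rw [hu, mul_inv_rev, mul_inv_rev, hinv]
    group
  have huz : u * z * u⁻¹ = z⁻¹ := by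
    rw [hu_conj, hiz.1, ← map_inv, ← map_mul, ← map_mul, ht1, map_inv]
    calc i * (P1.psi (inA c5))⁻¹ * i = (i * P1.psi (inA c5) * i)⁻¹ := by
          rw [mul_inv_rev, mul_inv_rev, hinv, mul_assoc]
      _ = z⁻¹ := by rw [hiz.2]
  have huz' : u * P1.psi (inA c5) = P1.psi (inA c5) * u := by
    have e' := congrArg P1.psi ht2
    simp only [map_mul, map_inv, P1.val] at e'
    rw [← mul_inv_eq_iff_eq_mul, hu_conj, hiz.2, e', hiz.1]
  obtain ⟨k', hk'⟩ := P1.norm u (Or.inr huz)
  have hu2 : u * u = 1 := by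
    rw [hu, ← himul, ← map_mul, htt, map_one, mul_one, hi2]
  obtain ⟨av, hfix, hfix0, hcases⟩ := u_shape k' (P1.inj (by rw [map_mul, hk', hu2, map_one]))
    (P1.inj (by rw [map_mul, map_mul, map_inv, hk', map_inv, P1.val, huz]))
    (P1.inj (by rw [map_mul, map_mul, hk', huz']))
  obtain ⟨P2, hP2⟩ := P1.twist av hfix0
  have hfR : ∀ p, P2.psi (inR p) = P1.psi (inR p) := fun p => by rw [hP2, hfix]
  have hfA : ∀ p, P2.psi (inA p) = P1.psi (inA p) := fun p => hfR _
  have hfe : P2.psi eP = e := hfR _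
  refine ⟨{ psi := P2.psi, psi_inj := P2.inj, norm_z := fun g hg => P2.norm g (by rwa [P2.val] at hg),
            i := i, i_sq := hi2, i_ne := hi1, i_z := ?_, i_e := ?_, i_t := ?_, D := D, z_mem := ?_,
            z'_mem := ?_, card_D := hcard, D_comm := hDc, cent_D := fun g h1 h2 => ?_,
            conj_D := fun Q hQ => ?_, not_27 := ?_, norm_D := hN144, d8 := ?_, cent_y := ?_, cent_y_le := ?_,
            card_cz := ?_ }⟩
  · rw [P2.val, hfA]; exact hiz.1
  · rw [hfe]; exact hie
  · rw [hfA, hP2, hP2]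
    exact hcases.imp (fun h => by rw [h, hk']) (fun h => by rw [h, hk'])
  · rw [P2.val]; exact hzD
  · rw [hfA]; exact hz'D
  · rw [P2.val] at h1
    rw [hfA] at h2
    rw [hfe]
    exact hcentD g h1 h2
  · obtain ⟨S, hS⟩ := (IsPGroup.of_card (p := 3) (n := 2) hQ).exists_le_sylow
    obtain ⟨k, hk⟩ := MulAction.exists_smul_eq G S P
    refine ⟨k, fun a ha => ?_⟩
    rw [hDP, ← hk]
    exact ⟨a, hS ha, rfl⟩
  · intro h27
    obtain ⟨H, hH⟩ := Sylow.exists_subgroup_card_pow_prime 3 (show 3 ^ 3 ∣ Nat.card G by norm_num; exact h27)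
    obtain ⟨S, hS⟩ := (IsPGroup.of_card hH).exists_le_sylow
    have h := card_dvd_of_le hS
    rw [hH, Nat.card_congr (S.equiv P).toEquiv, ← hDP, hcard] at h
    norm_num at h
  · refine ⟨eNC.toMonoidHom.comp (QuotientGroup.mk' _), eNC.surjective.comp (QuotientGroup.mk'_surjective _), fun n => ?_⟩
    show eNC (QuotientGroup.mk' _ n) = 1 ↔ _
    rw [map_eq_one_iff _ eNC.injective, QuotientGroup.mk'_apply, QuotientGroup.eq_one_iff, mem_subgroupOf]
  · rw [P2.val, hfA]; exact hwcard
  · rw [P2.val, hfA]; exact hwN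
  · rw [P2.val]; exact hzcard

end Cfsg.Agent.S8ThreeLocal
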