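import Cfsg.Agent.A8ThreeLocal.Degenerate

/-!
Computations in small symmetric groups for the 3-local characterisation of the symmetric group of
degree eight.
-/

set_option autoImplicit false
set_option maxRecDepth 100000
set_option synthInstance.maxSize 2000
set_option synthInstance.maxHeartbeats 400000

namespace Cfsg.Agent.S8ThreeLocal

open Equiv Equiv.Perm
open Cfsg.Agent.A8ThreeLocal (A5 c5 t5 v5 a1 a2 a3 b1 r3 s3 tau InV1 InV2 tauHom)

/-- The six elements of the group generated by `c5` and `(0 1)`. -/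
def SE : List (Perm (Fin 5)) :=
  [1, c5, (c5 : Perm (Fin 5))⁻¹, swap 0 1, swap 0 1 * (c5 : Perm (Fin 5)), swap 0 1 * (c5 : Perm (Fin 5))⁻¹]

/-- The six elements of the group generated by `c5` and `t5`. -/
def SS : List (Perm (Fin 5)) :=
  [1, c5, (c5 : Perm (Fin 5))⁻¹, t5, (t5 : Perm (Fin 5)) * (c5 : Perm (Fin 5)), (t5 : Perm (Fin 5)) * (c5 : Perm (Fin 5))⁻¹]

/-- The two element words used below. -/
def Words (L : List (Perm (Fin 5))) (T : List (Perm (Fin 5))) (p : Perm (Fin 5)) : Prop :=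
  p ∈ L ∨ ∃ a ∈ L, ∃ b ∈ L, a * p * b ∈ T ∨ ∃ d ∈ L, a * p * b * p * d ∈ T ∨ a * p * b * p⁻¹ * d ∈ T

theorem words_SE : ∀ p : Perm (Fin 5), Words SE [(a1 : Perm (Fin 5)), b1, tau] p := by
  unfold Words
  decide +kernel

theorem words_SS : ∀ p : Perm (Fin 5), Words SS [(a1 : Perm (Fin 5)), tau] p := by
  unfold Words
  decide +kernel

theorem gen_A5 : ∀ p : A5, ∃ a ∈ [1, c5, c5⁻¹, t5, t5 * c5, t5 * c5⁻¹], ∃ w ∈ [1, v5],
    ∃ b ∈ [1, c5, c5⁻¹, t5, t5 * c5, t5 * c5⁻¹], ∃ w' ∈ [1, v5],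
    ∃ d ∈ [1, c5, c5⁻¹, t5, t5 * c5, t5 * c5⁻¹], p = a * w * b * w' * d := by decide +kernel

theorem closure_A5 {S : Subgroup A5} (hc : c5 ∈ S) (ht : t5 ∈ S) (hv : v5 ∈ S) (p : A5) : p ∈ S := by
  have h6 : ∀ a ∈ [1, c5, c5⁻¹, t5, t5 * c5, t5 * c5⁻¹], a ∈ S := by
    intro a ha
    simp only [List.mem_cons, List.not_mem_nil, or_false] at ha
    rcases ha with rfl | rfl | rfl | rfl | rfl | rfl
    · exact one_mem _
    · exact hc
    · exact inv_mem hc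
    · exact ht
    · exact mul_mem ht hc
    · exact mul_mem ht (inv_mem hc)
  have h2 : ∀ a ∈ [1, v5], a ∈ S := by
    intro a ha
    simp only [List.mem_cons, List.not_mem_nil, or_false] at ha
    rcases ha with rfl | rfl
    · exact one_mem _
    · exact hv
  obtain ⟨a, ha, w, hw, b, hb, w', hw', d, hd, rfl⟩ := gen_A5 p
  exact mul_mem (mul_mem (mul_mem (mul_mem (h6 a ha) (h2 w hw)) (h6 b hb)) (h2 w' hw')) (h6 d hd)

theorem comm_c5 : ∀ p : Perm (Fin 5), p * (c5 : Perm (Fin 5)) = c5 * p →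
    ∃ b : Fin 3, p = (c5 : Perm (Fin 5)) ^ (b : ℕ) ∨ p = (c5 : Perm (Fin 5)) ^ (b : ℕ) * tau := by
  decide +kernel

theorem inv_c5_cent : ∀ p : Perm (Fin 5), p * p = 1 → p * (c5 : Perm (Fin 5)) = c5 * p →
    p = 1 ∨ p = tau := by decide +kernel

theorem cube_five' : ∀ p : Perm (Fin 5), p ^ 3 = 1 → p ≠ 1 →
    ∃ s : Perm (Fin 5), s * (c5 : Perm (Fin 5)) * s⁻¹ = p := by decide +kernel

theorem r3_cases : ∀ σ : Perm (Fin 3), σ * r3 = r3 * σ → ∃ a : Fin 3, σ = r3 ^ (a : ℕ) := by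
  decide +kernel

theorem v5_comm : ∃ a b : A5, a * b * a⁻¹ * b⁻¹ = v5 :=
  ⟨⟨swap 1 3 * swap 3 4, mem_alternatingGroup.2 (by decide)⟩,
    ⟨swap 0 1 * swap 3 4, mem_alternatingGroup.2 (by decide)⟩, by decide +kernel⟩

theorem cent_V1 : ∀ p : Perm (Fin 5), p * (a1 : Perm (Fin 5)) = a1 * p → p * (a3 : Perm (Fin 5)) = a3 * p →
    ∃ q : A5, InV1 q ∧ (q : Perm (Fin 5)) = p := by decide +kernel

theorem tau_facts : tauHom v5 = t5 * v5 ∧ tauHom t5 = t5 ∧ tauHom c5 = c5 ∧ tauHom a1 ≠ a1 ∧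
    (t5 : Perm (Fin 5)) * tau = swap 0 1 ∧ (v5 : A5) * v5 = 1 ∧ v5 * t5 = t5 * v5 := by decide +kernel

theorem cent_t5_tau : ∀ p : Perm (Fin 5), p * (t5 : Perm (Fin 5)) = t5 * p → p * tau = tau * p →
    p = 1 ∨ p = t5 ∨ p = tau ∨ p = (t5 : Perm (Fin 5)) * tau := by decide +kernel

theorem cent_s3 : ∀ σ : Perm (Fin 3), σ * s3 = s3 * σ → σ = 1 ∨ σ = s3 := by decide +kernel

theorem tau_norm_c5 : ∀ p : Perm (Fin 5), p * tau = tau * p →
    p * (c5 : Perm (Fin 5)) * p⁻¹ = c5 ∨ p * (c5 : Perm (Fin 5)) * p⁻¹ = (c5 : Perm (Fin 5))⁻¹ := by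
  decide +kernel

end Cfsg.Agent.S8ThreeLocal
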